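import Mathlib

/-!
# Power sums of the eigenvalues of a matrix and the coefficients of its characteristic polynomial
-/

set_option autoImplicit false

namespace CfsgLib.DefectOne

open Polynomial Matrix

variable {K : Type*} [Field K] [IsAlgClosed K] {n : Type*} [Fintype n] [DecidableEq n]

theorem det_sub_scalar (A : Matrix n n K) (a : K) :
    (A - Matrix.scalar n a).det = (A.charpoly.roots.map fun l => l - a).prod := by
  have hr : A.charpoly = (A.charpoly.roots.map fun l => X - C l).prod :=
    (IsAlgClosed.splits A.charpoly).eq_prod_roots_of_monic A.charpoly_monic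
  have hcard : A.charpoly.roots.card = Fintype.card n := by
    rw [IsAlgClosed.card_roots_eq_natDegree, Matrix.charpoly_natDegree_eq_dim]
  rw [← neg_sub, Matrix.det_neg, ← Matrix.eval_charpoly]
  conv_lhs => rw [hr]
  rw [eval_multiset_prod, Multiset.map_map]
  have h2 : (A.charpoly.roots.map fun l => l - a) = (A.charpoly.roots.map fun l => a - l).map fun z => -1 * z := by
    rw [Multiset.map_map]; exact Multiset.map_congr rfl fun l _ => by simp
  rw [h2, Multiset.prod_map_mul, Multiset.map_const', Multiset.prod_replicate, Multiset.map_id', Multiset.card_map, hcard]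
  congr 2
  exact Multiset.map_congr rfl fun l _ => by simp

/-- The eigenvalues of `A ^ j` are the powers of those of `A`. -/
theorem roots_charpoly_pow [Infinite K] (A : Matrix n n K) (j : ℕ) (hj : 0 < j) :
    (A ^ j).charpoly.roots = A.charpoly.roots.map fun l => l ^ j := by
  suffices h : (A ^ j).charpoly = ((A.charpoly.roots.map fun l => l ^ j).map fun l => X - C l).prod by
    rw [h, roots_multiset_prod_X_sub_C]
  refine Polynomial.funext fun μ => ?_
  rw [eval_multiset_prod, Matrix.eval_charpoly, Multiset.map_map, Multiset.map_map]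
  -- the roots of `X ^ j - μ`
  set s := (X ^ j - C μ : K[X]).roots with hs
  have hf : (X ^ j - C μ : K[X]) = (s.map fun a => X - C a).prod :=
    (IsAlgClosed.splits _).eq_prod_roots_of_monic (monic_X_pow_sub_C μ hj.ne')
  obtain ⟨L, hL⟩ : ∃ L : List K, (L : Multiset K) = s := ⟨s.toList, Multiset.coe_toList s⟩
  rw [← hL] at hf
  simp only [Multiset.map_coe, Multiset.prod_coe] at hf
  have h1 : A ^ j - Matrix.scalar n μ = (L.map fun a => A - Matrix.scalar n a).prod := by
    have := congrArg (aeval A) hf
    rw [map_sub, aeval_X_pow, aeval_C, map_list_prod, List.map_map] at this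
    rw [show Matrix.scalar n μ = algebraMap K (Matrix n n K) μ from rfl, this]
    congr 1
    refine List.map_congr_left fun a _ => ?_
    simp [Matrix.algebraMap_eq_diagonal]
  have h2 : ∀ l : K, l ^ j - μ = (L.map fun a => l - a).prod := fun l => by
    have := congrArg (Polynomial.eval l) hf
    rw [eval_sub, eval_pow, eval_X, eval_C, eval_list_prod, List.map_map] at this
    rw [this]; congr 1; exact List.map_congr_left fun a _ => by simp
  have hcard : A.charpoly.roots.card = Fintype.card n := by
    rw [IsAlgClosed.card_roots_eq_natDegree, Matrix.charpoly_natDegree_eq_dim]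
  have h3 : (Matrix.scalar n μ - A ^ j).det =
      (-1) ^ Fintype.card n * (A.charpoly.roots.map fun l => l ^ j - μ).prod := by
    rw [← neg_sub, Matrix.det_neg, h1, ← Matrix.coe_detMonoidHom, map_list_prod]
    congr 1
    rw [List.map_map, List.map_congr_left fun a _ => by simpa using det_sub_scalar A a]
    simp only [h2]
    clear hf h1 h2 hL
    induction L with
    | nil => simp
    | cons a L ih =>
      simp only [List.map_cons, List.prod_cons, ih, Multiset.prod_map_mul]
  rw [h3]
  have h4 : (A.charpoly.roots.map fun l => μ - l ^ j) = (A.charpoly.roots.map fun l => l ^ j - μ).map fun z => -1 * z := by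
    rw [Multiset.map_map]; exact Multiset.map_congr rfl fun l _ => by simp
  simp only [Function.comp_def, eval_sub, eval_X, eval_C]
  rw [h4, Multiset.prod_map_mul, Multiset.map_const', Multiset.prod_replicate, Multiset.map_id', Multiset.card_map, hcard]

theorem trace_pow_eq_sum_roots [Infinite K] (A : Matrix n n K) (j : ℕ) (hj : 0 < j) :
    (A ^ j).trace = (A.charpoly.roots.map fun l => l ^ j).sum := by
  rw [Matrix.trace_eq_sum_roots_charpoly, roots_charpoly_pow A j hj]

/-- A `ℚ`-subalgebra of families containing the traces of the powers contains the characteristic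
coefficients. -/
theorem coeff_charpoly_mem {ι : Type*} [CharZero K] (A : ι → Matrix n n K) (S : Subring (ι → K))
    (hdiv : ∀ v ∈ S, ∀ m : ℕ, 0 < m → (fun q => v q / (m : K)) ∈ S)
    (htr : ∀ j : ℕ, 0 < j → (fun q => (A q ^ j).trace) ∈ S) (i : ℕ) :
    (fun q => (A q).charpoly.coeff i) ∈ S := by
  classical
  have hcard : ∀ q, (A q).charpoly.roots.card = Fintype.card n := fun q => by
    rw [IsAlgClosed.card_roots_eq_natDegree, Matrix.charpoly_natDegree_eq_dim]
  have hes : ∀ m : ℕ, (fun q => (A q).charpoly.roots.esymm m) ∈ S := by
    intro m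
    induction m using Nat.strong_induction_on with
    | _ m ih =>
      rcases Nat.eq_zero_or_pos m with rfl | hm
      · have h1 : (fun q => (A q).charpoly.roots.esymm 0) = 1 := funext fun q => by simp [Multiset.esymm]
        rw [h1]; exact S.one_mem
      have hrec : (fun q => (A q).charpoly.roots.esymm m) = fun q => ((-1 : K) ^ (m + 1) *
          ∑ a ∈ Finset.HasAntidiagonal.antidiagonal m with a.1 < m,
            (-1) ^ a.1 * (A q).charpoly.roots.esymm a.1 * (A q ^ a.2).trace) / (m : K) := by
        funext q
        obtain ⟨f, hf⟩ : ∃ f : n → K, Finset.univ.val.map f = (A q).charpoly.roots := by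
          obtain ⟨L, hL⟩ : ∃ L : List K, (L : Multiset K) = (A q).charpoly.roots := ⟨_, Multiset.coe_toList _⟩
          have hlen : L.length = Fintype.card n := by rw [← hcard q, ← hL, Multiset.coe_card]
          let e : n ≃ Fin L.length := (Fintype.equivFin n).trans (finCongr hlen.symm)
          refine ⟨fun x => L.get (e x), ?_⟩
          rw [← Function.comp_def L.get e, ← Multiset.map_map,
            show Finset.univ.val.map e = (Finset.univ : Finset (Fin L.length)).val from
              (Finset.map_val e.toEmbedding Finset.univ).symm.trans (by rw [Finset.map_univ_equiv])]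
          rw [← hL, Fin.univ_val_map, List.ofFn_get]
        rw [← hf]
        have h := congrArg (MvPolynomial.aeval f) (MvPolynomial.mul_esymm_eq_sum n K m)
        simp only [map_mul, map_natCast, map_pow, map_neg, map_one, map_sum,
          MvPolynomial.aeval_esymm_eq_multiset_esymm] at h
        rw [eq_div_iff (Nat.cast_ne_zero.2 hm.ne'), mul_comm, h]
        congr 1
        refine Finset.sum_congr rfl fun a ha => ?_
        obtain ⟨ha1, ha2⟩ := Finset.mem_filter.1 ha
        congr 1
        rw [trace_pow_eq_sum_roots (A q) a.2 (by rw [Finset.HasAntidiagonal.mem_antidiagonal] at ha1; omega), ← hf,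
          Multiset.map_map]
        simp [MvPolynomial.psum]
      rw [hrec]
      refine hdiv _ ?_ m hm
      have hs : (fun q => (-1 : K) ^ (m + 1) * ∑ a ∈ Finset.HasAntidiagonal.antidiagonal m with a.1 < m,
          (-1) ^ a.1 * (A q).charpoly.roots.esymm a.1 * (A q ^ a.2).trace) =
          (-1) ^ (m + 1) * ∑ a ∈ Finset.HasAntidiagonal.antidiagonal m with a.1 < m,
          (-1) ^ a.1 * (fun q => (A q).charpoly.roots.esymm a.1) * (fun q => (A q ^ a.2).trace) := by
        funext q; simp [Finset.sum_apply]
      rw [hs]
      refine S.mul_mem (S.pow_mem (S.neg_mem S.one_mem) _) (S.sum_mem fun a ha => ?_)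
      obtain ⟨ha1, ha2⟩ := Finset.mem_filter.1 ha
      exact S.mul_mem (S.mul_mem (S.pow_mem (S.neg_mem S.one_mem) _) (ih a.1 ha2))
        (htr a.2 (by rw [Finset.HasAntidiagonal.mem_antidiagonal] at ha1; omega))
  by_cases hi : i ≤ Fintype.card n
  · have : (fun q => (A q).charpoly.coeff i) =
        (-1) ^ (Fintype.card n - i) * fun q => (A q).charpoly.roots.esymm (Fintype.card n - i) := by
      funext q
      rw [coeff_eq_esymm_roots_of_card (by rw [hcard, Matrix.charpoly_natDegree_eq_dim])
        (by rw [Matrix.charpoly_natDegree_eq_dim]; exact hi), (A q).charpoly_monic.leadingCoeff, one_mul,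
        Matrix.charpoly_natDegree_eq_dim]
      rfl
    rw [this]
    exact S.mul_mem (S.pow_mem (S.neg_mem S.one_mem) _) (hes _)
  · have : (fun q => (A q).charpoly.coeff i) = 0 := funext fun q => coeff_eq_zero_of_natDegree_lt (by
      rw [Matrix.charpoly_natDegree_eq_dim]; omega)
    rw [this]; exact S.zero_mem

end CfsgLib.DefectOne
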