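import Cfsg.Agent.DefectOne.Setup
import Cfsg.Agent.BrauerInd.Galois
import Cfsg.Agent.Exceptional.QuatChar

/-!
# Coefficients of characters on the singular sections

For a character `χ`, `cc χ i φ` is the `φ`-coefficient of `v ↦ χ (x ^ i v)`, `mm χ j φ` the multiplicity of
`λ_j ⊗ φ` in `⟨x⟩ × V`, and `d χ j φ` the integer `mm χ j φ - mm χ 0 φ`.
-/

set_option autoImplicit false
set_option linter.style.haveILetI false
set_option linter.unusedSectionVars false

namespace CfsgLib.DefectOne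

open Cfsg CfsgLib.CharBasics
open CfsgLib.Clifford (conjFun conjFun_apply conjFun_one conjFun_mul isIrrCharacter_conjFun)
open scoped ComplexConjugate

universe u

namespace Data

variable {G : Type u} [Group G] [Fintype G] {p : ℕ} [Fact p.Prime] (D : Data G p)

/-- Finite instances. -/
noncomputable instance fintypeH : Fintype D.H := Fintype.ofFinite _
noncomputable instance fintypeV : Fintype D.V := Fintype.ofFinite _
noncomputable instance fintypeIrrV : Fintype (IrrCharacter D.V) := Fintype.ofFinite _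

/-- The standard character of `ZMod p`. -/
noncomputable abbrev ee (a : ZMod p) : ℂ := ZMod.stdAddChar a

theorem ee_add (a b : ZMod p) : ee (a + b) = ee a * ee b := AddChar.map_add_eq_mul _ a b

theorem ee_zero : ee (0 : ZMod p) = 1 := AddChar.map_zero_eq_one _

theorem conj_ee (a : ZMod p) : conj (ee a) = ee (-a) := (AddChar.map_neg_eq_conj _ a).symm

theorem sum_ee_mul (b : ZMod p) : ∑ a : ZMod p, ee (a * b) = if b = 0 then (p : ℂ) else 0 := by
  refine (AddChar.sum_mulShift b (ZMod.isPrimitive_stdAddChar p)).trans ?_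
  rw [ZMod.card]
  split_ifs <;> simp

theorem natCast_p_ne_zero : (p : ℂ) ≠ 0 := Nat.cast_ne_zero.2 (Fact.out : p.Prime).ne_zero

theorem natCast_V_ne_zero : (Nat.card D.V : ℂ) ≠ 0 := Nat.cast_ne_zero.2 Nat.card_pos.ne'

/-- The points as a homomorphism. -/
noncomputable def ptHom : Multiplicative (ZMod p) × D.V →* G :=
  MonoidHom.mk' (fun q => D.pt (q.1.toAdd, q.2)) fun q q' => by
    simp only [Prod.fst_mul, Prod.snd_mul, toAdd_mul]
    exact D.pt_mul _ _ _ _

/-- The `φ`-coefficient of `v ↦ χ (x ^ i v)`. -/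
noncomputable def cc (χ : G → ℂ) (i : ZMod p) (φ : D.V → ℂ) : ℂ :=
  classInner (fun v : D.V => χ (D.pt (i, v))) φ

/-- The multiplicity of `λ_j ⊗ φ`. -/
noncomputable def mm (χ : G → ℂ) (j : ZMod p) (φ : D.V → ℂ) : ℂ :=
  (p : ℂ)⁻¹ * ∑ i, D.cc χ i φ * conj (ee (i * j))

/-- The difference `mm j - mm 0`. -/
noncomputable def dd (χ : G → ℂ) (j : ZMod p) (φ : D.V → ℂ) : ℂ := D.mm χ j φ - D.mm χ 0 φ

theorem dd_zero (χ : G → ℂ) (φ : D.V → ℂ) : D.dd χ 0 φ = 0 := sub_self _

theorem dd_eq (χ : G → ℂ) (j : ZMod p) (φ : D.V → ℂ) :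
    D.dd χ j φ = (p : ℂ)⁻¹ * ∑ i, D.cc χ i φ * (conj (ee (i * j)) - 1) := by
  simp [dd, mm, mul_sub, Finset.sum_sub_distrib, ee_zero]

theorem exists_nat_mm {χ : G → ℂ} (hχ : IsCharacter G χ) (j : ZMod p) {φ : D.V → ℂ} (hφ : IsCharacter D.V φ) :
    ∃ m : ℕ, D.mm χ j φ = m := by
  let l : Multiplicative (ZMod p) × D.V →* ℂ :=
    { toFun := fun q => ee (q.1.toAdd * j)
      map_one' := by simp
      map_mul' := fun q q' => by simp only [Prod.fst_mul, toAdd_mul, add_mul, ee_add] }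
  obtain ⟨m, hm⟩ := classInner_characters_nat (CharBasics.isCharacter_comp hχ D.ptHom)
    (CharBasics.isCharacter_mul (Exceptional.isCharacter_monoidHom l) (CharBasics.isCharacter_comp hφ (MonoidHom.snd _ _)))
  refine ⟨m, ?_⟩
  rw [← hm, classInner_eq, Nat.card_prod, Fintype.sum_prod_type, mm, Finset.mul_sum, Nat.cast_mul, mul_inv]
  rw [show (Nat.card (Multiplicative (ZMod p)) : ℂ) = p by
    simp [Nat.card_eq_fintype_card, ZMod.card]]
  rw [Finset.mul_sum]
  refine Fintype.sum_equiv Multiplicative.ofAdd _ _ fun i => ?_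
  simp only [cc, classInner_eq, ptHom, MonoidHom.mk'_apply, MonoidHom.coe_mk, OneHom.coe_mk, MonoidHom.coe_snd, Pi.mul_apply,
    map_mul, toAdd_ofAdd, l, Finset.mul_sum, Finset.sum_mul]
  exact Finset.sum_congr rfl fun v _ => by ring

theorem exists_int_dd {χ : G → ℂ} (hχ : IsCharacter G χ) (j : ZMod p) {φ : D.V → ℂ} (hφ : IsCharacter D.V φ) :
    ∃ z : ℤ, D.dd χ j φ = z := by
  obtain ⟨a, ha⟩ := D.exists_nat_mm hχ j hφ
  obtain ⟨b, hb⟩ := D.exists_nat_mm hχ 0 hφ
  exact ⟨(a : ℤ) - b, by rw [dd, ha, hb]; simp⟩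

/-- The integers attached to an irreducible character. -/
noncomputable def d (χ : IrrCharacter G) (j : ZMod p) (φ : IrrCharacter D.V) : ℤ :=
  Classical.choose (D.exists_int_dd (isCharacter_of_irr χ.2) j (isCharacter_of_irr φ.2))

theorem d_eq (χ : IrrCharacter G) (j : ZMod p) (φ : IrrCharacter D.V) :
    (D.d χ j φ : ℂ) = D.dd (χ : G → ℂ) j (φ : D.V → ℂ) :=
  (Classical.choose_spec (D.exists_int_dd (isCharacter_of_irr χ.2) j (isCharacter_of_irr φ.2))).symm

theorem d_zero (χ : IrrCharacter G) (φ : IrrCharacter D.V) : D.d χ 0 φ = 0 := by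
  apply Int.cast_injective (α := ℂ)
  rw [d_eq, dd_zero, Int.cast_zero]

/-- `v ↦ χ (x ^ i v)` is a class function. -/
theorem isClassFunction_pt {χ : G → ℂ} (hχ : IsClassFunction G χ) (i : ZMod p) :
    IsClassFunction D.V (fun v => χ (D.pt (i, v))) := by
  intro v g
  have hr : D.r (g : D.H) = 1 := D.mem_V_iff_r.1 g.2
  have h := D.pt_conj (g : D.H) i v
  rw [hr, one_mul] at h
  calc χ (D.pt (i, g * v * g⁻¹)) = χ (((g : D.H) : G) * D.pt (i, v) * ((g : D.H) : G)⁻¹) := by
        rw [h]; rfl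
    _ = χ (D.pt (i, v)) := hχ _ _

theorem sum_mm_ee (χ : G → ℂ) (i : ZMod p) (φ : D.V → ℂ) : ∑ j, D.mm χ j φ * ee (i * j) = D.cc χ i φ := by
  simp only [mm, Finset.mul_sum, Finset.sum_mul]
  rw [Finset.sum_comm]
  rw [Finset.sum_eq_single i]
  · rw [Finset.sum_congr rfl (g := fun _ => (p : ℂ)⁻¹ * D.cc χ i φ), Finset.sum_const, Finset.card_univ, ZMod.card,
      nsmul_eq_mul, mul_inv_cancel_left₀ natCast_p_ne_zero]
    intro j _
    rw [mul_assoc, mul_assoc, conj_ee, ← ee_add, neg_add_cancel, ee_zero, mul_one]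
  · intro b _ hb
    have : ∀ j : ZMod p, (p : ℂ)⁻¹ * (D.cc χ b φ * conj (ee (b * j))) * ee (i * j) =
        (p : ℂ)⁻¹ * D.cc χ b φ * ee (j * (i - b)) := fun j => by
      rw [conj_ee, mul_assoc, mul_assoc, ← ee_add, mul_assoc]
      congr 3; ring
    rw [Finset.sum_congr rfl fun j _ => this j, ← Finset.mul_sum, sum_ee_mul, if_neg (sub_ne_zero.2 (Ne.symm hb)),
      mul_zero]
  · simp

/-- The values at singular points. -/
theorem apply_pt {χ : G → ℂ} (hχ : IsClassFunction G χ) {i : ZMod p} (hi : i ≠ 0) (v : D.V) :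
    χ (D.pt (i, v)) = ∑ φ : IrrCharacter D.V, (∑ j, D.dd χ j φ * ee (i * j)) * (φ : D.V → ℂ) v := by
  have h := congrFun (classFun_expand (D.isClassFunction_pt hχ i)) v
  rw [h, Finset.sum_apply]
  refine Finset.sum_congr rfl fun φ _ => ?_
  rw [Pi.smul_apply, smul_eq_mul]
  congr 1
  change D.cc χ i φ = _
  simp only [dd, sub_mul, Finset.sum_sub_distrib, D.sum_mm_ee, ← Finset.mul_sum]
  rw [Finset.sum_congr rfl (fun j _ => by rw [mul_comm i j]), sum_ee_mul, if_neg hi, mul_zero, sub_zero]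

/-- The values on `V`. -/
theorem apply_V {χ : G → ℂ} (hχ : IsClassFunction G χ) (v : D.V) :
    χ ((v : D.H) : G) = ∑ φ : IrrCharacter D.V,
      ((p : ℂ) * D.mm χ 0 φ + ∑ j, D.dd χ j φ) * (φ : D.V → ℂ) v := by
  have h := congrFun (classFun_expand (D.isClassFunction_pt hχ 0)) v
  have hpt : D.pt (0, v) = ((v : D.H) : G) := by simp [pt]
  rw [← hpt, h, Finset.sum_apply]
  refine Finset.sum_congr rfl fun φ _ => ?_
  rw [Pi.smul_apply, smul_eq_mul]
  congr 1
  change D.cc χ 0 φ = _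
  rw [← D.sum_mm_ee]
  simp [dd, Finset.sum_sub_distrib, ee_zero, ZMod.card]

/-- Conjugation of characters of `V`. -/
noncomputable def cj (h : D.H) (φ : IrrCharacter D.V) : IrrCharacter D.V :=
  ⟨conjFun h (φ : D.V → ℂ), isIrrCharacter_conjFun h φ.2⟩

theorem cj_apply (h : D.H) (φ : IrrCharacter D.V) (v : D.V) :
    (D.cj h φ : D.V → ℂ) v = (φ : D.V → ℂ) ⟨h * v * h⁻¹, D.normal_V.conj_mem _ v.2 h⟩ := rfl

theorem cj_one (φ : IrrCharacter D.V) : D.cj 1 φ = φ := Subtype.ext (conjFun_one _)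

theorem cj_cj (a b : D.H) (φ : IrrCharacter D.V) : D.cj a (D.cj b φ) = D.cj (b * a) φ :=
  Subtype.ext (conjFun_mul b a _)

theorem cc_conj {χ : G → ℂ} (hχ : IsClassFunction G χ) (h : D.H) (i : ZMod p) (φ : D.V → ℂ) :
    D.cc χ (D.r h * i) φ = D.cc χ i (conjFun h φ) := by
  simp only [cc, classInner_eq]
  congr 1
  refine (Fintype.sum_equiv (MulAut.conjNormal h).toEquiv _ _ fun v => ?_).symm
  rw [conjFun_apply]
  congr 1
  rw [← hχ (D.pt (i, v)) (h : G), D.pt_conj]
  rfl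

theorem dd_conj {χ : G → ℂ} (hχ : IsClassFunction G χ) (h : D.H) (j : ZMod p) (φ : D.V → ℂ) :
    D.dd χ (D.r h * j) (conjFun h φ) = D.dd χ j φ := by
  simp only [dd_eq]
  congr 1
  refine Fintype.sum_equiv (Equiv.mulLeft₀ (D.r h) (D.r_ne_zero h)) _ _ fun i => ?_
  simp only [Equiv.mulLeft₀_apply, D.cc_conj hχ]
  congr 4
  ring

theorem d_conj (χ : IrrCharacter G) (h : D.H) (j : ZMod p) (φ : IrrCharacter D.V) :
    D.d χ (D.r h * j) (D.cj h φ) = D.d χ j φ := by
  apply Int.cast_injective (α := ℂ)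
  rw [d_eq, d_eq]
  exact D.dd_conj (isClassFunction (isCharacter_of_irr χ.2)) h j φ

include D in
/-- The twist by an exponent fixing the `p`-regular elements. -/
theorem exists_twist (u : (ZMod p)ˣ) :
    ∃ k : ℕ, k.Coprime (Nat.card G) ∧ (k : ZMod p) = u ∧ ∀ g : G, ¬ p ∣ orderOf g → g ^ k = g := by
  obtain ⟨b, hb⟩ : p ∣ Nat.card G := by
    have := orderOf_dvd_natCard D.x
    rwa [D.hx] at this
  have hcop : p.Coprime b := D.hp.coprime_iff_not_dvd.2 fun hd => D.hSyl (by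
    rw [hb, sq]; exact Nat.mul_dvd_mul_left p hd)
  have hu : (u : ZMod p).val.Coprime p := ZMod.val_coe_unit_coprime u
  obtain ⟨k, hk1, hk2, hk3⟩ := BrauerInd.exists_pow_part p b (u : ZMod p).val hb hcop hu
  refine ⟨k, hk1, ?_, fun g hg => hk3 g (D.hp.coprime_iff_not_dvd.2 hg).symm⟩
  have := hk2 D.x (dvd_of_eq D.hx)
  rw [D.pow_eq_iff] at this
  simpa using this

/-- The exponent of the twist. -/
noncomputable def tk (u : (ZMod p)ˣ) : ℕ := Classical.choose (D.exists_twist u)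

theorem tk_coprime (u : (ZMod p)ˣ) : (D.tk u).Coprime (Nat.card G) := (Classical.choose_spec (D.exists_twist u)).1
theorem tk_cast (u : (ZMod p)ˣ) : (D.tk u : ZMod p) = u := (Classical.choose_spec (D.exists_twist u)).2.1
theorem tk_fix (u : (ZMod p)ˣ) {g : G} (hg : ¬ p ∣ orderOf g) : g ^ D.tk u = g :=
  (Classical.choose_spec (D.exists_twist u)).2.2 g hg

/-- The twist of a character. -/
noncomputable def tw (u : (ZMod p)ˣ) (χ : IrrCharacter G) : IrrCharacter G :=
  ⟨fun g => (χ : G → ℂ) (g ^ D.tk u), BrauerInd.isIrr_pow (D.tk_coprime u) χ.2⟩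

theorem tw_apply (u : (ZMod p)ˣ) (χ : IrrCharacter G) (g : G) :
    (D.tw u χ : G → ℂ) g = (χ : G → ℂ) (g ^ D.tk u) := rfl

theorem tw_regular (u : (ZMod p)ˣ) (χ : IrrCharacter G) {g : G} (hg : ¬ p ∣ orderOf g) :
    (D.tw u χ : G → ℂ) g = (χ : G → ℂ) g := by
  rw [tw_apply, D.tk_fix u hg]

theorem pt_pow_tk (u : (ZMod p)ˣ) (i : ZMod p) (v : D.V) : D.pt (i, v) ^ D.tk u = D.pt ((u : ZMod p) * i, v) := by
  rw [pt, (D.commute_xV _ v).mul_pow, ← pow_mul, D.tk_fix u (D.orderOf_V_not_dvd v), pt]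
  congr 1
  rw [D.pow_eq_iff]
  push_cast
  rw [ZMod.natCast_zmod_val, ZMod.natCast_zmod_val, D.tk_cast, mul_comm]

theorem d_tw (u : (ZMod p)ˣ) (χ : IrrCharacter G) (j : ZMod p) (φ : IrrCharacter D.V) :
    D.d (D.tw u χ) ((u : ZMod p) * j) φ = D.d χ j φ := by
  apply Int.cast_injective (α := ℂ)
  simp only [d_eq, dd_eq]
  congr 1
  refine Fintype.sum_equiv (Equiv.mulLeft₀ (u : ZMod p) u.ne_zero) _ _ fun i => ?_
  simp only [Equiv.mulLeft₀_apply]
  congr 1
  · simp only [cc]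
    congr 1
    funext v
    rw [tw_apply, D.pt_pow_tk]
  · congr 3
    ring

theorem sum_col_count [Fintype (IrrCharacter G)] (a b : G) :
    ∑ χ : IrrCharacter G, (χ : G → ℂ) a * conj ((χ : G → ℂ) b) =
      (Nat.card {y : G // y * a * y⁻¹ = b} : ℂ) := by
  classical
  rw [sum_col a b]
  split_ifs with hc
  · obtain ⟨y₀, hy₀⟩ := isConj_iff.1 hc
    congr 1
    refine Nat.card_congr ⟨fun c => ⟨y₀ * c, ?_⟩, fun y => ⟨y₀⁻¹ * y, ?_⟩, fun c => by simp, fun y => by simp⟩
    · have := Subgroup.mem_centralizer_singleton_iff.1 c.2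
      rw [mul_inv_rev, show y₀ * (c : G) * a * ((c : G)⁻¹ * y₀⁻¹) = y₀ * ((c : G) * a * (c : G)⁻¹) * y₀⁻¹ by group,
        this, mul_inv_cancel_right, hy₀]
    · rw [Subgroup.mem_centralizer_singleton_iff]
      have h2 : (y : G) * a * (y : G)⁻¹ = y₀ * a * y₀⁻¹ := y.2.trans hy₀.symm
      have h3 := congrArg (fun z => y₀⁻¹ * z * (y : G)) h2
      simp only [mul_assoc, inv_mul_cancel, mul_one, inv_mul_cancel_left] at h3 ⊢
      exact h3
  · rw [show Nat.card {y : G // y * a * y⁻¹ = b} = 0 from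
      @Nat.card_of_isEmpty _ ⟨fun y => hc (isConj_iff.2 ⟨y, y.2⟩)⟩, Nat.cast_zero]

theorem count_pt {i : ZMod p} (hi : i ≠ 0) (v : D.V) (i' : ZMod p) (v' : D.V) :
    Nat.card {y : G // y * D.pt (i, v) * y⁻¹ = D.pt (i', v')} =
      p * Nat.card {h : D.H // (h : G) * D.pt (i, v) * (h : G)⁻¹ = D.pt (i', v')} := by
  have hcom : ∀ (k : ℕ) q, Commute (D.x ^ k) (D.pt q) := fun k q =>
    (Commute.pow_pow_self _ _ _).mul_right (D.commute_xV k q.2)
  have key : ∀ (k : ℕ) (h : G), D.x ^ k * h * D.pt (i, v) * (D.x ^ k * h)⁻¹ = D.pt (i', v') ↔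
      h * D.pt (i, v) * h⁻¹ = D.pt (i', v') := by
    intro k h
    rw [mul_inv_rev, show D.x ^ k * h * D.pt (i, v) * (h⁻¹ * (D.x ^ k)⁻¹) =
      D.x ^ k * (h * D.pt (i, v) * h⁻¹) * (D.x ^ k)⁻¹ by group]
    constructor <;> intro hh
    · have h2 := congrArg (fun z => (D.x ^ k)⁻¹ * z * D.x ^ k) hh
      simp only [mul_assoc, inv_mul_cancel_left, inv_mul_cancel, mul_one] at h2
      rw [← (hcom k (i', v')).eq, inv_mul_cancel_left, ← mul_assoc] at h2
      exact h2
    · rw [hh, (hcom k (i', v')).eq, mul_inv_cancel_right]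
  refine Eq.trans ?_ ((Nat.card_prod (ZMod p)
    {h : D.H // (h : G) * D.pt (i, v) * (h : G)⁻¹ = D.pt (i', v')}).trans (by rw [Nat.card_zmod]))
  refine (Nat.card_congr (Equiv.ofBijective (fun q => (⟨D.x ^ q.1.val * ((q.2.1 : D.H) : G),
    (key _ _).2 q.2.2⟩ : {y : G // y * D.pt (i, v) * y⁻¹ = D.pt (i', v')})) ⟨?_, ?_⟩)).symm
  · rintro ⟨k, h, hh⟩ ⟨k', h', hh'⟩ heq
    have e1 : D.x ^ k.val * (h : G) = D.x ^ k'.val * (h' : G) := congrArg Subtype.val heq
    have e2 : (D.x ^ k'.val)⁻¹ * D.x ^ k.val = ((h' * h⁻¹ : D.H) : G) := by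
      have := congrArg (fun z => (D.x ^ k'.val)⁻¹ * z * (h : G)⁻¹) e1
      simpa [mul_assoc] using this
    have e3 : ((h' * h⁻¹ : D.H) : G) = 1 := by
      rw [← orderOf_eq_one_iff]
      have d1 : orderOf ((h' * h⁻¹ : D.H) : G) ∣ p := by
        rw [← e2]
        conv_rhs => rw [← D.hx]
        exact orderOf_dvd_of_mem_zpowers
          (mul_mem (inv_mem (pow_mem (Subgroup.mem_zpowers _) _)) (pow_mem (Subgroup.mem_zpowers _) _))
      rcases D.hp.eq_one_or_self_of_dvd _ d1 with d | d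
      · exact d
      · refine absurd ?_ D.hHp
        conv_lhs => rw [← d]
        rw [Subgroup.orderOf_coe]
        exact orderOf_dvd_natCard _
    have e4 : h = h' := by
      have : h' * h⁻¹ = 1 := Subtype.ext e3
      exact (mul_inv_eq_one.1 this).symm
    subst e4
    have e5 : D.x ^ k.val = D.x ^ k'.val := mul_right_cancel e1
    rw [D.pow_eq_iff, ZMod.natCast_zmod_val, ZMod.natCast_zmod_val] at e5
    subst e5
    rfl
  · rintro ⟨y, hy⟩
    obtain ⟨h₁, hyx, -⟩ := D.exists_H_of_conj hi hy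
    obtain ⟨a, ha, h, hh, rfl⟩ := D.hN y (hyx ▸ pow_mem (Subgroup.mem_zpowers _) _)
    obtain ⟨k, rfl⟩ := mem_powers_iff_mem_zpowers.2 ha
    simp only at hy
    refine ⟨((k : ZMod p), ⟨⟨h, hh⟩, (key k h).1 hy⟩), Subtype.ext ?_⟩
    show D.x ^ (k : ZMod p).val * h = D.x ^ k * h
    rw [show D.x ^ (k : ZMod p).val = D.x ^ k by rw [D.pow_eq_iff, ZMod.natCast_zmod_val]]

/-- The Gram matrix of the coefficient vectors. -/
theorem sum_cc_mul [Fintype (IrrCharacter G)] [DecidableEq (IrrCharacter D.V)] {i : ZMod p} (hi : i ≠ 0)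
    (i' : ZMod p) (φ φ' : IrrCharacter D.V) :
    ∑ χ : IrrCharacter G, D.cc (χ : G → ℂ) i φ * conj (D.cc (χ : G → ℂ) i' φ') =
      (p : ℂ) / (Nat.card D.V : ℂ) * ∑ h : D.H, if D.r h * i = i' ∧ D.cj h φ' = φ then 1 else 0 := by
  classical
  have hcount : ∀ v v' : D.V, ∑ χ : IrrCharacter G, (χ : G → ℂ) (D.pt (i, v)) * conj ((χ : G → ℂ) (D.pt (i', v'))) =
      (p : ℂ) * ∑ h : D.H, (if D.r h * i = i' then (1 : ℂ) else 0) *
        (if (⟨h * v * h⁻¹, D.normal_V.conj_mem _ v.2 h⟩ : D.V) = v' then 1 else 0) := by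
    intro v v'
    rw [sum_col_count, D.count_pt hi, Nat.cast_mul]
    congr 1
    rw [Nat.card_eq_fintype_card, Fintype.card_subtype, ← Finset.sum_boole]
    refine Finset.sum_congr rfl fun h _ => ?_
    rw [D.pt_conj]
    by_cases h1 : D.r h * i = i' ∧ (⟨h * v * h⁻¹, D.normal_V.conj_mem _ v.2 h⟩ : D.V) = v'
    · rw [if_pos (by rw [h1.1, h1.2]), if_pos h1.1, if_pos h1.2, one_mul]
    · rw [if_neg (fun he => h1 (D.pt_inj he))]
      rcases not_and_or.1 h1 with h2 | h2 <;> simp [h2]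
  simp only [cc, classInner_eq, map_mul, map_inv₀, Complex.conj_natCast, map_sum, Complex.conj_conj]
  calc _ = (Nat.card D.V : ℂ)⁻¹ * (Nat.card D.V : ℂ)⁻¹ * ∑ v : D.V, ∑ v' : D.V,
        conj ((φ : D.V → ℂ) v) * (φ' : D.V → ℂ) v' *
          ∑ χ : IrrCharacter G, (χ : G → ℂ) (D.pt (i, v)) * conj ((χ : G → ℂ) (D.pt (i', v'))) := by
        simp only [Finset.mul_sum, Finset.sum_mul]
        rw [Finset.sum_comm]
        rw [Finset.sum_congr rfl fun v' _ => Finset.sum_comm]
        rw [Finset.sum_comm]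
        refine Finset.sum_congr rfl fun v _ => Finset.sum_congr rfl fun v' _ => Finset.sum_congr rfl fun χ _ => ?_
        ring
    _ = (p : ℂ) * (Nat.card D.V : ℂ)⁻¹ * ∑ h : D.H, (if D.r h * i = i' then (1 : ℂ) else 0) *
        classInner ((D.cj h φ' : D.V → ℂ)) (φ : D.V → ℂ) := by
        simp only [hcount, classInner_eq, Finset.mul_sum]
        rw [Finset.sum_congr rfl fun v _ => Finset.sum_comm, Finset.sum_comm]
        refine Finset.sum_congr rfl fun h _ => Finset.sum_congr rfl fun v _ => ?_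
        rw [Finset.sum_eq_single ⟨h * v * h⁻¹, D.normal_V.conj_mem _ v.2 h⟩ (fun b _ hb => by simp [Ne.symm hb])
          (fun hb => absurd (Finset.mem_univ _) hb), if_pos rfl, cj_apply]
        ring
    _ = _ := by
        rw [div_eq_mul_inv]
        congr 1
        refine Finset.sum_congr rfl fun h _ => ?_
        rw [classInner_irr, ite_and]
        split_ifs <;> simp

/-- The Gram matrix of the integer vectors. -/
theorem gram [Fintype (IrrCharacter G)] [DecidableEq (IrrCharacter D.V)] {j j' : ZMod p} (hj : j ≠ 0) (hj' : j' ≠ 0)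
    (φ φ' : IrrCharacter D.V) :
    (Nat.card D.V : ℤ) * ∑ χ : IrrCharacter G, D.d χ j φ * D.d χ j' φ' =
      ∑ h : D.H, if D.cj h φ' = φ then (if D.r h * j' = j then 1 else 0) + 1 else 0 := by
  classical
  apply Int.cast_injective (α := ℂ)
  push_cast
  have hconj : ∀ χ : IrrCharacter G, (D.d χ j' φ' : ℂ) = conj (D.dd (χ : G → ℂ) j' φ') := fun χ => by
    rw [← D.d_eq, map_intCast]
  simp only [hconj, d_eq, dd_eq, map_mul, map_inv₀, Complex.conj_natCast, map_sum, map_sub, map_one,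
    Complex.conj_conj]
  calc _ = (Nat.card D.V : ℂ) * (p : ℂ)⁻¹ * (p : ℂ)⁻¹ * ∑ i : ZMod p, ∑ i' : ZMod p,
        (conj (ee (i * j)) - 1) * (ee (i' * j') - 1) *
          ∑ χ : IrrCharacter G, D.cc (χ : G → ℂ) i φ * conj (D.cc (χ : G → ℂ) i' φ') := by
        simp only [Finset.mul_sum, Finset.sum_mul]
        rw [Finset.sum_comm, Finset.sum_comm (f := fun (i : ZMod p) (i' : ZMod p) => ∑ χ : IrrCharacter G, _)]
        refine Finset.sum_congr rfl fun i' _ => ?_
        rw [Finset.sum_comm]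
        refine Finset.sum_congr rfl fun i _ => Finset.sum_congr rfl fun χ _ => ?_
        ring
    _ = (p : ℂ)⁻¹ * ∑ h : D.H, (if D.cj h φ' = φ then (1 : ℂ) else 0) *
        ∑ i : ZMod p, (conj (ee (i * j)) - 1) * (ee (D.r h * i * j') - 1) := by
        conv_rhs => simp only [Finset.mul_sum]; rw [Finset.sum_comm]
        rw [Finset.mul_sum]
        refine Finset.sum_congr rfl fun i _ => ?_
        by_cases hi : i = 0
        · simp [hi, ee_zero]
        simp only [D.sum_cc_mul hi, Finset.mul_sum]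
        rw [Finset.sum_comm]
        refine Finset.sum_congr rfl fun h _ => ?_
        rw [Finset.sum_eq_single (D.r h * i) (fun b _ hb => by simp [Ne.symm hb])
          (fun hb => absurd (Finset.mem_univ _) hb)]
        by_cases hc : D.cj h φ' = φ
        · rw [if_pos ⟨rfl, hc⟩, if_pos hc]
          have := D.natCast_V_ne_zero
          have := natCast_p_ne_zero (p := p)
          field_simp
        · rw [if_neg (fun x => hc x.2), if_neg hc]; simp
    _ = _ := by
        rw [Finset.mul_sum]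
        refine Finset.sum_congr rfl fun h _ => ?_
        by_cases hc : D.cj h φ' = φ
        · rw [if_pos hc, if_pos hc, one_mul]
          have e1 : ∀ i : ZMod p, (conj (ee (i * j)) - 1) * (ee (D.r h * i * j') - 1) =
              ee (i * (D.r h * j' - j)) - ee (i * (-j)) - ee (i * (D.r h * j')) + 1 := fun i => by
            rw [conj_ee, show D.r h * i * j' = i * (D.r h * j') by ring, show i * (-j) = -(i * j) by ring,
              sub_eq_add_neg (D.r h * j') j, mul_add, ee_add, show i * (-j) = -(i * j) by ring]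
            ring
          simp only [e1, Finset.sum_add_distrib, Finset.sum_sub_distrib, sum_ee_mul, neg_eq_zero, if_neg hj,
            if_neg (mul_ne_zero (D.r_ne_zero h) hj'), sub_zero, Finset.sum_const, Finset.card_univ, ZMod.card,
            nsmul_eq_mul, mul_one, sub_eq_zero]
          have hp0 := natCast_p_ne_zero (p := p)
          split_ifs <;> push_cast <;> field_simp <;> ring
        · simp [hc]

/-- The coefficient vectors are orthogonal to the `p`-regular elements. -/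
theorem sum_d_apply_regular [Fintype (IrrCharacter G)] (j : ZMod p) (φ : IrrCharacter D.V) {g : G}
    (hg : ¬ p ∣ orderOf g) : ∑ χ : IrrCharacter G, (D.d χ j φ : ℂ) * (χ : G → ℂ) g = 0 := by
  classical
  simp only [d_eq, dd_eq, Finset.mul_sum, Finset.sum_mul]
  rw [Finset.sum_comm]
  refine Finset.sum_eq_zero fun i _ => ?_
  by_cases hi : i = 0
  · simp [hi, ee_zero]
  simp only [cc, classInner_eq, Finset.mul_sum, Finset.sum_mul]
  rw [Finset.sum_comm]
  refine Finset.sum_eq_zero fun v _ => ?_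
  have hn : ¬ IsConj (D.pt (i, v)) g⁻¹ := fun hc => hg (by
    have := D.dvd_orderOf_pt hi v
    obtain ⟨c, hc⟩ := isConj_iff.1 hc
    rw [← MulEquiv.orderOf_eq (MulAut.conj c), MulAut.conj_apply, hc, orderOf_inv] at this
    exact this)
  have h0 := sum_col (D.pt (i, v)) g⁻¹
  rw [if_neg hn] at h0
  have hx : ∀ χ : IrrCharacter G, conj ((χ : G → ℂ) g⁻¹) = (χ : G → ℂ) g := fun χ => by
    rw [apply_inv (isCharacter_of_irr χ.2), Complex.conj_conj]
  simp only [hx] at h0
  rw [← mul_zero ((p : ℂ)⁻¹ * (Nat.card D.V : ℂ)⁻¹ * conj ((φ : D.V → ℂ) v) * (conj (ee (i * j)) - 1)), ← h0,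
    Finset.mul_sum]
  exact Finset.sum_congr rfl fun χ _ => by ring

end Data

end CfsgLib.DefectOne
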