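import Cfsg.Agent.DefectOne.FTCore
import Cfsg.Agent.CharBasics.LinearOver

/-!
# A faithful character of small degree makes the Sylow subgroup normal
-/

set_option autoImplicit false
set_option linter.style.haveILetI false
set_option linter.unusedSectionVars false

namespace CfsgLib.DefectOne

open Cfsg CfsgLib.CharBasics
open scoped ComplexConjugate

universe u

namespace Data

variable {G : Type u} [Group G] [Fintype G] {p : ℕ} [Fact p.Prime] (D : Data G p)

/-- If `V = H` then `x` acts as a scalar in a small representation. -/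
theorem apply_x_of_index_eq_one {M : Ideal AlgInt} (hM : IsPModular p M) (χ : IrrCharacter G)
    (hnc : (χ : G → ℂ) D.x ≠ (χ : G → ℂ) 1) (hsmall : 2 * charDegree (χ : G → ℂ) + 1 < p)
    (hV : D.V.index = 1) : ∃ a : ZMod p, (χ : G → ℂ) D.x = ee a * (χ : G → ℂ) 1 := by
  classical
  obtain ⟨φ, a₀, hshape, hdeg⟩ := D.exists_shape hM χ hnc hsmall
  refine ⟨(a₀ : ZMod p), ?_⟩
  rw [hV, one_mul] at hdeg
  have htop : ∀ h : D.H, h ∈ D.V := fun h => by rw [Subgroup.index_eq_one.1 hV]; exact Subgroup.mem_top h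
  have hmn : ∀ j ψ, D.mn χ j ψ = if ψ = φ ∧ j = (a₀ : ZMod p) then 1 else 0 := by
    intro j ψ
    rw [hshape j ψ]
    refine if_congr ⟨?_, ?_⟩ rfl rfl
    · rintro ⟨h, rfl, rfl⟩
      exact ⟨D.mem_inertia_iff.1 (D.V_le_inertia φ (htop h)), by rw [D.mem_V_iff_r.1 (htop h), one_mul]⟩
    · rintro ⟨rfl, rfl⟩
      exact ⟨1, D.mem_inertia_iff.1 (Subgroup.one_mem _), by rw [D.r_one, one_mul]⟩
  have hx : D.x = D.pt (1, 1) := by simp [pt, ZMod.val_one]
  rw [hx, D.apply_pt_all (isClassFunction_irr χ), apply_one (isCharacter_of_irr χ.2), hdeg,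
    Finset.sum_eq_single φ (fun ψ _ hψ => Finset.sum_eq_zero fun j _ => by rw [← mn_eq, hmn]; simp [hψ]) (by simp),
    Finset.sum_eq_single (a₀ : ZMod p) (fun j _ hj => by rw [← mn_eq, hmn]; simp [hj]) (by simp),
    ← mn_eq, hmn, if_pos ⟨rfl, rfl⟩, apply_one (isCharacter_of_irr φ.2)]
  simp

end Data

theorem eq_one_of_constant_irr {G : Type u} [Group G] [Fintype G] (ψ : IrrCharacter G)
    (h : ∀ g, (ψ : G → ℂ) g * conj ((ψ : G → ℂ) g) = (ψ : G → ℂ) 1 * conj ((ψ : G → ℂ) 1)) :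
    charDegree (ψ : G → ℂ) = 1 := by
  classical
  have h1 := sum_mul_conj ψ ψ
  rw [if_pos rfl, Finset.sum_congr rfl fun g _ => h g, Finset.sum_const, Finset.card_univ,
    ← Nat.card_eq_fintype_card, nsmul_eq_mul, apply_one (isCharacter_of_irr ψ.2), Complex.conj_natCast] at h1
  have h2 : (charDegree (ψ : G → ℂ) : ℂ) * (charDegree (ψ : G → ℂ) : ℂ) = 1 :=
    mul_left_cancel₀ (Nat.cast_ne_zero.2 (Nat.card_pos (α := G)).ne') (h1.trans (mul_one _).symm)
  rw [← Nat.cast_mul, Nat.cast_eq_one] at h2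
  exact Nat.eq_one_of_mul_eq_one_right h2

/-- A faithful character of degree less than `(p - 1) / 2` forces a subgroup of order `p` to be normal. -/
theorem normal_of_small {p : ℕ} [Fact p.Prime] : ∀ (n : ℕ) (G : Type u) [Group G] [Finite G], Nat.card G = n →
    ¬ p ^ 2 ∣ Nat.card G → ∀ χ : G → ℂ, IsCharacter G χ → (∀ g, χ g = χ 1 → g = 1) →
    2 * charDegree χ + 1 < p → ∀ x : G, orderOf x = p → (Subgroup.zpowers x).Normal := by
  intro n
  induction n using Nat.strong_induction_on with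
  | _ n ih => ?_
  intro G _ _ hn hsq χ hχ hfaith hsmall x hox
  classical
  haveI : Fintype G := Fintype.ofFinite G
  have hp : p.Prime := Fact.out
  -- proper subgroups containing `x` normalise it
  have hsub : ∀ K : Subgroup G, K ≠ ⊤ → x ∈ K → ∀ k ∈ K, k * x * k⁻¹ ∈ Subgroup.zpowers x := by
    intro K hK hxK k hk
    have hlt : Nat.card K < n := by
      rw [← hn, ← Subgroup.card_top (G := G)]
      refine lt_of_le_of_ne (Subgroup.card_le_of_le le_top) fun he => hK ?_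
      exact Subgroup.eq_top_of_card_eq K (by rw [he, Subgroup.card_top])
    have hdeg : charDegree (fun y : K => χ y) = charDegree χ := by simp [charDegree]
    have hN := ih _ hlt K rfl (fun h => hsq (h.trans (Subgroup.card_subgroup_dvd_card K))) (fun y : K => χ y)
      (isCharacter_restrict hχ K) (fun y hy => Subtype.ext (hfaith y (by simpa using hy))) (by rwa [hdeg])
      ⟨x, hxK⟩ (by rw [Subgroup.orderOf_mk, hox])
    obtain ⟨j, hj⟩ := Subgroup.mem_zpowers_iff.1 (hN.conj_mem _ (Subgroup.mem_zpowers _) ⟨k, hk⟩)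
    exact Subgroup.mem_zpowers_iff.2 ⟨j, by simpa using congrArg Subtype.val hj⟩
  have hfac : (Nat.card G).factorization p = 1 := by
    have hpd : p ^ 1 ∣ Nat.card G := by rw [pow_one, ← hox]; exact orderOf_dvd_natCard x
    have h1 := (hp.pow_dvd_iff_le_factorization Nat.card_pos.ne').1 hpd
    have h2 := (hp.pow_dvd_iff_le_factorization Nat.card_pos.ne').not.1 hsq
    omega
  obtain ⟨D, hD⟩ := exists_data (Sylow.ofCard (Subgroup.zpowers x) (by rw [hfac, pow_one, Nat.card_zpowers, hox]))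
    (by rw [Sylow.coe_ofCard, Nat.card_zpowers, hox])
  rw [Sylow.coe_ofCard] at hD
  suffices hg : ∀ g : G, g * x * g⁻¹ ∈ Subgroup.zpowers x by
    refine ⟨fun y hy g => ?_⟩
    exact ((Subgroup.mem_normalizer_iff.1 ((normalizer_iff_zpowers x g).2 (hg g))) y).1 hy
  have hNx : ∀ y, y * x * y⁻¹ ∈ Subgroup.zpowers x → y ∈ D.Nx := by
    intro y hy
    show y ∈ Subgroup.normalizer (Subgroup.zpowers D.x : Set G)
    rw [hD]
    exact (normalizer_iff_zpowers x y).2 hy
  have hxD : D.x ∈ Subgroup.zpowers x := hD ▸ Subgroup.mem_zpowers D.x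
  by_cases hL : ∀ N : Subgroup G, N.Normal → x ∈ N → N = ⊤
  swap
  · push Not at hL
    obtain ⟨N, hN, hxN, hne⟩ := hL
    intro g
    have hy : g * x * g⁻¹ ∈ N := hN.conj_mem _ hxN g
    rw [← hD]
    refine D.mem_zpowers_of_pow_eq_one (hNx _ (hsub N hne hxN _ hy)) ?_
    rw [_root_.conj_pow, ← hox, pow_orderOf_eq_one, mul_one, mul_inv_cancel]
  have hgen : ∀ ψ : IrrCharacter G, (ψ : G → ℂ) D.x = (ψ : G → ℂ) 1 → (ψ : G → ℂ) = fun _ => 1 := by
    intro ψ hψ
    have hxk : x ∈ charKer (ψ : G → ℂ) (isCharacter_of_irr ψ.2) := by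
      have : Subgroup.zpowers D.x ≤ charKer (ψ : G → ℂ) (isCharacter_of_irr ψ.2) := Subgroup.zpowers_le.2 hψ
      exact this (hD ▸ Subgroup.mem_zpowers x)
    have hall : ∀ g, (ψ : G → ℂ) g = (ψ : G → ℂ) 1 := fun g => by
      have h := hL _ (charKer_normal _) hxk
      exact (mem_charKer _ g).1 (h ▸ Subgroup.mem_top g)
    have h1 := eq_one_of_constant_irr ψ (fun g => by rw [hall g])
    funext g
    rw [hall g, apply_one (isCharacter_of_irr ψ.2), h1, Nat.cast_one]
  have hTI : D.TIHyp := by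
    intro v hv y hy
    refine hNx y (hsub (Subgroup.centralizer ({((v : D.H) : G)} : Set G)) ?_ ?_ y ?_)
    · intro htop
      refine hv (D.mem_Zc.2 (Subgroup.mem_center_iff.2 fun g => ?_))
      exact Subgroup.mem_centralizer_singleton_iff.1 (htop ▸ Subgroup.mem_top g)
    · have hc : Commute D.x ((v : D.H) : G) := (D.mem_V.1 v.2).symm
      have : Subgroup.zpowers D.x ≤ Subgroup.centralizer ({((v : D.H) : G)} : Set G) :=
        Subgroup.zpowers_le.2 (Subgroup.mem_centralizer_singleton_iff.2 hc)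
      exact this (hD ▸ Subgroup.mem_zpowers x)
    · exact Subgroup.mem_centralizer_singleton_iff.2 hy
  obtain ⟨M, hM⟩ := CfsgLib.Blocks.exists_modular hp
  obtain ⟨k, ψ, hψ, hsum⟩ := exists_decomp hχ
  intro g
  rw [← hD]
  have hkey : ∀ i, ψ i (g * D.x * g⁻¹ * D.x⁻¹) = ψ i 1 := by
    intro i
    let ψ' : IrrCharacter G := ⟨ψ i, hψ i⟩
    show (ψ' : G → ℂ) _ = (ψ' : G → ℂ) 1
    by_cases hnc : (ψ' : G → ℂ) D.x = (ψ' : G → ℂ) 1
    · rw [hgen ψ' hnc]
    have hle : charDegree (ψ' : G → ℂ) ≤ charDegree χ := by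
      rw [hsum, charDegree_sum _ _ (fun i _ => isCharacter_of_irr (hψ i))]
      exact Finset.single_le_sum (f := fun i => charDegree (ψ i)) (fun _ _ => Nat.zero_le _) (Finset.mem_univ i)
    have hsm : 2 * charDegree (ψ' : G → ℂ) + 1 < p := by omega
    obtain ⟨a, ha⟩ := D.apply_x_of_index_eq_one hM ψ' hnc hsm (D.index_eq_one_of_small hM hTI hgen ψ' hnc hsm)
    set Φ : G → ℂ := (ψ' : G → ℂ) * fun y => conj ((ψ' : G → ℂ) y) with hΦ
    have hΦc : IsCharacter G Φ :=
      CharBasics.isCharacter_mul (isCharacter_of_irr ψ'.2) (isCharacter_star (isCharacter_of_irr ψ'.2))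
    have hΦx : D.x ∈ charKer Φ hΦc := by
      show (ψ' : G → ℂ) D.x * conj ((ψ' : G → ℂ) D.x) = (ψ' : G → ℂ) 1 * conj ((ψ' : G → ℂ) 1)
      rw [ha, map_mul, Data.conj_ee]
      rw [show Data.ee a * (ψ' : G → ℂ) 1 * (Data.ee (-a) * conj ((ψ' : G → ℂ) 1)) =
        Data.ee (a + -a) * ((ψ' : G → ℂ) 1 * conj ((ψ' : G → ℂ) 1)) by rw [Data.ee_add]; ring, add_neg_cancel, Data.ee_zero, one_mul]
    have hxk : x ∈ charKer Φ hΦc := Subgroup.zpowers_le.2 hΦx (hD ▸ Subgroup.mem_zpowers x)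
    have h1 : charDegree (ψ' : G → ℂ) = 1 := eq_one_of_constant_irr ψ' fun y =>
      (mem_charKer hΦc y).1 ((hL _ (charKer_normal hΦc) hxk).symm ▸ Subgroup.mem_top y)
    rw [← linHomOf_apply ψ' h1, ← linHomOf_apply ψ' h1, map_mul, linHomOf_apply, linHomOf_apply,
      isClassFunction (isCharacter_of_irr ψ'.2), ← linHomOf_apply ψ' h1, ← linHomOf_apply ψ' h1, ← map_mul,
      mul_inv_cancel]
  have hc : g * D.x * g⁻¹ * D.x⁻¹ = 1 := hfaith _ (by
    rw [hsum, Finset.sum_apply, Finset.sum_apply]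
    exact Finset.sum_congr rfl fun i _ => hkey i)
  have hcx : Commute g D.x := mul_inv_eq_iff_eq_mul.1 (mul_inv_eq_one.1 hc)
  obtain ⟨j, hj⟩ := Subgroup.mem_zpowers_iff.1 (hD ▸ Subgroup.mem_zpowers x : x ∈ Subgroup.zpowers D.x)
  rw [← hj, (hcx.zpow_right j).eq, mul_inv_cancel_right]
  exact zpow_mem (Subgroup.mem_zpowers _) j

end CfsgLib.DefectOne
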