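import Mathlib
import Cfsg.Agent.CharBasics.Basic

/-!
# Extending the automorphisms of cyclotomic fields to `ℂ`

An automorphism of `ℂ` acts on the values of a character as a power map.
-/

set_option autoImplicit false
set_option linter.style.haveILetI false

namespace CfsgLib.DefectOne

open scoped Cardinal

/-- Two uncountable algebraically closed extensions of a countable field, of the same cardinality, are isomorphic
over it. -/
theorem exists_ringEquiv_comm {R K L : Type} [Field R] [Countable R] [Field K] [Field L] [IsAlgClosed K]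
    [IsAlgClosed L] [Algebra R K] [Algebra R L] (hK : ℵ₀ < #K) (hKL : #K = #L) :
    ∃ σ : K ≃+* L, ∀ r, σ (algebraMap R K r) = algebraMap R L r := by
  obtain ⟨s, hs⟩ := exists_isTranscendenceBasis R K
  obtain ⟨t, ht⟩ := exists_isTranscendenceBasis R L
  have h1 := IsAlgClosed.cardinal_eq_cardinal_transcendence_basis_of_aleph0_lt' _ hs Cardinal.mk_le_aleph0 hK
  have h2 := IsAlgClosed.cardinal_eq_cardinal_transcendence_basis_of_aleph0_lt' _ ht Cardinal.mk_le_aleph0
    (hKL ▸ hK)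
  obtain ⟨e⟩ := Cardinal.eq.1 ((h1.symm.trans hKL).trans h2)
  letI := IsAlgClosed.isAlgClosure_of_transcendence_basis _ hs
  letI := IsAlgClosed.isAlgClosure_of_transcendence_basis _ ht
  let f : Algebra.adjoin R (Set.range ((↑) : s → K)) ≃ₐ[R] Algebra.adjoin R (Set.range ((↑) : t → L)) :=
    hs.1.aevalEquiv.symm.trans ((MvPolynomial.renameEquiv R e).trans ht.1.aevalEquiv)
  refine ⟨IsAlgClosure.equivOfEquiv K L f.toRingEquiv, fun r => ?_⟩
  rw [IsScalarTower.algebraMap_apply R (Algebra.adjoin R (Set.range ((↑) : s → K))) K,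
    IsAlgClosure.equivOfEquiv_algebraMap]
  show algebraMap _ L (f (algebraMap R _ r)) = _
  rw [AlgEquiv.commutes, ← IsScalarTower.algebraMap_apply R (Algebra.adjoin R (Set.range ((↑) : t → L))) L]

/-- Every exponent prime to `n` is realised by an automorphism of `ℂ`. -/
theorem exists_ringEquiv_pow {n : ℕ} (hn : n ≠ 0) {k : ℕ} (hk : k.Coprime n) :
    ∃ σ : ℂ ≃+* ℂ, σ (Complex.exp (2 * Real.pi * Complex.I / (n : ℕ))) =
      Complex.exp (2 * Real.pi * Complex.I / (n : ℕ)) ^ k := by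
  haveI : NeZero n := ⟨hn⟩
  set ζ := Complex.exp (2 * Real.pi * Complex.I / (n : ℕ)) with hζdef
  have hζ : IsPrimitiveRoot ζ n := Complex.isPrimitiveRoot_exp n hn
  let R := CyclotomicField n ℚ
  haveI : NeZero ((n : ℕ) : ℚ) := ⟨Nat.cast_ne_zero.2 hn⟩
  haveI : IsCyclotomicExtension {n} ℚ R := CyclotomicField.isCyclotomicExtension n ℚ
  have hz : IsPrimitiveRoot (IsCyclotomicExtension.zeta n ℚ R) n := IsCyclotomicExtension.zeta_spec n ℚ R
  have hirr := Polynomial.cyclotomic.irreducible_rat (Nat.pos_of_ne_zero hn)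
  let E := hz.embeddingsEquivPrimitiveRoots ℂ hirr
  let f₁ := E.symm ⟨ζ, (mem_primitiveRoots (Nat.pos_of_ne_zero hn)).2 hζ⟩
  let f₂ := E.symm ⟨ζ ^ k, (mem_primitiveRoots (Nat.pos_of_ne_zero hn)).2 (hζ.pow_of_coprime k hk)⟩
  have e₁ : f₁ (IsCyclotomicExtension.zeta n ℚ R) = ζ := congrArg Subtype.val (E.apply_symm_apply _)
  have e₂ : f₂ (IsCyclotomicExtension.zeta n ℚ R) = ζ ^ k := congrArg Subtype.val (E.apply_symm_apply _)
  haveI : Countable R := (Module.finBasis ℚ R).equivFun.toEquiv.countable_iff.2 inferInstance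
  obtain ⟨σ, hσ⟩ := @exists_ringEquiv_comm R ℂ ℂ _ _ _ _ _ _ f₁.toRingHom.toAlgebra f₂.toRingHom.toAlgebra
    (by rw [Cardinal.mk_complex]; exact Cardinal.aleph0_lt_continuum) rfl
  refine ⟨σ, ?_⟩
  have h := hσ (IsCyclotomicExtension.zeta n ℚ R)
  change σ (f₁ _) = f₂ _ at h
  rwa [e₁, e₂] at h

/-- An automorphism of `ℂ` acts on character values as a power map. -/
theorem exists_pow_of_ringEquiv {G : Type*} [Group G] [Finite G] (σ : ℂ ≃+* ℂ) :
    ∃ k : ℕ, k.Coprime (Nat.card G) ∧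
      σ (Complex.exp (2 * Real.pi * Complex.I / (Nat.card G : ℕ))) =
        Complex.exp (2 * Real.pi * Complex.I / (Nat.card G : ℕ)) ^ k := by
  have hn : Nat.card G ≠ 0 := Nat.card_pos.ne'
  haveI : NeZero (Nat.card G) := ⟨hn⟩
  have hζ := Complex.isPrimitiveRoot_exp (Nat.card G) hn
  obtain ⟨k, -, hk, he⟩ := (IsPrimitiveRoot.isPrimitiveRoot_iff hζ).1 (hζ.map_of_injective σ.injective)
  exact ⟨k, hk, he.symm⟩

theorem ringEquiv_apply_char {G : Type*} [Group G] [Finite G] (σ : ℂ ≃+* ℂ) {k : ℕ}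
    (hσ : σ (Complex.exp (2 * Real.pi * Complex.I / (Nat.card G : ℕ))) =
      Complex.exp (2 * Real.pi * Complex.I / (Nat.card G : ℕ)) ^ k)
    {χ : G → ℂ} (hχ : Cfsg.IsCharacter G χ) (g : G) : σ (χ g) = χ (g ^ k) := by
  have hn : Nat.card G ≠ 0 := Nat.card_pos.ne'
  haveI : NeZero (Nat.card G) := ⟨hn⟩
  have hζ := Complex.isPrimitiveRoot_exp (Nat.card G) hn
  obtain ⟨lam, hl, hv⟩ := CharBasics.exists_eigen hχ g
  rw [hv k, show χ g = ∑ i, lam i by simpa using hv 1, map_sum]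
  refine Finset.sum_congr rfl fun i _ => ?_
  obtain ⟨d, hd⟩ := orderOf_dvd_natCard g
  obtain ⟨j, -, hj⟩ := hζ.eq_pow_of_pow_eq_one (ξ := lam i) (by rw [hd, pow_mul, hl, one_pow])
  rw [← hj, map_pow, hσ, ← pow_mul, ← pow_mul, Nat.mul_comm]

end CfsgLib.DefectOne
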