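import Cfsg.Agent.DefectOne.Blocks
import Cfsg.Agent.DefectOne.GaloisExt

/-!
# Translation to the normaliser and the centraliser of the Sylow subgroup
-/

set_option autoImplicit false
set_option linter.style.haveILetI false
set_option linter.unusedSectionVars false

namespace CfsgLib.DefectOne

open Cfsg CfsgLib.CharBasics CfsgLib.Blocks
open scoped ComplexConjugate

universe u

namespace Data

variable {G : Type u} [Group G] [Fintype G] {p : ℕ} [Fact p.Prime] (D : Data G p)

theorem mem_centralizer_iff_commute {g : G} :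
    g ∈ Subgroup.centralizer (Subgroup.zpowers D.x : Set G) ↔ Commute g D.x := by
  rw [Subgroup.mem_centralizer_iff]
  refine ⟨fun h => (h D.x (Subgroup.mem_zpowers _)).symm, fun h a ha => ?_⟩
  obtain ⟨k, rfl⟩ := Subgroup.mem_zpowers_iff.1 ha
  exact (h.zpow_right k).eq.symm

theorem commute_pt (q : ZMod p × D.V) : Commute (D.pt q) D.x :=
  ((Commute.pow_self D.x q.1.val)).mul_left (D.mem_V.1 q.2.2)

theorem pt_mem_centralizer (q : ZMod p × D.V) :
    D.pt q ∈ Subgroup.centralizer (Subgroup.zpowers D.x : Set G) :=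
  D.mem_centralizer_iff_commute.2 (D.commute_pt q)

theorem card_centralizer :
    Nat.card (Subgroup.centralizer (Subgroup.zpowers D.x : Set G)) = p * Nat.card D.V := by
  refine Eq.trans ?_ ((Nat.card_prod (ZMod p) D.V).trans (by rw [Nat.card_zmod]))
  refine (Nat.card_congr (Equiv.ofBijective (fun q => ⟨D.pt q, D.pt_mem_centralizer q⟩) ⟨?_, ?_⟩)).symm
  · intro a b h
    obtain ⟨h1, h2⟩ := D.pt_inj (congrArg Subtype.val h : D.pt (a.1, a.2) = D.pt (b.1, b.2))
    exact Prod.ext h1 h2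
  · rintro ⟨g, hg⟩
    obtain ⟨q, hq⟩ := D.exists_pt (D.mem_centralizer_iff_commute.1 hg)
    exact ⟨q, Subtype.ext hq.symm⟩

theorem pow_mul_H_inj {k k' : ZMod p} {h h' : D.H} (he : D.x ^ k.val * (h : G) = D.x ^ k'.val * (h' : G)) :
    k = k' ∧ h = h' := by
  have e2 : (D.x ^ k'.val)⁻¹ * D.x ^ k.val = ((h' * h⁻¹ : D.H) : G) := by
    have := congrArg (fun z => (D.x ^ k'.val)⁻¹ * z * (h : G)⁻¹) he
    simpa [mul_assoc] using this
  have d1 : orderOf ((h' * h⁻¹ : D.H) : G) ∣ p := by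
    rw [← e2]
    conv_rhs => rw [← D.hx]
    exact orderOf_dvd_of_mem_zpowers
      (mul_mem (inv_mem (pow_mem (Subgroup.mem_zpowers _) _)) (pow_mem (Subgroup.mem_zpowers _) _))
  have e3 : h' * h⁻¹ = 1 := by
    rw [← orderOf_eq_one_iff]
    rw [Subgroup.orderOf_coe] at d1
    rcases D.hp.eq_one_or_self_of_dvd _ d1 with d | d
    · exact d
    · have h5 := orderOf_dvd_natCard (h' * h⁻¹)
      rw [d] at h5
      exact absurd h5 D.hHp
  have e4 : h = h' := (mul_inv_eq_one.1 e3).symm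
  subst e4
  have e5 : D.x ^ k.val = D.x ^ k'.val := mul_right_cancel he
  rw [D.pow_eq_iff, ZMod.natCast_zmod_val, ZMod.natCast_zmod_val] at e5
  exact ⟨e5, rfl⟩

theorem mem_normalizer_iff_exists {g : G} :
    g ∈ Subgroup.normalizer (Subgroup.zpowers D.x : Set G) ↔ ∃ (k : ZMod p) (h : D.H), g = D.x ^ k.val * (h : G) := by
  rw [normalizer_iff_zpowers]
  refine ⟨fun hg => ?_, ?_⟩
  · obtain ⟨a, ha, h, hh, rfl⟩ := D.hN g hg
    obtain ⟨k, rfl⟩ := mem_powers_iff_mem_zpowers.2 ha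
    refine ⟨(k : ZMod p), ⟨h, hh⟩, congrArg (· * h) ?_⟩
    show D.x ^ k = _
    rw [D.pow_eq_iff, ZMod.natCast_zmod_val]
  · rintro ⟨k, h, rfl⟩
    rw [show D.x ^ k.val * (h : G) * D.x * (D.x ^ k.val * (h : G))⁻¹ =
      D.x ^ k.val * ((h : G) * D.x * (h : G)⁻¹) * (D.x ^ k.val)⁻¹ by group, D.conj_x]
    exact mul_mem (mul_mem (pow_mem (Subgroup.mem_zpowers _) _) (pow_mem (Subgroup.mem_zpowers _) _))
      (inv_mem (pow_mem (Subgroup.mem_zpowers _) _))

theorem card_normalizer : Nat.card (Subgroup.normalizer (Subgroup.zpowers D.x : Set G)) = p * Nat.card D.H := by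
  refine Eq.trans ?_ ((Nat.card_prod (ZMod p) D.H).trans (by rw [Nat.card_zmod]))
  refine (Nat.card_congr (Equiv.ofBijective (fun q => ⟨D.x ^ q.1.val * (q.2 : G),
    D.mem_normalizer_iff_exists.2 ⟨q.1, q.2, rfl⟩⟩) ⟨?_, ?_⟩)).symm
  · intro a b h
    obtain ⟨h1, h2⟩ := D.pow_mul_H_inj (congrArg Subtype.val h)
    exact Prod.ext h1 h2
  · rintro ⟨g, hg⟩
    obtain ⟨k, h, rfl⟩ := D.mem_normalizer_iff_exists.1 hg
    exact ⟨(k, h), rfl⟩

theorem centralizer_le_normalizer :
    Subgroup.centralizer (Subgroup.zpowers D.x : Set G) ≤ Subgroup.normalizer (Subgroup.zpowers D.x : Set G) :=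
  fun g hg => (normalizer_iff_zpowers D.x g).2 (by
    rw [(D.mem_centralizer_iff_commute.1 hg).eq, mul_inv_cancel_right]
    exact Subgroup.mem_zpowers _)

theorem relIndex_eq :
    (Subgroup.centralizer (Subgroup.zpowers D.x : Set G)).relIndex
      (Subgroup.normalizer (Subgroup.zpowers D.x : Set G)) = D.V.index := by
  have h1 := Subgroup.card_mul_index ((Subgroup.centralizer (Subgroup.zpowers D.x : Set G)).subgroupOf
    (Subgroup.normalizer (Subgroup.zpowers D.x : Set G)))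
  rw [Nat.card_congr (Subgroup.subgroupOfEquivOfLe D.centralizer_le_normalizer).toEquiv] at h1
  change _ * (Subgroup.centralizer (Subgroup.zpowers D.x : Set G)).relIndex _ = _ at h1
  rw [D.card_centralizer, D.card_normalizer, ← Subgroup.index_mul_card D.V] at h1
  refine Nat.eq_of_mul_eq_mul_left (Nat.mul_pos D.hp.pos (Nat.card_pos (α := D.V))) ?_
  rw [h1]; ring

theorem card_inertia (φ : IrrCharacter D.V) :
    Nat.card (Clifford.inertia (G := D.H) (φ : D.V → ℂ)) = Nat.card D.V * Nat.card (D.U φ) := by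
  classical
  have h1 := D.sum_inertia φ (fun _ => 1)
  simp only [← Finset.sum_filter, Finset.sum_const, nsmul_eq_mul, mul_one, Finset.card_univ] at h1
  rw [← Fintype.card_subtype, ← Nat.card_eq_fintype_card, ← Nat.card_eq_fintype_card] at h1
  have h2 : Nat.card (Clifford.inertia (G := D.H) (φ : D.V → ℂ)) = Nat.card {h : D.H // D.cj h φ = φ} :=
    Nat.card_congr (Equiv.subtypeEquivRight fun h => D.mem_inertia_iff)
  rw [h2]
  exact_mod_cast h1

theorem index_V_eq (φ : IrrCharacter D.V) : D.V.index = Nat.card (D.U φ) * (D.orb φ).card := by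
  rw [D.card_orb]
  have h1 := Subgroup.index_mul_card (Clifford.inertia (G := D.H) (φ : D.V → ℂ))
  rw [D.card_inertia, ← Subgroup.index_mul_card D.V] at h1
  refine Nat.eq_of_mul_eq_mul_right (Nat.card_pos (α := D.V)) ?_
  rw [← h1]; ring

/-- The principal character of `V`. -/
noncomputable def one : IrrCharacter D.V := oneChar

theorem one_apply (v : D.V) : (D.one : D.V → ℂ) v = 1 := rfl

theorem cj_oneV (h : D.H) : D.cj h D.one = D.one := Subtype.ext (funext fun v => rfl)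

theorem orb_one : D.orb D.one = {D.one} := by
  ext ψ
  rw [mem_orb, Finset.mem_singleton]
  exact ⟨fun ⟨h, hh⟩ => by rw [← hh, cj_oneV], fun h => ⟨1, by rw [h, cj_one]⟩⟩

theorem card_U_one : Nat.card (D.U D.one) = D.V.index := by
  rw [D.index_V_eq D.one, D.orb_one, Finset.card_singleton, mul_one]

theorem odeg_one : D.odeg D.one = 1 := by
  have h : ((charDegree (D.one : D.V → ℂ) : ℕ) : ℂ) = 1 :=
    (apply_one (isCharacter_of_irr (D.one).2)).symm.trans rfl
  rw [odeg, D.orb_one, Finset.card_singleton, one_mul, Nat.cast_eq_one.1 h]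

theorem osum_one (v : D.V) : D.osum D.one v = 1 := by
  rw [osum, D.orb_one, Finset.sum_singleton, one_apply]

theorem oneChar_mem_blk : (oneChar : IrrCharacter G) ∈ D.blk D.one := by
  refine ⟨1, fun h => ?_⟩
  have h1 := D.d_eq (oneChar : IrrCharacter G) 1 D.one
  rw [h, Int.cast_zero, dd_eq] at h1
  have hcc : ∀ i : ZMod p, D.cc (oneChar : IrrCharacter G).1 i (D.one : D.V → ℂ) = 1 := fun i => by
    show classInner (fun _ : D.V => (1 : ℂ)) (D.one : D.V → ℂ) = 1
    exact classInner_self (D.one).2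
  simp only [hcc, one_mul, Finset.sum_sub_distrib, conj_ee, Finset.sum_const, Finset.card_univ, ZMod.card,
    nsmul_eq_mul, mul_one] at h1
  rw [Finset.sum_congr rfl (fun (i : ZMod p) _ => show ee (-i) = ee (i * (-1)) by rw [mul_neg_one]), sum_ee_mul, if_neg (neg_ne_zero.2 one_ne_zero),
    zero_sub, mul_neg, inv_mul_cancel₀ natCast_p_ne_zero] at h1
  exact one_ne_zero (neg_eq_zero.1 h1.symm)

theorem principalBlock_eq {M : Ideal AlgInt} (hM : IsPModular p M) : principalBlock M G = D.blk D.one := by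
  have h := D.blockOf_blk hM (χ := oneChar) (φ := D.one) D.oneChar_mem_blk
  exact h

theorem apply_pt_rest {φ : IrrCharacter D.V} {M : Ideal AlgInt} (hM : IsPModular p M) (F : D.Family φ)
    {χ : IrrCharacter G} (hχ : χ ∈ D.rest F) {i : ZMod p} (hi : i ≠ 0) (v : D.V) :
    (χ : G → ℂ) (D.pt (i, v)) = -(D.d χ 1 φ : ℂ) * D.osum φ v := by
  classical
  rw [D.apply_pt' χ hi v, ← Finset.sum_subset (Finset.subset_univ (D.orb φ)) (fun ψ _ hψ => by
    simp [D.d_eq_zero_of_blk hM hχ.1 hψ]), osum, Finset.mul_sum]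
  refine Finset.sum_congr rfl fun ψ hψ => ?_
  congr 1
  obtain ⟨g, rfl⟩ := D.mem_orb.1 hψ
  have hc := D.const_cj (F.const χ hχ.2) g
  have hd : D.d χ 1 (D.cj g φ) = D.d χ 1 φ := by
    have h1 := hc (D.rHom g) 1
    rw [rHom_apply, Units.val_one, ← mul_one (D.r g), D.d_conj] at h1
    exact h1.symm
  have e1 : ∀ j : ZMod p, (D.d χ j (D.cj g φ) : ℂ) * ee (i * j) =
      (D.d χ 1 φ : ℂ) * (ee (j * i) - if j = 0 then 1 else 0) := by
    intro j
    by_cases hj : j = 0
    · subst hj; simp [D.d_zero, ee_zero]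
    · rw [if_neg hj, sub_zero, mul_comm i, ← hd,
        show D.d χ j (D.cj g φ) = D.d χ 1 (D.cj g φ) from hc (Units.mk0 j hj) 1]
  rw [Finset.sum_congr rfl fun j _ => e1 j, ← Finset.mul_sum, Finset.sum_sub_distrib, sum_ee_mul, if_neg hi]
  simp

include D in
theorem dvd_natCard_G : p ∣ Nat.card G := by
  have := orderOf_dvd_natCard D.x
  rwa [D.hx] at this

theorem deg_rest {φ : IrrCharacter D.V} {M : Ideal AlgInt} (hM : IsPModular p M) (F : D.Family φ)
    {χ : IrrCharacter G} (hχ : χ ∈ D.rest F) :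
    (charDegree (χ : G → ℂ) : ℤ) ≡ -D.d χ 1 φ * D.odeg φ [ZMOD p] := by
  refine (Int.modEq_iff_dvd.2 ?_).symm
  have h1 := D.deg_blk hM hχ.1
  rw [D.S_rest F hχ] at h1
  have e : (charDegree (χ : G → ℂ) : ℤ) - -D.d χ 1 φ * D.odeg φ =
      ((charDegree (χ : G → ℂ) : ℤ) - ((p : ℤ) - 1) * D.d χ 1 φ * D.odeg φ) + p * (D.d χ 1 φ * D.odeg φ) := by
    ring
  rw [e]
  exact dvd_add h1 (dvd_mul_right _ _)

theorem deg_theta {φ : IrrCharacter D.V} {M : Ideal AlgInt} (hM : IsPModular p M) (F : D.Family φ)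
    (q : D.Idx φ) :
    (charDegree (F.θ q : G → ℂ) : ℤ) ≡ F.ε * (D.V.index * charDegree (φ : D.V → ℂ) : ℕ) [ZMOD p] := by
  refine (Int.modEq_iff_dvd.2 ?_).symm
  have h1 := D.deg_blk hM (D.theta_mem_blk F q)
  rw [D.S_theta, odeg] at h1
  rw [D.index_V_eq φ]
  convert h1 using 2
  push_cast
  ring

end Data

end CfsgLib.DefectOne
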