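import Cfsg.Agent.DefectOne.Families
import Cfsg.Agent.Blocks.DefectGroup
import Cfsg.Agent.Blocks.Defect
import Cfsg.Agent.Blocks.Glauberman
import Cfsg.Agent.CharBasics.ModP

/-!
# The blocks of a group with a Sylow subgroup of order `p`

The blocks of positive defect are the sets `blk φ`, one for each orbit of `H` on `Irr V`; `blk φ` consists of the
family of `φ` and `e` further characters.  The other blocks are the characters of degree divisible by `p`, alone.
-/

set_option autoImplicit false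
set_option linter.style.haveILetI false
set_option linter.unusedSectionVars false

namespace CfsgLib.DefectOne

open Cfsg CfsgLib.CharBasics CfsgLib.Blocks
open scoped ComplexConjugate

universe u

namespace Data

variable {G : Type u} [Group G] [Fintype G] {p : ℕ} [Fact p.Prime] (D : Data G p)

/-- The sum of the integer vector. -/
noncomputable def S (χ : IrrCharacter G) (φ : IrrCharacter D.V) : ℤ := ∑ j, D.d χ j φ

/-- The orbit sum. -/
noncomputable def osum (φ : IrrCharacter D.V) (v : D.V) : ℂ := ∑ ψ ∈ D.orb φ, (ψ : D.V → ℂ) v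

/-- The degree of the orbit sum. -/
noncomputable def odeg (φ : IrrCharacter D.V) : ℕ := (D.orb φ).card * charDegree (φ : D.V → ℂ)

/-- The normalised orbit sum. -/
noncomputable def nrm (φ : IrrCharacter D.V) (v : D.V) : ℂ := D.osum φ v / (D.odeg φ : ℂ)

/-- The characters with a non-zero vector on the orbit of `φ`. -/
def blk (φ : IrrCharacter D.V) : Set (IrrCharacter G) := {χ | ∃ j, D.d χ j φ ≠ 0}

theorem not_dvd_card_U (φ : IrrCharacter D.V) : ¬ p ∣ Nat.card (D.U φ) := by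
  have hp : p.Prime := Fact.out
  have h1 := D.card_U_mul_index φ
  have h2 : Nat.card (D.U φ) ∣ p - 1 := Dvd.intro _ h1
  have h3 := Nat.le_of_dvd (by have := hp.two_le; omega) h2
  exact Nat.not_dvd_of_pos_of_lt Nat.card_pos (by have := hp.two_le; omega)

theorem card_U_dvd (φ : IrrCharacter D.V) : Nat.card (D.U φ) ∣ p - 1 := Dvd.intro _ (D.card_U_mul_index φ)

theorem index_dvd (φ : IrrCharacter D.V) : (D.U φ).index ∣ p - 1 := Dvd.intro_left _ (D.card_U_mul_index φ)

theorem index_eq (φ : IrrCharacter D.V) : (D.U φ).index = (p - 1) / Nat.card (D.U φ) := by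
  rw [← D.card_U_mul_index φ, Nat.mul_div_cancel_left _ Nat.card_pos]

theorem S_eq_sum_units (χ : IrrCharacter G) (φ : IrrCharacter D.V) :
    D.S χ φ = ∑ a : (ZMod p)ˣ, D.d χ (a : ZMod p) φ := by
  classical
  rw [S, ← Finset.sum_erase_add _ _ (Finset.mem_univ 0), D.d_zero, add_zero]
  exact Finset.sum_bij' (fun j hj => Units.mk0 j (Finset.mem_erase.1 hj).1) (fun a _ => (a : ZMod p))
    (fun _ _ => Finset.mem_univ _) (fun a _ => Finset.mem_erase.2 ⟨a.ne_zero, Finset.mem_univ _⟩)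
    (fun _ _ => rfl) (fun a _ => Units.ext rfl) (fun _ _ => rfl)

theorem S_theta {φ : IrrCharacter D.V} (F : D.Family φ) (q : D.Idx φ) :
    D.S (F.θ q) φ = F.ε * Nat.card (D.U φ) := by
  classical
  rw [S_eq_sum_units]
  simp only [F.d_eq', ← Finset.sum_filter, Finset.sum_const, nsmul_eq_mul, mul_comm F.ε]
  congr 1
  norm_cast
  obtain ⟨b, rfl⟩ := D.cls_surj φ q
  rw [Nat.card_eq_fintype_card, ← Finset.card_univ]
  refine (Finset.card_bij (fun (u : D.U φ) _ => b * u) (fun u _ => ?_) (fun u _ w _ h => ?_) (fun a ha => ?_)).symm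
  · simp only [Finset.mem_filter, Finset.mem_univ, true_and]
    exact QuotientGroup.eq.2 (by simpa using u.2)
  · exact Subtype.ext (mul_left_cancel h)
  · simp only [Finset.mem_filter, Finset.mem_univ, true_and, cls, QuotientGroup.eq] at ha
    exact ⟨⟨_, ha⟩, Finset.mem_univ _, by simp⟩

theorem S_const {χ : IrrCharacter G} {φ : IrrCharacter D.V} (h : D.Const χ φ) :
    D.S χ φ = ((p : ℤ) - 1) * D.d χ 1 φ := by
  have hp : p.Prime := Fact.out
  rw [S_eq_sum_units, Finset.sum_congr rfl (fun (a : (ZMod p)ˣ) _ =>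
      show D.d χ (a : ZMod p) φ = D.d χ 1 φ from h a 1),
    Finset.sum_const, Finset.card_univ, ← Nat.card_eq_fintype_card, Nat.card_units, Nat.card_zmod, nsmul_eq_mul,
    Nat.cast_sub hp.one_le, Nat.cast_one]

theorem S_cj (χ : IrrCharacter G) (h : D.H) (φ : IrrCharacter D.V) : D.S χ (D.cj h φ) = D.S χ φ := by
  refine (Fintype.sum_equiv (Equiv.mulLeft₀ (D.r h) (D.r_ne_zero h)) _ _ fun j => ?_).symm
  rw [Equiv.mulLeft₀_apply, D.d_conj]

theorem S_orb (χ : IrrCharacter G) {φ ψ : IrrCharacter D.V} (h : ψ ∈ D.orb φ) : D.S χ ψ = D.S χ φ := by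
  obtain ⟨g, rfl⟩ := D.mem_orb.1 h
  exact D.S_cj χ g φ

theorem mem_blk_iff_const {χ : IrrCharacter G} {φ : IrrCharacter D.V} (h : D.Const χ φ) :
    χ ∈ D.blk φ ↔ D.d χ 1 φ ≠ 0 := by
  refine ⟨fun ⟨j, hj⟩ h1 => ?_, fun h1 => ⟨1, h1⟩⟩
  by_cases hj0 : j = 0
  · exact hj (hj0 ▸ D.d_zero χ φ)
  · exact hj ((h (Units.mk0 j hj0) 1).trans h1)

theorem theta_mem_blk {φ : IrrCharacter D.V} (F : D.Family φ) (q : D.Idx φ) : F.θ q ∈ D.blk φ := by
  classical
  obtain ⟨a, rfl⟩ := D.cls_surj φ q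
  refine ⟨(a : ZMod p), ?_⟩
  rw [F.d_eq', if_pos rfl]
  rcases F.sign with h | h <;> rw [h] <;> norm_num

theorem blk_cj (h : D.H) (φ : IrrCharacter D.V) : D.blk (D.cj h φ) = D.blk φ := by
  ext χ
  constructor
  · rintro ⟨j, hj⟩
    refine ⟨(D.r h)⁻¹ * j, ?_⟩
    rwa [← D.d_conj χ h, mul_inv_cancel_left₀ (D.r_ne_zero h)]
  · rintro ⟨j, hj⟩
    exact ⟨D.r h * j, by rwa [D.d_conj]⟩

theorem blk_orb {φ ψ : IrrCharacter D.V} (h : ψ ∈ D.orb φ) : D.blk ψ = D.blk φ := by
  obtain ⟨g, rfl⟩ := D.mem_orb.1 h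
  exact D.blk_cj g φ

variable {M : Ideal AlgInt}

theorem mem_blk_iff (hM : IsPModular p M) (χ : IrrCharacter G) (φ : IrrCharacter D.V) :
    χ ∈ D.blk φ ↔ ¬ (p : ℤ) ∣ D.S χ φ := by
  classical
  have hp : p.Prime := Fact.out
  obtain ⟨F⟩ := D.exists_family hM φ
  by_cases hF : χ ∈ Set.range F.θ
  · obtain ⟨q, rfl⟩ := hF
    refine iff_of_true (D.theta_mem_blk F q) ?_
    rw [D.S_theta, Int.natCast_dvd, Int.natAbs_mul, Int.natAbs_natCast]
    rcases F.sign with h | h <;> rw [h] <;> simpa using D.not_dvd_card_U φ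
  · have hc := F.const χ hF
    rw [D.mem_blk_iff_const hc, D.S_const hc]
    have hab := D.abs_d_le_one hM χ 1 φ
    constructor
    · intro h1 h2
      rcases (Nat.prime_iff_prime_int.1 hp).dvd_mul.1 h2 with h3 | h3
      · have h4 : (p : ℤ) ∣ 1 := by simpa using dvd_sub (dvd_refl (p : ℤ)) h3
        exact hp.not_dvd_one (by exact_mod_cast h4)
      · have := Int.le_of_dvd (abs_pos.2 h1) ((dvd_abs _ _).2 h3)
        have := hp.two_le
        omega
    · intro h1 h2
      exact h1 (by rw [h2, mul_zero]; exact dvd_zero _)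

theorem d_eq_zero_of_blk (hM : IsPModular p M) {χ : IrrCharacter G} {φ ψ : IrrCharacter D.V} (h : χ ∈ D.blk φ)
    (hψ : ψ ∉ D.orb φ) (j : ZMod p) : D.d χ j ψ = 0 := by
  obtain ⟨i, hi⟩ := h
  exact (D.eq_zero_or hM χ hψ i j).resolve_left hi

theorem S_eq_zero_of_blk (hM : IsPModular p M) {χ : IrrCharacter G} {φ ψ : IrrCharacter D.V} (h : χ ∈ D.blk φ)
    (hψ : ψ ∉ D.orb φ) : D.S χ ψ = 0 :=
  Finset.sum_eq_zero fun j _ => D.d_eq_zero_of_blk hM h hψ j

theorem mem_orb_of_mem_blk (hM : IsPModular p M) {χ : IrrCharacter G} {φ ψ : IrrCharacter D.V} (h : χ ∈ D.blk φ)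
    (h' : χ ∈ D.blk ψ) : ψ ∈ D.orb φ := by
  by_contra hψ
  obtain ⟨j, hj⟩ := h'
  exact hj (D.d_eq_zero_of_blk hM h hψ j)

theorem sum_S_apply (hM : IsPModular p M) {χ : IrrCharacter G} {φ : IrrCharacter D.V} (h : χ ∈ D.blk φ)
    (v : D.V) : ∑ ψ : IrrCharacter D.V, (D.S χ ψ : ℂ) * (ψ : D.V → ℂ) v = (D.S χ φ : ℂ) * D.osum φ v := by
  rw [← Finset.sum_subset (Finset.subset_univ (D.orb φ)) (fun ψ _ hψ => by
    rw [D.S_eq_zero_of_blk hM h hψ, Int.cast_zero, zero_mul]), osum, Finset.mul_sum]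
  exact Finset.sum_congr rfl fun ψ hψ => by rw [D.S_orb χ hψ]

theorem apply_V_congr (hM : IsPModular p M) (χ : IrrCharacter G) (i : ZMod p) (v : D.V) :
    MemLocalIdeal M ((χ : G → ℂ) (D.pt (i, v)) -
      ∑ ψ : IrrCharacter D.V, (D.S χ ψ : ℂ) * (ψ : D.V → ℂ) v) := by
  by_cases hi : i = 0
  · subst hi
    rw [show D.pt (0, v) = ((v : D.H) : G) by simp [pt], D.apply_V (isClassFunction_irr χ) v, ← Finset.sum_sub_distrib]
    refine memLocalIdeal_sum hM _ fun ψ _ => ?_
    obtain ⟨m, hm⟩ := D.exists_nat_mm (isCharacter_of_irr χ.2) 0 (isCharacter_of_irr ψ.2)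
    simp only [hm, S, ← d_eq, Int.cast_sum]
    rw [add_mul, add_sub_cancel_right, mul_assoc]
    exact memLocalIdeal_mul_right hM (memLocalIdeal_p hM)
      (memLocalRing_mul hM (memLocalRing_natCast hM m) (memLocalRing_apply hM ψ v))
  · rw [D.apply_pt' χ hi v, ← Finset.sum_sub_distrib]
    refine memLocalIdeal_sum hM _ fun ψ _ => ?_
    rw [← sub_mul, S, Int.cast_sum, ← Finset.sum_sub_distrib]
    refine memLocalIdeal_mul_right hM (memLocalIdeal_sum hM _ fun j _ => ?_) (memLocalRing_apply hM ψ v)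
    rw [← mul_sub_one]
    refine memLocalIdeal_mul_left hM (memLocalRing_intCast hM _) (memLocalIdeal_root_sub_one hM ?_)
    show ZMod.stdAddChar (i * j) ^ p = 1
    rw [← AddChar.map_nsmul_eq_pow, ZModModule.char_nsmul_eq_zero, AddChar.map_zero_eq_one]

theorem deg_congr (χ : IrrCharacter G) :
    (p : ℤ) ∣ (charDegree (χ : G → ℂ) : ℤ) - ∑ ψ : IrrCharacter D.V, D.S χ ψ * charDegree (ψ : D.V → ℂ) := by
  have h := D.apply_V (isClassFunction_irr χ) 1
  choose m hm using fun ψ : IrrCharacter D.V => D.exists_nat_mm (isCharacter_of_irr χ.2) 0 (isCharacter_of_irr ψ.2)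
  refine ⟨∑ ψ, (m ψ : ℤ) * charDegree (ψ : D.V → ℂ), ?_⟩
  apply Int.cast_injective (α := ℂ)
  simp only [OneMemClass.coe_one, apply_one (isCharacter_of_irr χ.2), hm,
    fun ψ : IrrCharacter D.V => apply_one (isCharacter_of_irr ψ.2)] at h
  push_cast
  rw [h, ← Finset.sum_sub_distrib, Finset.mul_sum]
  refine Finset.sum_congr rfl fun ψ _ => ?_
  simp only [S, Int.cast_sum, d_eq]
  ring

theorem not_dvd_odeg (φ : IrrCharacter D.V) : ¬ p ∣ D.odeg φ := by
  intro h
  rcases (Fact.out : p.Prime).dvd_mul.1 h with h | h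
  · refine D.hHp (h.trans ?_)
    rw [D.card_orb]
    exact Subgroup.index_dvd_card _
  · exact D.not_dvd_card_V (h.trans (degree_dvd φ))

theorem deg_blk (hM : IsPModular p M) {χ : IrrCharacter G} {φ : IrrCharacter D.V} (h : χ ∈ D.blk φ) :
    (p : ℤ) ∣ (charDegree (χ : G → ℂ) : ℤ) - D.S χ φ * D.odeg φ := by
  have h1 := D.deg_congr χ
  rw [← Finset.sum_subset (Finset.subset_univ (D.orb φ)) (fun ψ _ hψ => by
    rw [D.S_eq_zero_of_blk hM h hψ, zero_mul]), Finset.sum_congr rfl (g := fun _ => D.S χ φ * (charDegree (φ : D.V → ℂ) : ℤ))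
    (fun ψ hψ => by
      rw [D.S_orb χ hψ]
      have := D.apply_one_orb hψ
      rw [apply_one (isCharacter_of_irr ψ.2), apply_one (isCharacter_of_irr φ.2), Nat.cast_inj] at this
      rw [this]), Finset.sum_const, nsmul_eq_mul] at h1
  convert h1 using 2
  rw [odeg, Nat.cast_mul]
  ring

theorem not_dvd_deg_blk (hM : IsPModular p M) {χ : IrrCharacter G} {φ : IrrCharacter D.V} (h : χ ∈ D.blk φ) :
    ¬ p ∣ charDegree (χ : G → ℂ) := by
  intro hd
  have h1 := dvd_sub (Int.natCast_dvd_natCast.2 hd) (D.deg_blk hM h)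
  rw [sub_sub_cancel] at h1
  rcases (Nat.prime_iff_prime_int.1 (Fact.out : p.Prime)).dvd_mul.1 h1 with h2 | h2
  · exact (D.mem_blk_iff hM χ φ).1 h h2
  · exact D.not_dvd_odeg φ (Int.natCast_dvd_natCast.1 h2)

theorem zero_of_not_blk {χ : IrrCharacter G} (h : ∀ φ, χ ∉ D.blk φ) (φ : IrrCharacter D.V) (j : ZMod p) :
    D.d χ j φ = 0 := by
  by_contra hd
  exact h φ ⟨j, hd⟩

theorem vanish_of_not_blk {χ : IrrCharacter G} (h : ∀ φ, χ ∉ D.blk φ) {g : G} (hg : p ∣ orderOf g) :
    (χ : G → ℂ) g = 0 := by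
  obtain ⟨y, i, v, hi, hy⟩ := D.exists_conj_pt hg
  rw [← isClassFunction_irr χ g y, hy, D.apply_pt' χ hi v]
  simp [D.zero_of_not_blk h]

theorem dvd_deg_iff (hM : IsPModular p M) (χ : IrrCharacter G) :
    ¬ p ∣ charDegree (χ : G → ℂ) ↔ ∃ φ, χ ∈ D.blk φ := by
  refine ⟨fun hd => ?_, fun ⟨φ, h⟩ => D.not_dvd_deg_blk hM h⟩
  by_contra hn
  push Not at hn
  refine hd (Int.natCast_dvd_natCast.1 ?_)
  have h1 := D.deg_congr χ
  simpa [S, D.zero_of_not_blk hn] using h1

theorem memLocalRing_nrm (hM : IsPModular p M) (φ : IrrCharacter D.V) (v : D.V) : MemLocalRing M (D.nrm φ v) := by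
  rw [nrm, div_eq_mul_inv]
  exact memLocalRing_mul hM (memLocalRing_sum hM _ fun ψ _ => memLocalRing_apply hM ψ v)
    (memLocalRing_natCast_inv hM (D.not_dvd_odeg φ))

theorem centralChar_congr_class {χ : G → ℂ} (hχ : IsClassFunction G χ) (g y : G) :
    centralChar χ (y * g * y⁻¹) = centralChar χ g := by
  have h1 := card_centralizer_eq (isConj_iff.2 ⟨y, rfl⟩ : IsConj g (y * g * y⁻¹))
  have h2 : (Subgroup.centralizer ({y * g * y⁻¹} : Set G)).index = (Subgroup.centralizer ({g} : Set G)).index := by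
    have e1 := Subgroup.card_mul_index (Subgroup.centralizer ({g} : Set G))
    have e2 := Subgroup.card_mul_index (Subgroup.centralizer ({y * g * y⁻¹} : Set G))
    rw [← h1, ← e1] at e2
    exact Nat.eq_of_mul_eq_mul_left Nat.card_pos e2
  rw [centralChar, centralChar, h2, hχ g y]

theorem centralChar_pt (hM : IsPModular p M) {χ : IrrCharacter G} {φ : IrrCharacter D.V} (h : χ ∈ D.blk φ)
    (i : ZMod p) (v : D.V) :
    MemLocalIdeal M (centralChar (χ : G → ℂ) (D.pt (i, v)) -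
      ((Subgroup.centralizer ({D.pt (i, v)} : Set G)).index : ℂ) * D.nrm φ v) := by
  set K := ((Subgroup.centralizer ({D.pt (i, v)} : Set G)).index : ℂ)
  have h1 := D.apply_V_congr hM χ i v
  rw [D.sum_S_apply hM h v] at h1
  have hn := D.not_dvd_deg_blk hM h
  have e : centralChar (χ : G → ℂ) (D.pt (i, v)) - K * D.nrm φ v =
      K * ((charDegree (χ : G → ℂ) : ℂ)⁻¹ * ((χ : G → ℂ) (D.pt (i, v)) - (D.S χ φ : ℂ) * D.osum φ v) +
        D.osum φ v * ((charDegree (χ : G → ℂ) : ℂ)⁻¹ * (D.odeg φ : ℂ)⁻¹ *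
          -(((charDegree (χ : G → ℂ) : ℤ) - D.S χ φ * D.odeg φ : ℤ) : ℂ))) := by
    have h2 : (charDegree (χ : G → ℂ) : ℂ) ≠ 0 := Nat.cast_ne_zero.2 (charDegree_pos χ.2).ne'
    have h3 : (D.odeg φ : ℂ) ≠ 0 := Nat.cast_ne_zero.2 fun h0 => D.not_dvd_odeg φ (by rw [h0]; exact dvd_zero p)
    rw [centralChar, apply_one (isCharacter_of_irr χ.2), nrm]
    push_cast
    field_simp
    ring
  rw [e]
  refine memLocalIdeal_mul_left hM (memLocalRing_natCast hM _) (memLocalIdeal_add hM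
    (memLocalIdeal_mul_left hM (memLocalRing_natCast_inv hM hn) h1)
    (memLocalIdeal_mul_left hM (memLocalRing_sum hM _ fun ψ _ => memLocalRing_apply hM ψ v)
      (memLocalIdeal_mul_left hM (memLocalRing_mul hM (memLocalRing_natCast_inv hM hn)
        (memLocalRing_natCast_inv hM (D.not_dvd_odeg φ))) (memLocalIdeal_neg ?_))))
  exact (memLocalIdeal_intCast_iff hM _).2 (D.deg_blk hM h)

include D in
theorem centralChar_mem_of_not_dvd (hM : IsPModular p M) {χ : IrrCharacter G}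
    (hd : ¬ p ∣ charDegree (χ : G → ℂ)) {g : G} (hg : ¬ p ∣ Nat.card (Subgroup.centralizer ({g} : Set G))) :
    MemLocalIdeal M (centralChar (χ : G → ℂ) g) := by
  have hdiv : p ∣ (Subgroup.centralizer ({g} : Set G)).index := by
    have h1 : p ∣ Nat.card G := by
      have := orderOf_dvd_natCard D.x
      rwa [D.hx] at this
    rw [← Subgroup.card_mul_index (Subgroup.centralizer ({g} : Set G))] at h1
    exact ((Fact.out : p.Prime).dvd_mul.1 h1).resolve_left hg
  rw [centralChar, mul_div_assoc, apply_one (isCharacter_of_irr χ.2), div_eq_mul_inv]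
  exact memLocalIdeal_mul_right hM ((memLocalIdeal_natCast_iff hM _).2 hdiv)
    (memLocalRing_mul hM (memLocalRing_apply hM χ g) (memLocalRing_natCast_inv hM hd))

include D in
theorem exists_conj_of_dvd_centralizer {g : G} (hg : p ∣ Nat.card (Subgroup.centralizer ({g} : Set G))) :
    ∃ y q, y * g * y⁻¹ = D.pt q := by
  obtain ⟨⟨w, hw⟩, hwp⟩ := exists_prime_orderOf_dvd_card' p hg
  rw [Subgroup.orderOf_mk] at hwp
  obtain ⟨y, i, v, hi, hy⟩ := D.exists_conj_pt (g := w) (dvd_of_eq hwp.symm)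
  refine ⟨y, ?_⟩
  refine D.exists_pt ?_
  have hc : Commute (y * g * y⁻¹) (D.pt (i, v)) := by
    rw [← hy]
    exact Commute.conj (Subgroup.mem_centralizer_singleton_iff.1 hw).symm y
  have h2 := hc.pow_right (orderOf ((v : D.H) : G))
  rw [pt, (D.commute_xV _ v).mul_pow, pow_orderOf_eq_one, mul_one, ← pow_mul] at h2
  obtain ⟨l, hl⟩ := exists_pow_eq_self_of_coprime (x := D.x) (n := i.val * orderOf ((v : D.H) : G))
    (by
      rw [D.hx]
      refine (D.hp.coprime_iff_not_dvd.2 fun hd => ?_).symm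
      rcases D.hp.dvd_mul.1 hd with hd | hd
      · exact hi ((ZMod.val_eq_zero i).1 (Nat.eq_zero_of_dvd_of_lt hd (ZMod.val_lt i)))
      · exact D.orderOf_V_not_dvd v hd)
  rw [← hl]
  exact h2.pow_right l

theorem sameBlock_blk (hM : IsPModular p M) {χ χ' : IrrCharacter G} {φ : IrrCharacter D.V} (h : χ ∈ D.blk φ)
    (h' : χ' ∈ D.blk φ) : SameBlock M (χ : G → ℂ) (χ' : G → ℂ) := by
  intro g
  by_cases hg : p ∣ Nat.card (Subgroup.centralizer ({g} : Set G))
  · obtain ⟨y, ⟨i, v⟩, hy⟩ := D.exists_conj_of_dvd_centralizer hg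
    rw [← centralChar_congr_class (isClassFunction_irr χ) g y, ← centralChar_congr_class (isClassFunction_irr χ') g y,
      hy]
    simpa using memLocalIdeal_sub hM (D.centralChar_pt hM h i v) (D.centralChar_pt hM h' i v)
  · exact memLocalIdeal_sub hM (D.centralChar_mem_of_not_dvd hM (D.not_dvd_deg_blk hM h) hg)
      (D.centralChar_mem_of_not_dvd hM (D.not_dvd_deg_blk hM h') hg)

/-- The normalised orbit sums separate the orbits. -/
theorem mem_orb_of_nrm (hM : IsPModular p M) {φ φ' : IrrCharacter D.V}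
    (h : ∀ v, MemLocalIdeal M (D.nrm φ v - D.nrm φ' v)) : φ' ∈ D.orb φ := by
  classical
  by_contra hn
  have hin : ∀ ψ : IrrCharacter D.V,
      ∑ v : D.V, D.osum ψ v * conj ((φ : D.V → ℂ) v) = if φ ∈ D.orb ψ then (Nat.card D.V : ℂ) else 0 := by
    intro ψ
    simp only [osum, Finset.sum_mul]
    rw [Finset.sum_comm]
    simp only [sum_mul_conj]
    rw [Finset.sum_ite_eq']
  have h1 : MemLocalIdeal M (∑ v : D.V, (D.nrm φ v - D.nrm φ' v) * conj ((φ : D.V → ℂ) v)) :=
    memLocalIdeal_sum hM _ fun v _ => memLocalIdeal_mul_right hM (h v) (memLocalRing_conj hM φ v)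
  simp only [sub_mul, Finset.sum_sub_distrib, nrm, div_mul_eq_mul_div, ← Finset.sum_div, hin,
    if_pos (D.self_mem_orb φ), if_neg (fun hh => hn (D.orb_symm hh)), zero_div, sub_zero] at h1
  have h2 := memLocalIdeal_mul_right hM h1 (memLocalRing_natCast hM (D.odeg φ))
  rw [div_mul_cancel₀ _ (Nat.cast_ne_zero.2 fun h0 => D.not_dvd_odeg φ (by rw [h0]; exact dvd_zero p)),
    memLocalIdeal_natCast_iff hM] at h2
  exact D.not_dvd_card_V h2

theorem not_dvd_index_centralizer_V (v : D.V) :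
    ¬ p ∣ (Subgroup.centralizer ({((v : D.H) : G)} : Set G)).index := by
  intro hd
  refine D.hSyl ?_
  rw [← Subgroup.card_mul_index (Subgroup.centralizer ({((v : D.H) : G)} : Set G)), sq]
  refine Nat.mul_dvd_mul ?_ hd
  have hx : D.x ∈ Subgroup.centralizer ({((v : D.H) : G)} : Set G) :=
    Subgroup.mem_centralizer_singleton_iff.2 (D.mem_V.1 v.2).eq.symm
  have h1 := orderOf_dvd_natCard (⟨D.x, hx⟩ : Subgroup.centralizer ({((v : D.H) : G)} : Set G))
  rwa [Subgroup.orderOf_mk, D.hx] at h1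

theorem orb_of_sameBlock (hM : IsPModular p M) {χ χ' : IrrCharacter G} {φ φ' : IrrCharacter D.V}
    (h : χ ∈ D.blk φ) (h' : χ' ∈ D.blk φ') (hs : SameBlock M (χ : G → ℂ) (χ' : G → ℂ)) : φ' ∈ D.orb φ := by
  refine D.mem_orb_of_nrm hM fun v => ?_
  have h1 := memLocalIdeal_add hM (memLocalIdeal_sub hM (hs (D.pt (0, v))) (D.centralChar_pt hM h 0 v))
    (D.centralChar_pt hM h' 0 v)
  have hpt : D.pt (0, v) = ((v : D.H) : G) := by simp [pt]
  rw [hpt] at h1
  set K := ((Subgroup.centralizer ({((v : D.H) : G)} : Set G)).index : ℂ)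
  have h2 : MemLocalIdeal M (K * (D.nrm φ v - D.nrm φ' v)) := by
    convert h1 using 1; ring
  have hy : MemLocalRing M (D.nrm φ v - D.nrm φ' v) := by
    rw [sub_eq_add_neg]
    exact memLocalRing_add hM (D.memLocalRing_nrm hM φ v) (memLocalRing_neg (D.memLocalRing_nrm hM φ' v))
  exact (memLocalIdeal_of_mul hM (memLocalRing_natCast hM _) hy h2).resolve_left
    fun hK => D.not_dvd_index_centralizer_V v ((memLocalIdeal_natCast_iff hM _).1 hK)

include D in
theorem alone_of_not_blk (hM : IsPModular p M) {χ χ' : IrrCharacter G} (hd : p ∣ charDegree (χ : G → ℂ))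
    (hs : SameBlock M (χ : G → ℂ) (χ' : G → ℂ)) : χ' = χ := by
  classical
  have hint : IsIntegralElt M (blockElt ({χ} : Set (IrrCharacter G))) := fun g => by
    rw [coeff_blockElt, blockCoeff_singleton]
    obtain ⟨c, hc⟩ := hd
    obtain ⟨b, hb⟩ : p ∣ Nat.card G := by
      have := orderOf_dvd_natCard D.x
      rwa [D.hx] at this
    have hbp : ¬ p ∣ b := fun hdb => D.hSyl (by rw [hb, sq]; exact Nat.mul_dvd_mul_left p hdb)
    have : (Nat.card G : ℂ)⁻¹ * ((χ : G → ℂ) 1 * conj ((χ : G → ℂ) g)) =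
        (b : ℂ)⁻¹ * ((c : ℂ) * conj ((χ : G → ℂ) g)) := by
      have hp0 : (p : ℂ) ≠ 0 := natCast_p_ne_zero
      rw [apply_one (isCharacter_of_irr χ.2), hc, hb]
      push_cast
      field_simp
    rw [this]
    exact memLocalRing_mul hM (memLocalRing_natCast_inv hM hbp)
      (memLocalRing_mul hM (memLocalRing_natCast hM c) (memLocalRing_conj hM χ g))
  have h1 := omega_sub_mem_of_sameBlock hM hs (isClassElt_blockElt _) hint
  rw [omega_blockElt, omega_blockElt, if_pos (Set.mem_singleton χ)] at h1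
  by_contra hne
  rw [if_neg (by simpa using hne), sub_zero] at h1
  exact not_memLocalIdeal_one hM h1

theorem blockOf_blk (hM : IsPModular p M) {χ : IrrCharacter G} {φ : IrrCharacter D.V} (h : χ ∈ D.blk φ) :
    blockOf M (χ : G → ℂ) = D.blk φ := by
  ext χ'
  refine ⟨fun hs => ?_, fun h' => D.sameBlock_blk hM h h'⟩
  have hs' : SameBlock M (χ : G → ℂ) (χ' : G → ℂ) := hs
  by_cases hd : p ∣ charDegree (χ' : G → ℂ)
  · rw [← D.alone_of_not_blk hM hd (sameBlock_symm hs')]
    exact h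
  · obtain ⟨φ', h''⟩ := (D.dvd_deg_iff hM χ').1 hd
    rwa [← D.blk_orb (D.orb_of_sameBlock hM h h'' hs')]

include D in
theorem blockDefect_le_one (B : Set (IrrCharacter G)) : blockDefect p B ≤ 1 := by
  have h1 : (Nat.card G).factorization p ≤ 1 := by
    by_contra hlt
    exact D.hSyl ((D.hp.pow_dvd_iff_le_factorization Nat.card_pos.ne').2 (by omega))
  exact (Nat.sub_le _ _).trans h1

theorem blockDefect_blk (hM : IsPModular p M) (φ : IrrCharacter D.V) : blockDefect p (D.blk φ) = 1 := by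
  obtain ⟨F⟩ := D.exists_family hM φ
  refine le_antisymm (D.blockDefect_le_one _) ?_
  have h0 : sInf ((fun χ : IrrCharacter G => (charDegree (χ : G → ℂ)).factorization p) '' D.blk φ) = 0 :=
    Nat.sInf_eq_zero.2 (Or.inl ⟨_, D.theta_mem_blk F 1,
      Nat.factorization_eq_zero_of_not_dvd (D.not_dvd_deg_blk hM (D.theta_mem_blk F 1))⟩)
  rw [blockDefect, h0, Nat.sub_zero]
  refine (D.hp.pow_dvd_iff_le_factorization Nat.card_pos.ne').1 ?_
  have := orderOf_dvd_natCard D.x
  rwa [D.hx, ← pow_one p] at this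

theorem block_cases (hM : IsPModular p M) {B : Set (IrrCharacter G)} (hB : IsPBlock M B) :
    (∃ φ, B = D.blk φ) ∨ ∃ χ : IrrCharacter G, B = {χ} ∧ p ∣ charDegree (χ : G → ℂ) ∧ blockDefect p B = 0 := by
  obtain ⟨χ, rfl⟩ := hB
  by_cases hd : p ∣ charDegree (χ : G → ℂ)
  · have he : blockOf M (χ : G → ℂ) = {χ} := by
      ext χ'
      exact ⟨fun h => D.alone_of_not_blk hM hd h, fun h => by
        rw [Set.mem_singleton_iff.1 h]; exact mem_blockOf_self hM χ⟩
    refine Or.inr ⟨χ, he, hd, ?_⟩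
    rw [he, blockDefect, Set.image_singleton, csInf_singleton]
    have h1 : 1 ≤ (charDegree (χ : G → ℂ)).factorization p :=
      (D.hp.pow_dvd_iff_le_factorization (charDegree_pos χ.2).ne').1 (by rwa [pow_one])
    have h2 : (Nat.card G).factorization p ≤ 1 := by
      by_contra hlt
      exact D.hSyl ((D.hp.pow_dvd_iff_le_factorization Nat.card_pos.ne').2 (by omega))
    omega
  · obtain ⟨φ, h⟩ := (D.dvd_deg_iff hM χ).1 hd
    exact Or.inl ⟨φ, D.blockOf_blk hM h⟩

theorem exists_blk_of_defect (hM : IsPModular p M) {B : Set (IrrCharacter G)} (hB : IsPBlock M B)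
    (hd : 0 < blockDefect p B) : ∃ φ, B = D.blk φ := by
  rcases D.block_cases hM hB with h | ⟨χ, -, -, h⟩
  · exact h
  · omega

/-- The characters outside the family. -/
def rest {φ : IrrCharacter D.V} (F : D.Family φ) : Set (IrrCharacter G) := D.blk φ \ Set.range F.θ

theorem blk_eq_union {φ : IrrCharacter D.V} (F : D.Family φ) :
    D.blk φ = D.rest F ∪ Set.range F.θ :=
  (Set.sdiff_union_of_subset (by rintro _ ⟨q, rfl⟩; exact D.theta_mem_blk F q)).symm

theorem disjoint_rest {φ : IrrCharacter D.V} (F : D.Family φ) : Disjoint (D.rest F) (Set.range F.θ) :=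
  Set.disjoint_sdiff_left

theorem card_range {φ : IrrCharacter D.V} (F : D.Family φ) :
    Nat.card (Set.range F.θ) = (D.U φ).index :=
  (Nat.card_range_of_injective F.inj).trans rfl

theorem rest_d (hM : IsPModular p M) {φ : IrrCharacter D.V} (F : D.Family φ) {χ : IrrCharacter G}
    (hχ : χ ∈ D.rest F) : D.d χ 1 φ = 1 ∨ D.d χ 1 φ = -1 := by
  have h1 := (D.mem_blk_iff_const (F.const χ hχ.2)).1 hχ.1
  have h2 := abs_le.1 (D.abs_d_le_one hM χ 1 φ)
  omega

theorem card_rest (hM : IsPModular p M) {φ : IrrCharacter D.V} (F : D.Family φ) :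
    Nat.card (D.rest F) = Nat.card (D.U φ) := by
  classical
  haveI : Fintype (IrrCharacter G) := Fintype.ofFinite _
  have h1 := D.gram_self φ 1 1
  rw [if_pos rfl, Units.val_one] at h1
  have h2 : ∀ χ : IrrCharacter G, D.d χ 1 φ * D.d χ 1 φ =
      (if χ = F.θ (D.cls φ 1) then 1 else 0) + if χ ∈ D.rest F then 1 else 0 := by
    intro χ
    by_cases hF : χ ∈ Set.range F.θ
    · obtain ⟨q, rfl⟩ := hF
      rw [if_neg (show F.θ q ∉ D.rest F from fun h => h.2 ⟨q, rfl⟩), add_zero, ← Units.val_one, F.d_eq']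
      simp only [F.inj.eq_iff]
      rcases F.sign with h | h <;> rw [h] <;> split_ifs <;> norm_num
    · rw [if_neg (fun h => hF ⟨_, h.symm⟩), zero_add]
      by_cases hb : χ ∈ D.rest F
      · rw [if_pos hb]
        rcases D.rest_d hM F hb with h | h <;> rw [h] <;> norm_num
      · rw [if_neg hb]
        have : ¬ χ ∈ D.blk φ := fun h => hb ⟨h, hF⟩
        rw [D.mem_blk_iff_const (F.const χ hF), not_not] at this
        rw [this, mul_zero]
  simp only [h2, Finset.sum_add_distrib, Finset.sum_ite_eq', Finset.mem_univ, if_true, ← Finset.sum_filter,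
    Finset.sum_const, nsmul_eq_mul, mul_one] at h1
  have h3 : ((Finset.univ.filter fun χ : IrrCharacter G => χ ∈ D.rest F).card : ℤ) = Nat.card (D.U φ) := by omega
  rw [← Fintype.card_subtype, ← Nat.card_eq_fintype_card] at h3
  exact_mod_cast h3

theorem card_blk (hM : IsPModular p M) (φ : IrrCharacter D.V) :
    Nat.card (D.blk φ) = Nat.card (D.U φ) + (D.U φ).index := by
  obtain ⟨F⟩ := D.exists_family hM φ
  rw [Nat.card_coe_set_eq, D.blk_eq_union F, Set.ncard_union_eq (D.disjoint_rest F), ← Nat.card_coe_set_eq,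
    ← Nat.card_coe_set_eq, D.card_rest hM F, D.card_range F]

theorem S_rest {φ : IrrCharacter D.V} (F : D.Family φ) {χ : IrrCharacter G} (hχ : χ ∈ D.rest F) :
    D.S χ φ = ((p : ℤ) - 1) * D.d χ 1 φ := D.S_const (F.const χ hχ.2)

theorem theta_regular {φ : IrrCharacter D.V} (F : D.Family φ) (q : D.Idx φ) {g : G} (hg : ¬ p ∣ orderOf g) :
    (F.θ q : G → ℂ) g = (F.θ 1 : G → ℂ) g := by
  obtain ⟨u, rfl⟩ := D.cls_surj φ q
  rw [← mul_one (D.cls φ u), ← F.tw_eq, D.tw_regular u _ hg]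

/-- The relation on the regular elements. -/
theorem regular_relation {φ : IrrCharacter D.V} (F : D.Family φ) (q : D.Idx φ) {g : G} (hg : ¬ p ∣ orderOf g) :
    (F.ε : ℂ) * (F.θ q : G → ℂ) g + ∑ᶠ χ ∈ D.rest F, (D.d χ 1 φ : ℂ) * (χ : G → ℂ) g = 0 := by
  classical
  haveI : Fintype (IrrCharacter G) := Fintype.ofFinite _
  have h := D.sum_d_apply_regular 1 φ hg
  have h2 : ∀ χ : IrrCharacter G, (D.d χ 1 φ : ℂ) * (χ : G → ℂ) g =
      (if χ = F.θ (D.cls φ 1) then (F.ε : ℂ) * (χ : G → ℂ) g else 0) +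
        if χ ∈ D.rest F then (D.d χ 1 φ : ℂ) * (χ : G → ℂ) g else 0 := by
    intro χ
    by_cases hF : χ ∈ Set.range F.θ
    · obtain ⟨q, rfl⟩ := hF
      rw [if_neg (show F.θ q ∉ D.rest F from fun h => h.2 ⟨q, rfl⟩), add_zero, ← Units.val_one, F.d_eq']
      simp only [F.inj.eq_iff]
      split_ifs <;> simp
    · rw [if_neg (fun h => hF ⟨_, h.symm⟩), zero_add]
      split_ifs with hb
      · rfl
      · have : ¬ χ ∈ D.blk φ := fun h => hb ⟨h, hF⟩
        rw [D.mem_blk_iff_const (F.const χ hF), not_not] at this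
        rw [this, Int.cast_zero, zero_mul]
  rw [Finset.sum_congr rfl fun χ _ => h2 χ, Finset.sum_add_distrib,
    Finset.sum_ite_eq' Finset.univ (F.θ (D.cls φ 1)) (fun χ : IrrCharacter G => (F.ε : ℂ) * (χ : G → ℂ) g),
    if_pos (Finset.mem_univ _), ← Finset.sum_filter] at h
  rw [D.theta_regular F q hg, ← D.theta_regular F (D.cls φ 1) hg,
    finsum_mem_eq_sum_of_subset (t := Finset.univ.filter fun χ => χ ∈ D.rest F) _
      (fun χ hχ => by simpa using hχ.1) (fun χ hχ => (Finset.mem_filter.1 hχ).2)]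
  exact h

end Data

end CfsgLib.DefectOne

namespace CfsgLib.DefectOne.Data

open Cfsg

universe u

variable {G : Type u} [Group G] [Fintype G] {p : ℕ} [Fact p.Prime] (D : Data G p)

/-- Any exponent fixing the regular elements gives the twist. -/
theorem apply_pow_eq_tw (χ : IrrCharacter G) {k : ℕ} {u : (ZMod p)ˣ} (hk : (k : ZMod p) = u)
    (hfix : ∀ g : G, ¬ p ∣ orderOf g → g ^ k = g) (g : G) : (χ : G → ℂ) (g ^ k) = (D.tw u χ : G → ℂ) g := by
  refine congrFun (D.ext_of_pt (α := fun g : G => (χ : G → ℂ) (g ^ k)) (fun a b => ?_) (isClassFunction_irr _)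
    (fun g hg => ?_) fun i v _ => ?_) g
  · show (χ : G → ℂ) ((b * a * b⁻¹) ^ k) = _
    rw [_root_.conj_pow]
    exact isClassFunction_irr χ _ _
  · show (χ : G → ℂ) (g ^ k) = _
    rw [hfix g hg, D.tw_regular u χ hg]
  · show (χ : G → ℂ) (D.pt (i, v) ^ k) = _
    rw [D.tw_pt, pt, (D.commute_xV _ v).mul_pow, ← pow_mul, hfix _ (D.orderOf_V_not_dvd v), pt]
    refine congrArg (χ : G → ℂ) (congrArg (· * _) ?_)
    rw [D.pow_eq_iff]
    push_cast
    rw [ZMod.natCast_zmod_val, ZMod.natCast_zmod_val, hk, mul_comm]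

end CfsgLib.DefectOne.Data
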