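import Mathlib
import Cfsg.Agent.Blocks.Local

/-!
# The unramified coefficient ring at `M`

`uRing hM` consists of the fractions `a / b` with `a, b` in the ring generated by the roots of unity of order
prime to `p` and `b ∉ M`.  Since such an `a` satisfies `a ^ q ≡ a (mod p)`, it is a discrete valuation ring
with prime `p`, and its residue field is algebraically closed.
-/

set_option autoImplicit false
set_option linter.style.haveILetI false

noncomputable section

namespace CfsgLib.DefectOne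

open Cfsg CfsgLib.Blocks Polynomial

variable {p : ℕ}

/-- The ring generated by the roots of unity of order prime to `p`. -/
def cycRing (p : ℕ) : Subring ℂ := Subring.closure {z : ℂ | ∃ m : ℕ, ¬ p ∣ m ∧ z ^ m = 1}

/-- The field generated by the roots of unity of order prime to `p`. -/
def uField (p : ℕ) : Subfield ℂ := Subfield.closure {z : ℂ | ∃ m : ℕ, ¬ p ∣ m ∧ z ^ m = 1}

theorem root_mem_cycRing {z : ℂ} {m : ℕ} (hm : ¬ p ∣ m) (hz : z ^ m = 1) : z ∈ cycRing p :=
  Subring.subset_closure ⟨m, hm, hz⟩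

theorem cycRing_isIntegral {z : ℂ} (hz : z ∈ cycRing p) : IsIntegral ℤ z := by
  have : cycRing p ≤ (integralClosure ℤ ℂ).toSubring := by
    refine Subring.closure_le.2 ?_
    rintro w ⟨m, hm, hw⟩
    exact ⟨X ^ m - 1, monic_X_pow_sub_C 1 (fun h => hm (h ▸ dvd_zero p)), by simp [hw]⟩
  exact this hz

/-- Frobenius fixes the ring modulo `p`. -/
theorem exists_pow_sub_self (hp : p.Prime) {a : ℂ} (ha : a ∈ cycRing p) :
    ∃ s : ℕ, 0 < s ∧ ∀ j : ℕ, ∃ c ∈ cycRing p, a ^ p ^ (s * j) - a = (p : ℂ) * c := by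
  unfold cycRing at ha
  induction ha using Subring.closure_induction with
  | mem x hx =>
    obtain ⟨m, hm, hx⟩ := hx
    refine ⟨m.totient, Nat.totient_pos.2 (Nat.pos_of_ne_zero fun h => hm (h ▸ dvd_zero p)), fun j => ⟨0, zero_mem _, ?_⟩⟩
    have h1 : p ^ (m.totient * j) % m = 1 % m := by
      have := (Nat.ModEq.pow_totient ((hp.coprime_iff_not_dvd.2 hm))).pow j
      rw [one_pow, ← pow_mul] at this
      exact this
    rw [pow_eq_pow_mod _ hx, h1, ← pow_eq_pow_mod _ hx, pow_one, sub_self, mul_zero]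
  | zero => exact ⟨1, one_pos, fun j => ⟨0, zero_mem _, by rw [zero_pow (pow_ne_zero _ hp.ne_zero)]; simp⟩⟩
  | one => exact ⟨1, one_pos, fun j => ⟨0, zero_mem _, by simp⟩⟩
  | add x y hx hy ihx ihy =>
    obtain ⟨s, hs, ihx⟩ := ihx
    obtain ⟨t, ht, ihy⟩ := ihy
    refine ⟨s * t, Nat.mul_pos hs ht, fun j => ?_⟩
    obtain ⟨c, hc, hcx⟩ := ihx (t * j)
    obtain ⟨d, hd, hdy⟩ := ihy (s * j)
    rw [← mul_assoc] at hcx hdy
    rw [mul_comm t s] at hdy
    obtain ⟨r, hr⟩ := exists_add_pow_prime_pow_eq hp (⟨x, hx⟩ : cycRing p) ⟨y, hy⟩ (s * t * j)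
    have hr' := congrArg Subtype.val hr
    push_cast at hr'
    exact ⟨c + d + x * y * r, add_mem (add_mem hc hd) (mul_mem (mul_mem hx hy) r.2),
      by linear_combination hr' + hcx + hdy⟩
  | neg x hx ih =>
    obtain ⟨s, hs, ih⟩ := ih
    refine ⟨s, hs, fun j => ?_⟩
    obtain ⟨c, hc, hcx⟩ := ih j
    rcases hp.eq_two_or_odd' with h2 | hodd
    · rcases Nat.even_or_odd (p ^ (s * j)) with he | ho
      · subst h2
        exact ⟨c + x, add_mem hc hx, by rw [he.neg_pow]; push_cast; push_cast at hcx; linear_combination hcx⟩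
      · exact ⟨-c, neg_mem hc, by rw [ho.neg_pow]; linear_combination -hcx⟩
    · exact ⟨-c, neg_mem hc, by rw [(hodd.pow : Odd (p ^ (s * j))).neg_pow]; linear_combination -hcx⟩
  | mul x y hx hy ihx ihy =>
    obtain ⟨s, hs, ihx⟩ := ihx
    obtain ⟨t, ht, ihy⟩ := ihy
    refine ⟨s * t, Nat.mul_pos hs ht, fun j => ?_⟩
    obtain ⟨c, hc, hcx⟩ := ihx (t * j)
    obtain ⟨d, hd, hdy⟩ := ihy (s * j)
    rw [← mul_assoc] at hcx hdy
    rw [mul_comm t s] at hdy
    refine ⟨c * y + x * d + (p : ℂ) * c * d, add_mem (add_mem (mul_mem hc hy) (mul_mem hx hd))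
      (mul_mem (mul_mem (natCast_mem _ p) hc) hd), ?_⟩
    rw [mul_pow, sub_eq_iff_eq_add.1 hcx, sub_eq_iff_eq_add.1 hdy]
    ring

variable {M : Ideal AlgInt}

/-- The unramified local ring. -/
def uRing (hM : IsPModular p M) : Subring ℂ where
  carrier := {z | ∃ a b, a ∈ cycRing p ∧ b ∈ cycRing p ∧ ¬ MemLocalIdeal M b ∧ z = a / b}
  zero_mem' := ⟨0, 1, zero_mem _, one_mem _, not_memLocalIdeal_one hM, by simp⟩
  one_mem' := ⟨1, 1, one_mem _, one_mem _, not_memLocalIdeal_one hM, by simp⟩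
  add_mem' := by
    rintro _ _ ⟨a, b, ha, hb, hbM, rfl⟩ ⟨c, d, hc, hd, hdM, rfl⟩
    have hb0 : b ≠ 0 := fun h => hbM (h ▸ memLocalIdeal_zero hM)
    have hd0 : d ≠ 0 := fun h => hdM (h ▸ memLocalIdeal_zero hM)
    refine ⟨a * d + b * c, b * d, add_mem (mul_mem ha hd) (mul_mem hb hc), mul_mem hb hd, fun h => ?_,
      div_add_div _ _ hb0 hd0⟩
    exact (memLocalIdeal_of_mul hM (memLocalRing_of_isIntegral hM (cycRing_isIntegral hb))
      (memLocalRing_of_isIntegral hM (cycRing_isIntegral hd)) h).elim hbM hdM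
  neg_mem' := by
    rintro _ ⟨a, b, ha, hb, hbM, rfl⟩
    exact ⟨-a, b, neg_mem ha, hb, hbM, (neg_div _ _).symm⟩
  mul_mem' := by
    rintro _ _ ⟨a, b, ha, hb, hbM, rfl⟩ ⟨c, d, hc, hd, hdM, rfl⟩
    refine ⟨a * c, b * d, mul_mem ha hc, mul_mem hb hd, fun h => ?_, div_mul_div_comm _ _ _ _⟩
    exact (memLocalIdeal_of_mul hM (memLocalRing_of_isIntegral hM (cycRing_isIntegral hb))
      (memLocalRing_of_isIntegral hM (cycRing_isIntegral hd)) h).elim hbM hdM

variable {hM : IsPModular p M}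

theorem cycRing_le_uRing (hM : IsPModular p M) {z : ℂ} (hz : z ∈ cycRing p) : z ∈ uRing hM :=
  ⟨z, 1, hz, one_mem _, not_memLocalIdeal_one hM, by simp⟩

theorem root_mem_uRing (hM : IsPModular p M) {z : ℂ} {m : ℕ} (hm : ¬ p ∣ m) (hz : z ^ m = 1) : z ∈ uRing hM :=
  cycRing_le_uRing hM (root_mem_cycRing hm hz)

theorem memLocalRing_uRing {z : ℂ} (hz : z ∈ uRing hM) : MemLocalRing M z := by
  obtain ⟨a, b, ha, hb, hbM, rfl⟩ := hz
  rw [div_eq_mul_inv]
  exact memLocalRing_mul hM (memLocalRing_of_isIntegral hM (cycRing_isIntegral ha))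
    (memLocalRing_inv hM (memLocalRing_of_isIntegral hM (cycRing_isIntegral hb)) hbM)

theorem memLocalIdeal_p (hM : IsPModular p M) : MemLocalIdeal M (p : ℂ) :=
  (memLocalIdeal_natCast_iff hM p).2 dvd_rfl

/-- `p` is the uniformiser. -/
theorem dvd_iff_memLocalIdeal (z : uRing hM) : (p : uRing hM) ∣ z ↔ MemLocalIdeal M (z : ℂ) := by
  constructor
  · rintro ⟨w, rfl⟩
    push_cast
    exact memLocalIdeal_mul_right hM (memLocalIdeal_p hM) (memLocalRing_uRing w.2)
  · intro hz
    obtain ⟨a, b, ha, hb, hbM, hab⟩ := z.2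
    have hb0 : b ≠ 0 := fun h => hbM (h ▸ memLocalIdeal_zero hM)
    have haM : MemLocalIdeal M a := by
      rw [show a = (z : ℂ) * b by rw [hab, div_mul_cancel₀ _ hb0]]
      exact memLocalIdeal_mul_right hM hz (memLocalRing_of_isIntegral hM (cycRing_isIntegral hb))
    obtain ⟨s, hs, hfrob⟩ := exists_pow_sub_self hM.1 ha
    obtain ⟨c, hc, hac⟩ := hfrob 1
    obtain ⟨n, hn⟩ : ∃ n, p ^ (s * 1) = n + 2 := ⟨p ^ (s * 1) - 2, by
      have : p ≤ p ^ (s * 1) := Nat.le_self_pow (by omega) p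
      have := hM.1.two_le
      omega⟩
    rw [hn] at hac
    have hd : ¬ MemLocalIdeal M (a ^ (n + 1) - 1) := fun h => not_memLocalIdeal_one hM <| by
      have h2 := memLocalIdeal_sub hM (memLocalIdeal_mul_right hM haM
        (memLocalRing_pow hM (memLocalRing_of_isIntegral hM (cycRing_isIntegral ha)) n)) h
      convert h2 using 1
      ring
    have hd0 : a ^ (n + 1) - 1 ≠ 0 := fun h => hd (h ▸ memLocalIdeal_zero hM)
    have hdc : a ^ (n + 1) - 1 ∈ cycRing p := sub_mem (pow_mem ha _) (one_mem _)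
    have hbd : ¬ MemLocalIdeal M (b * (a ^ (n + 1) - 1)) := fun h =>
      (memLocalIdeal_of_mul hM (memLocalRing_of_isIntegral hM (cycRing_isIntegral hb))
        (memLocalRing_of_isIntegral hM (cycRing_isIntegral hdc)) h).elim hbM hd
    refine ⟨⟨c / (b * (a ^ (n + 1) - 1)), c, _, hc, mul_mem hb hdc, hbd, rfl⟩, Subtype.ext ?_⟩
    push_cast
    rw [hab]
    field_simp
    linear_combination hac

theorem isUnit_iff (z : uRing hM) : IsUnit z ↔ ¬ MemLocalIdeal M (z : ℂ) := by
  constructor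
  · rintro ⟨u, rfl⟩ h
    refine not_memLocalIdeal_one hM ?_
    have h2 := memLocalIdeal_mul_right hM h (memLocalRing_uRing (u⁻¹ : (uRing hM)ˣ).1.2)
    rwa [← Subring.coe_mul, Units.mul_inv] at h2
  · intro hz
    obtain ⟨a, b, ha, hb, hbM, hab⟩ := z.2
    have hb0 : b ≠ 0 := fun h => hbM (h ▸ memLocalIdeal_zero hM)
    have haM : ¬ MemLocalIdeal M a := fun h => hz <| by
      rw [hab, div_eq_mul_inv]
      exact memLocalIdeal_mul_right hM h (memLocalRing_inv hM (memLocalRing_of_isIntegral hM (cycRing_isIntegral hb)) hbM)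
    have ha0 : a ≠ 0 := fun h => haM (h ▸ memLocalIdeal_zero hM)
    refine IsUnit.of_mul_eq_one ⟨b / a, b, a, hb, ha, haM, rfl⟩ (Subtype.ext ?_)
    push_cast
    rw [hab]
    field_simp

theorem p_ne_zero (hM : IsPModular p M) : (p : uRing hM) ≠ 0 := fun h => by
  have := congrArg (Subtype.val : uRing hM → ℂ) h
  push_cast at this
  exact hM.1.ne_zero (Nat.cast_eq_zero.1 this)

theorem irreducible_p (hM : IsPModular p M) : Irreducible (p : uRing hM) := by
  refine ⟨fun h => (isUnit_iff _).1 h (by push_cast; exact memLocalIdeal_p hM), fun a b hab => ?_⟩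
  by_contra hcon
  push Not at hcon
  obtain ⟨a', rfl⟩ := (dvd_iff_memLocalIdeal a).2 (by by_contra h; exact hcon.1 ((isUnit_iff _).2 h))
  obtain ⟨b', rfl⟩ := (dvd_iff_memLocalIdeal b).2 (by by_contra h; exact hcon.2 ((isUnit_iff _).2 h))
  have h1 : (p : uRing hM) * (a' * b') = 1 :=
    mul_left_cancel₀ (p_ne_zero hM) (by linear_combination -hab)
  exact (isUnit_iff _).1 (IsUnit.of_mul_eq_one _ h1 : IsUnit (p : uRing hM))
    (by push_cast; exact memLocalIdeal_p hM)

theorem exists_eq_pow_mul {z : uRing hM} (hz : z ≠ 0) :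
    ∃ (v : ℕ) (u : uRing hM), IsUnit u ∧ z = (p : uRing hM) ^ v * u := by
  by_contra hcon
  push Not at hcon
  have hall : ∀ v, ∃ u, z = (p : uRing hM) ^ v * u := by
    intro v
    induction v with
    | zero => exact ⟨z, by simp⟩
    | succ v ih =>
      obtain ⟨u, hu⟩ := ih
      obtain ⟨w, rfl⟩ := (dvd_iff_memLocalIdeal u).2 (by
        by_contra h
        exact hcon v u ((isUnit_iff u).2 h) hu)
      exact ⟨w, by rw [hu, pow_succ, mul_assoc]⟩
  refine hz (Subtype.ext (eq_zero_of_pow_dvd hM fun v => ?_))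
  obtain ⟨u, hu⟩ := hall v
  exact ⟨u, memLocalRing_uRing u.2, by rw [hu]; push_cast; rfl⟩

instance instDVR {hM : IsPModular p M} : IsDiscreteValuationRing (uRing hM) :=
  IsDiscreteValuationRing.ofHasUnitMulPowIrreducibleFactorization ⟨(p : uRing hM), irreducible_p hM, fun {z} hz => by
    obtain ⟨v, u, hu, rfl⟩ := exists_eq_pow_mul hz
    exact ⟨v, hu.unit, rfl⟩⟩

/-- The residue field. -/
abbrev Res (hM : IsPModular p M) : Type := uRing hM ⧸ Ideal.span {(p : uRing hM)}

instance instMaximal {hM : IsPModular p M} : (Ideal.span {(p : uRing hM)}).IsMaximal :=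
  PrincipalIdealRing.isMaximal_of_irreducible (irreducible_p hM)

instance instField {hM : IsPModular p M} : Field (Res hM) := Ideal.Quotient.field _

theorem res_eq_zero_iff (z : uRing hM) :
    Ideal.Quotient.mk (Ideal.span {(p : uRing hM)}) z = 0 ↔ MemLocalIdeal M (z : ℂ) := by
  rw [Ideal.Quotient.eq_zero_iff_mem, Ideal.mem_span_singleton, dvd_iff_memLocalIdeal]

theorem res_natCast_eq_zero (n : ℕ) : (n : Res hM) = 0 ↔ p ∣ n := by
  rw [← map_natCast (Ideal.Quotient.mk (Ideal.span {(p : uRing hM)})) n, res_eq_zero_iff]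
  push_cast
  exact memLocalIdeal_natCast_iff hM n

instance instCharP {hM : IsPModular p M} : CharP (Res hM) p := ⟨fun n => res_natCast_eq_zero n⟩

/-- Every element of the residue field is fixed by a power of Frobenius. -/
theorem res_pow_eq_self (z : Res hM) : ∃ s : ℕ, 0 < s ∧ ∀ j : ℕ, z ^ p ^ (s * j) = z := by
  haveI := Fact.mk hM.1
  obtain ⟨w, rfl⟩ := Ideal.Quotient.mk_surjective z
  obtain ⟨a, b, ha, hb, hbM, hw⟩ := w.2
  have hb0 : b ≠ 0 := fun h => hbM (h ▸ memLocalIdeal_zero hM)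
  obtain ⟨s, hs, hsa⟩ := exists_pow_sub_self hM.1 ha
  obtain ⟨t, ht, htb⟩ := exists_pow_sub_self hM.1 hb
  refine ⟨s * t, Nat.mul_pos hs ht, fun j => ?_⟩
  obtain ⟨c, hc, hac⟩ := hsa (t * j)
  obtain ⟨d, hd, hbd⟩ := htb (s * j)
  rw [← mul_assoc] at hac hbd
  rw [mul_comm t s] at hbd
  set π := Ideal.Quotient.mk (Ideal.span {(p : uRing hM)})
  let A : uRing hM := ⟨a, cycRing_le_uRing hM ha⟩
  let B : uRing hM := ⟨b, cycRing_le_uRing hM hb⟩
  have hwB : π w * π B = π A := by
    rw [← map_mul]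
    exact congrArg π (Subtype.ext (by push_cast; rw [hw]; exact div_mul_cancel₀ _ hb0))
  have hB0 : π B ≠ 0 := fun h => hbM ((res_eq_zero_iff B).1 h)
  have hpz : (p : Res hM) = 0 := (res_natCast_eq_zero p).2 dvd_rfl
  have hA : π A ^ p ^ (s * t * j) = π A := by
    rw [← sub_eq_zero, ← map_pow, ← map_sub,
      show A ^ p ^ (s * t * j) - A = (p : uRing hM) * ⟨c, cycRing_le_uRing hM hc⟩ from
        Subtype.ext (by push_cast; exact hac), map_mul, map_natCast, hpz, zero_mul]
  have hB : π B ^ p ^ (s * t * j) = π B := by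
    rw [← sub_eq_zero, ← map_pow, ← map_sub,
      show B ^ p ^ (s * t * j) - B = (p : uRing hM) * ⟨d, cycRing_le_uRing hM hd⟩ from
        Subtype.ext (by push_cast; exact hbd), map_mul, map_natCast, hpz, zero_mul]
  have h2 := congrArg (· ^ p ^ (s * t * j)) hwB
  simp only [mul_pow, hA, hB] at h2
  exact mul_right_cancel₀ hB0 (h2.trans hwB.symm)

theorem res_primitiveRoot {N : ℕ} (hN : ¬ p ∣ N) : ∃ ω : Res hM, IsPrimitiveRoot ω N := by
  have hN0 : N ≠ 0 := fun h => hN (h ▸ dvd_zero p)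
  haveI : NeZero (N : Res hM) := ⟨fun h => hN ((res_natCast_eq_zero N).1 h)⟩
  set η : ℂ := Complex.exp (2 * Real.pi * Complex.I / N)
  have hη : IsPrimitiveRoot η N := Complex.isPrimitiveRoot_exp N hN0
  let w : uRing hM := ⟨η, root_mem_uRing hM hN hη.pow_eq_one⟩
  have hw : IsPrimitiveRoot w N := IsPrimitiveRoot.of_map_of_injective (f := (uRing hM).subtype) hη
    Subtype.val_injective
  have hroot : (cyclotomic N (uRing hM)).IsRoot w := hw.isRoot_cyclotomic (Nat.pos_of_ne_zero hN0)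
  exact ⟨Ideal.Quotient.mk _ w, isRoot_cyclotomic_iff.1 (by
    rw [← map_cyclotomic N (Ideal.Quotient.mk (Ideal.span {(p : uRing hM)}))]
    exact hroot.map)⟩

instance instIsAlgClosed {hM : IsPModular p M} : IsAlgClosed (Res hM) := by
  classical
  haveI := Fact.mk hM.1
  refine IsAlgClosed.of_exists_root _ fun f hf hirr => ?_
  let L := AlgebraicClosure (Res hM)
  let g : Res hM →+* L := algebraMap (Res hM) L
  obtain ⟨α, hα⟩ := IsAlgClosed.exists_root (f.map g) (by
    rw [degree_map]; exact (degree_pos_of_irreducible hirr).ne')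
  -- a common power of Frobenius fixing the coefficients
  have hs : ∀ i, ∃ s : ℕ, 0 < s ∧ ∀ j : ℕ, f.coeff i ^ p ^ (s * j) = f.coeff i := fun i => res_pow_eq_self _
  choose s hs0 hs using hs
  set S := ∏ i ∈ Finset.range (f.natDegree + 1), s i
  have hS0 : 0 < S := Finset.prod_pos fun i _ => hs0 i
  have hfix : ∀ i, g (f.coeff i) ^ p ^ S = g (f.coeff i) := by
    intro i
    by_cases hi : i ∈ Finset.range (f.natDegree + 1)
    · obtain ⟨j, hj⟩ := Finset.dvd_prod_of_mem s hi
      rw [show S = s i * j from hj, ← map_pow, hs]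
    · rw [coeff_eq_zero_of_natDegree_lt (by simpa using hi), map_zero,
        zero_pow (pow_ne_zero _ hM.1.ne_zero)]
  haveI : CharP L p := charP_of_injective_algebraMap g.injective p
  have hFr : (f.map g).map (iterateFrobenius L p S) = f.map g := by
    ext i
    rw [coeff_map, coeff_map, iterateFrobenius_def, hfix]
  set R := (f.map g).roots.toFinset
  have hR : ∀ x ∈ R, x ^ p ^ S ∈ R := by
    intro x hx
    rw [Multiset.mem_toFinset, mem_roots (map_ne_zero hf.ne_zero)] at hx ⊢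
    have := hx.map (f := iterateFrobenius L p S)
    rwa [hFr, iterateFrobenius_def] at this
  have hαR : α ∈ R := by rw [Multiset.mem_toFinset, mem_roots (map_ne_zero hf.ne_zero)]; exact hα
  let σ : R → R := fun x => ⟨(x : L) ^ p ^ S, hR x x.2⟩
  have hσ : Function.Injective σ := fun x y h =>
    Subtype.ext (iterateFrobenius_inj L p S (by simpa [iterateFrobenius_def, σ] using congrArg Subtype.val h))
  have hiter : ∀ (n : ℕ) (x : R), ((σ^[n] x : R) : L) = (x : L) ^ p ^ (S * n) := by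
    intro n
    induction n with
    | zero => intro x; simp
    | succ n ih =>
      intro x
      rw [Function.iterate_succ_apply', mul_add, mul_one, pow_add p, pow_mul, ← ih]
  obtain ⟨r, hr0, hr⟩ : ∃ r, 0 < r ∧ σ^[r] ⟨α, hαR⟩ = ⟨α, hαR⟩ :=
    (hσ.mem_periodicPts ⟨α, hαR⟩)
  have hpow : α ^ p ^ (S * r) = α := by
    have := congrArg Subtype.val hr
    rwa [hiter] at this
  by_cases h0 : α = 0
  · refine ⟨0, ?_⟩
    have h1 : g (f.eval 0) = 0 := by
      rw [← eval_map_apply, map_zero]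
      rw [h0] at hα
      exact hα
    exact g.injective (h1.trans (map_zero g).symm)
  set Q := p ^ (S * r) with hQ
  have hQ1 : 1 < Q := Nat.one_lt_pow (Nat.mul_ne_zero hS0.ne' hr0.ne') hM.1.one_lt
  have hNp : ¬ p ∣ Q - 1 := fun h => by
    have h2 : p ∣ Q := dvd_pow_self p (Nat.mul_ne_zero hS0.ne' hr0.ne')
    have h3 : p ∣ 1 := by
      have := Nat.dvd_sub h2 h
      rwa [Nat.sub_sub_self hQ1.le] at this
    exact hM.1.not_dvd_one h3
  have hαN : α ^ (Q - 1) = 1 := mul_right_cancel₀ h0 (by rw [← pow_succ, Nat.sub_add_cancel hQ1.le, hpow, one_mul])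
  obtain ⟨ω, hω⟩ := res_primitiveRoot (hM := hM) hNp
  haveI : NeZero (Q - 1) := ⟨by omega⟩
  obtain ⟨i, -, hi⟩ := (hω.map_of_injective g.injective).eq_pow_of_pow_eq_one hαN
  refine ⟨ω ^ i, g.injective ?_⟩
  rw [map_zero, ← eval_map_apply, map_pow, hi]
  exact hα

theorem uRing_le_uField {z : ℂ} (hz : z ∈ uRing hM) : z ∈ uField p := by
  have h : cycRing p ≤ (uField p).toSubring := Subring.closure_le.2 fun w hw => Subfield.subset_closure hw
  obtain ⟨a, b, ha, hb, -, rfl⟩ := hz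
  exact div_mem (h ha) (h hb)

/-- Denominators are powers of `p`. -/
theorem exists_pow_mul_mem (hM : IsPModular p M) {z : ℂ} (hz : z ∈ uField p) :
    ∃ v : ℕ, (p : ℂ) ^ v * z ∈ uRing hM := by
  obtain ⟨x, hx, y, hy, rfl⟩ := Subfield.mem_closure_iff.1 hz
  by_cases hy0 : y = 0
  · exact ⟨0, by rw [hy0, div_zero, mul_zero]; exact zero_mem _⟩
  obtain ⟨v, u, hu, huy⟩ := exists_eq_pow_mul (z := (⟨y, cycRing_le_uRing hM hy⟩ : uRing hM))
    (fun h => hy0 (congrArg Subtype.val h))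
  refine ⟨v, ?_⟩
  have h2 := congrArg Subtype.val huy
  push_cast at h2
  have hpv : (p : ℂ) ^ v ≠ 0 := pow_ne_zero _ (Nat.cast_ne_zero.2 hM.1.ne_zero)
  have hu2 : (u : ℂ) * ((hu.unit⁻¹ : (uRing hM)ˣ) : uRing hM) = 1 := by
    rw [← Subring.coe_mul, hu.mul_val_inv, Subring.coe_one]
  have hu0 : (u : ℂ) ≠ 0 := left_ne_zero_of_mul (hu2 ▸ one_ne_zero)
  rw [h2, show (p : ℂ) ^ v * (x / ((p : ℂ) ^ v * u)) = x * ((hu.unit⁻¹ : (uRing hM)ˣ) : uRing hM) by
    rw [eq_inv_of_mul_eq_one_right hu2]; field_simp]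
  exact mul_mem (cycRing_le_uRing hM hx) ((hu.unit⁻¹ : (uRing hM)ˣ) : uRing hM).2

/-- An element of the field which is a local integer lies in the ring. -/
theorem mem_uRing_of_memLocalRing (hM : IsPModular p M) {z : ℂ} (hz : z ∈ uField p) (h : MemLocalRing M z) :
    z ∈ uRing hM := by
  obtain ⟨v, hv⟩ := exists_pow_mul_mem hM hz
  induction v generalizing z with
  | zero => simpa using hv
  | succ v ih =>
    have hp0 : (p : ℂ) ≠ 0 := Nat.cast_ne_zero.2 hM.1.ne_zero
    obtain ⟨w, hw⟩ := (dvd_iff_memLocalIdeal (hM := hM) ⟨_, hv⟩).2 (by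
      refine memLocalIdeal_mul_right hM ?_ h
      rw [pow_succ]
      exact memLocalIdeal_mul_left hM (memLocalRing_pow hM (memLocalRing_natCast hM p) v) (memLocalIdeal_p hM))
    have h2 := congrArg Subtype.val hw
    push_cast at h2
    refine ih hz h ?_
    rw [show (p : ℂ) ^ v * z = w by
      apply mul_left_cancel₀ hp0
      linear_combination h2]
    exact w.2

end CfsgLib.DefectOne
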