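import Mathlib
import Cfsg.Agent.DefectOne.Ring

/-!
# Congruences between the values of a polynomial at the primitive `p`-th roots of unity
-/

set_option autoImplicit false
set_option linter.style.haveILetI false

namespace CfsgLib.DefectOne

open Cfsg CfsgLib.Blocks Polynomial

variable {p : ℕ} {M : Ideal AlgInt}

theorem memLocalRing_root (hM : IsPModular p M) {ζ : ℂ} {m : ℕ} (hm : m ≠ 0) (hζ : ζ ^ m = 1) :
    MemLocalRing M ζ :=
  memLocalRing_of_isIntegral hM ⟨X ^ m - 1, monic_X_pow_sub_C 1 hm, by simp [hζ]⟩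

/-- `ζ - 1` lies in the local ideal. -/
theorem memLocalIdeal_root_sub_one (hM : IsPModular p M) {ζ : ℂ} (hζ : ζ ^ p = 1) : MemLocalIdeal M (ζ - 1) := by
  have hζi : IsIntegral ℤ ζ := ⟨X ^ p - 1, monic_X_pow_sub_C 1 hM.1.ne_zero, by simp [hζ]⟩
  let a : AlgInt := ⟨ζ, hζi⟩
  haveI := isPrime_of_modular hM
  obtain ⟨r, hr⟩ := exists_add_pow_prime_pow_eq hM.1 (a - 1) 1 1
  rw [sub_add_cancel, pow_one, one_pow] at hr
  have ha : a ^ p = 1 := Subtype.ext (by push_cast; exact hζ)
  rw [ha] at hr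
  have h1 : (a - 1) ^ p ∈ M := by
    rw [show (a - 1) ^ p = -((p : AlgInt) * (a - 1) * 1 * r) by linear_combination -hr]
    exact neg_mem (M.mul_mem_right _ (M.mul_mem_right _ (M.mul_mem_right _ hM.2.2)))
  simpa [a] using (memLocalIdeal_coe_iff hM (a - 1)).2 (Ideal.IsPrime.mem_of_pow_mem inferInstance p h1)

/-- `p` is `(ζ - 1) ^ (p - 1)` times a local integer. -/
theorem exists_p_eq (hM : IsPModular p M) {ζ : ℂ} (hζ : IsPrimitiveRoot ζ p) :
    ∃ u : ℂ, MemLocalRing M u ∧ (p : ℂ) = (ζ - 1) ^ (p - 1) * u := by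
  obtain ⟨n, rfl⟩ : ∃ n, p = n + 1 := ⟨p - 1, by have := hM.1.two_le; omega⟩
  have h := hζ.prod_one_sub_pow_eq_order
  refine ⟨∏ k ∈ Finset.range n, (-∑ i ∈ Finset.range (k + 1), ζ ^ i), ?_, ?_⟩
  · exact memLocalRing_prod hM _ fun k _ => memLocalRing_neg (memLocalRing_sum hM _ fun i _ =>
      memLocalRing_pow hM (memLocalRing_root hM hM.1.ne_zero hζ.pow_eq_one) i)
  · rw [Nat.add_sub_cancel, Nat.cast_succ, ← h]
    have : ∀ k : ℕ, (1 : ℂ) - ζ ^ (k + 1) = (ζ - 1) * -∑ i ∈ Finset.range (k + 1), ζ ^ i := fun k => by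
      rw [mul_neg, mul_geom_sum, neg_sub]
    rw [Finset.prod_congr rfl fun k _ => this k, Finset.prod_mul_distrib, Finset.prod_const, Finset.card_range]

/-- A polynomial of small degree over the unramified ring with value divisible by `p` has all
coefficients divisible by `p`. -/
theorem p_dvd_coeff (hM : IsPModular p M) {ζ : ℂ} (hζ : IsPrimitiveRoot ζ p) (A : (uRing hM)[X])
    (hA : A.natDegree < p - 1) {w : ℂ} (hw : MemLocalRing M w)
    (hev : A.eval₂ (uRing hM).subtype ζ = (p : ℂ) * w) (i : ℕ) : (p : uRing hM) ∣ A.coeff i := by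
  classical
  set B := A.comp (X + 1) with hB
  suffices hBc : ∀ i, (p : uRing hM) ∣ B.coeff i by
    obtain ⟨B', hB'⟩ := (C_dvd_iff_dvd_coeff _ _).2 hBc
    have hA' : A = C (p : uRing hM) * B'.comp (X - 1) := by
      have h1 : A = B.comp (X - 1) := by
        rw [hB, comp_assoc]
        simp
      rw [h1, hB', mul_comp, C_comp]
    exact (C_dvd_iff_dvd_coeff _ _).1 (hA' ▸ dvd_mul_right _ _) i
  obtain ⟨u, hu, hpu⟩ := exists_p_eq hM hζ
  set π := ζ - 1 with hπ
  have hπ0 : π ≠ 0 := sub_ne_zero.2 (hζ.ne_one hM.1.one_lt)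
  have hπM : MemLocalIdeal M π := memLocalIdeal_root_sub_one hM hζ.pow_eq_one
  have hBd : B.natDegree < p - 1 := by
    refine lt_of_le_of_lt (natDegree_comp_le.trans (Nat.mul_le_mul_left _ ?_)) (by rw [mul_one]; exact hA)
    rw [← C_1]; exact (natDegree_X_add_C _).le
  have hBev : ∑ j ∈ Finset.range (p - 1), (B.coeff j : ℂ) * π ^ j = (p : ℂ) * w := by
    rw [← hev, show A.eval₂ (uRing hM).subtype ζ = B.eval₂ (uRing hM).subtype π by
      rw [hB, eval₂_comp]; simp [hπ], eval₂_eq_sum_range' _ hBd]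
    rfl
  intro i
  by_cases hi : p - 1 ≤ i
  · rw [coeff_eq_zero_of_natDegree_lt (hBd.trans_le hi)]; exact dvd_zero _
  push Not at hi
  induction i using Nat.strong_induction_on with
  | _ i ih =>
    rw [dvd_iff_memLocalIdeal]
    -- the other terms are multiples of `π ^ (i + 1)`
    have hp' : ∀ r, MemLocalRing M r → ∃ s, MemLocalRing M s ∧ (p : ℂ) * r = π ^ (i + 1) * s := fun r hr =>
      ⟨π ^ (p - 1 - (i + 1)) * u * r, memLocalRing_mul hM (memLocalRing_mul hM
        (memLocalRing_pow hM (memLocalRing_of_memLocalIdeal hπM) _) hu) hr, by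
        rw [hpu, ← mul_assoc, ← mul_assoc, ← pow_add]; congr 3; omega⟩
    have hterm : ∀ j ∈ (Finset.range (p - 1)).erase i,
        ∃ s, MemLocalRing M s ∧ (B.coeff j : ℂ) * π ^ j = π ^ (i + 1) * s := by
      intro j hj
      obtain ⟨hji, hj⟩ := Finset.mem_erase.1 hj
      rcases Nat.lt_or_gt_of_ne hji with hlt | hgt
      · obtain ⟨c, hc⟩ := ih j hlt (Finset.mem_range.1 hj)
        obtain ⟨s, hs, hs'⟩ := hp' ((c : ℂ) * π ^ j) (memLocalRing_mul hM (memLocalRing_uRing c.2)
          (memLocalRing_pow hM (memLocalRing_of_memLocalIdeal hπM) _))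
        refine ⟨s, hs, ?_⟩
        rw [hc]; push_cast
        linear_combination hs'
      · refine ⟨(B.coeff j : ℂ) * π ^ (j - (i + 1)), memLocalRing_mul hM (memLocalRing_uRing (B.coeff j).2)
          (memLocalRing_pow hM (memLocalRing_of_memLocalIdeal hπM) _), ?_⟩
        rw [mul_left_comm, ← pow_add, Nat.add_sub_cancel' hgt]
    choose! s hs hs' using hterm
    obtain ⟨s₀, hs₀, hs₀'⟩ := hp' w hw
    rw [← Finset.add_sum_erase _ _ (Finset.mem_range.2 hi), Finset.sum_congr rfl hs', ← Finset.mul_sum, hs₀'] at hBev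
    have h2 : (B.coeff i : ℂ) = π * (s₀ - ∑ j ∈ (Finset.range (p - 1)).erase i, s j) := by
      apply mul_left_cancel₀ (pow_ne_zero i hπ0)
      linear_combination hBev + (0 : ℂ) * hBev
    rw [h2, sub_eq_add_neg]
    exact memLocalIdeal_mul_right hM hπM (memLocalRing_add hM hs₀ (memLocalRing_neg (memLocalRing_sum hM _ hs)))

/-- A polynomial over the field of small degree with a local integral value has integral coefficients. -/
theorem coeff_mem_uRing (hM : IsPModular p M) {ζ : ℂ} (hζ : IsPrimitiveRoot ζ p) :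
    ∀ (v : ℕ) (r : ℂ[X]), r.natDegree < p - 1 → (∀ i, (p : ℂ) ^ v * r.coeff i ∈ uRing hM) →
      MemLocalRing M (r.eval ζ) → ∀ i, r.coeff i ∈ uRing hM := by
  intro v
  induction v with
  | zero => intro r _ h _ i; simpa using h i
  | succ v ih =>
    intro r hr h hev
    refine ih r hr (fun i => ?_) hev
    have hl : (C ((p : ℂ) ^ (v + 1)) * r) ∈ lifts (uRing hM).subtype := by
      refine (lifts_iff_coeff_lifts _).2 fun j => ⟨⟨_, h j⟩, ?_⟩
      rw [coeff_C_mul]; rfl
    obtain ⟨A, hA⟩ := (mem_lifts _).1 hl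
    have hAd : A.natDegree < p - 1 := by
      rw [← natDegree_map_eq_of_injective (f := (uRing hM).subtype) Subtype.val_injective A, hA]
      exact (natDegree_C_mul_le _ _).trans_lt hr
    have hAev : A.eval₂ (uRing hM).subtype ζ = (p : ℂ) * ((p : ℂ) ^ v * r.eval ζ) := by
      rw [eval₂_eq_eval_map, hA, eval_mul, eval_C, pow_succ]; ring
    obtain ⟨c, hc⟩ := p_dvd_coeff hM hζ A hAd (memLocalRing_mul hM
      (memLocalRing_pow hM (memLocalRing_natCast hM p) v) hev) hAev i
    have hc' : (p : ℂ) ^ (v + 1) * r.coeff i = (p : ℂ) * c := by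
      have h1 := congrArg (fun P : ℂ[X] => P.coeff i) hA
      simp only [coeff_map, coeff_C_mul] at h1
      rw [← h1, hc]
      rfl
    rw [show (p : ℂ) ^ v * r.coeff i = c by
      apply mul_left_cancel₀ (Nat.cast_ne_zero.2 hM.1.ne_zero : (p : ℂ) ≠ 0)
      linear_combination hc']
    exact c.2

/-- If the value of a polynomial over the unramified field at a primitive `p`-th root of unity is a local
integer, its values at all of them are congruent to one element of the unramified ring. -/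
theorem exists_congr (hM : IsPModular p M) (C₀ : (uField p)[X]) {ζ : ℂ} (hζ : IsPrimitiveRoot ζ p)
    (hint : MemLocalRing M (C₀.eval₂ (uField p).subtype ζ)) :
    ∃ s : uRing hM, ∀ η : ℂ, IsPrimitiveRoot η p →
      MemLocalIdeal M (C₀.eval₂ (uField p).subtype η - (s : ℂ)) := by
  set Φ := cyclotomic p (uField p)
  set r := (C₀ %ₘ Φ).map (uField p).subtype with hr
  have hΦ : Φ.Monic := cyclotomic.monic p _
  have hval : ∀ η : ℂ, IsPrimitiveRoot η p → C₀.eval₂ (uField p).subtype η = r.eval η := by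
    intro η hη
    have h0 : Φ.eval₂ (uField p).subtype η = 0 := by
      rw [eval₂_eq_eval_map, map_cyclotomic]
      exact hη.isRoot_cyclotomic hM.1.pos
    conv_lhs => rw [← modByMonic_add_div C₀ Φ]
    rw [eval₂_add, eval₂_mul, h0, zero_mul, add_zero, hr, ← eval₂_eq_eval_map]
  have hdeg : r.natDegree < p - 1 := by
    rw [hr, natDegree_map_eq_of_injective Subtype.val_injective]
    refine lt_of_lt_of_le (natDegree_modByMonic_lt _ hΦ fun h => ?_) ?_
    · have := congrArg natDegree h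
      rw [natDegree_cyclotomic, natDegree_one, Nat.totient_prime hM.1] at this
      have := hM.1.two_le
      omega
    · rw [natDegree_cyclotomic, Nat.totient_prime hM.1]
  have hv : ∀ i, ∃ v, (p : ℂ) ^ v * r.coeff i ∈ uRing hM := fun i => by
    rw [hr, coeff_map]; exact exists_pow_mul_mem hM (SetLike.coe_mem _)
  choose v hv using hv
  set V := ∑ i ∈ Finset.range (p - 1), v i
  have hV : ∀ i, (p : ℂ) ^ V * r.coeff i ∈ uRing hM := by
    intro i
    by_cases hi : i ∈ Finset.range (p - 1)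
    · obtain ⟨d, hd⟩ := Nat.exists_eq_add_of_le (Finset.single_le_sum (fun j _ => Nat.zero_le (v j)) hi : v i ≤ V)
      rw [show V = v i + d from hd, pow_add, mul_comm ((p : ℂ) ^ v i), mul_assoc]
      exact mul_mem (pow_mem (natCast_mem _ p) d) (hv i)
    · rw [coeff_eq_zero_of_natDegree_lt (hdeg.trans_le (by simpa using hi)), mul_zero]
      exact zero_mem _
  have hcoef := coeff_mem_uRing hM hζ V r hdeg hV (hval ζ hζ ▸ hint)
  refine ⟨⟨∑ i ∈ Finset.range (p - 1), r.coeff i, sum_mem fun i _ => hcoef i⟩, fun η hη => ?_⟩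
  rw [hval η hη, eval_eq_sum_range' hdeg]
  push_cast
  rw [← Finset.sum_sub_distrib]
  refine memLocalIdeal_sum hM _ fun i _ => ?_
  rw [← mul_sub_one]
  refine memLocalIdeal_mul_left hM (memLocalRing_uRing (hcoef i)) ?_
  obtain ⟨t, ht, ht'⟩ : ∃ t, MemLocalRing M t ∧ η ^ i - 1 = (η - 1) * t :=
    ⟨∑ j ∈ Finset.range i, η ^ j, memLocalRing_sum hM _ fun j _ =>
      memLocalRing_pow hM (memLocalRing_root hM hM.1.ne_zero hη.pow_eq_one) j, (mul_geom_sum η i).symm⟩
  rw [ht']
  exact memLocalIdeal_mul_right hM (memLocalIdeal_root_sub_one hM hη.pow_eq_one) ht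

end CfsgLib.DefectOne
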