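import Mathlib

/-!
# Lattices with an operator of order `p`

`R` is an unramified ring (`(p)` maximal, residue field `k`), `X ^ p = 1` on the lattice `L`.  The Tate modules
`A = ker (X - 1) / im T` and `B = ker T / im (X - 1)` (with `T = 1 + X + ⋯ + X ^ (p-1)`) are given by surjections.
Their endomorphisms lift to `L`, and the difference of their dimensions is the trace of `X`.
-/

set_option autoImplicit false
set_option linter.style.haveILetI false

namespace CfsgLib.DefectOne

variable {R : Type*} [CommRing R] {L : Type*} [AddCommGroup L] [Module R L]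

/-- The trace operator `1 + X + ⋯ + X ^ (p - 1)`. -/
noncomputable def normOp (p : ℕ) (X : Module.End R L) : Module.End R L := ∑ i ∈ Finset.range p, X ^ i

/-- The fixed points. -/
noncomputable def fixM (X : Module.End R L) : Submodule R L := LinearMap.ker (X - 1)

/-- The kernel of the trace operator. -/
noncomputable def augM (p : ℕ) (X : Module.End R L) : Submodule R L := LinearMap.ker (normOp p X)

variable {p : ℕ} {X : Module.End R L}

theorem mem_fixM {l : L} : l ∈ fixM X ↔ X l = l := by
  simp [fixM, sub_eq_zero]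

theorem mem_augM {l : L} : l ∈ augM p X ↔ normOp p X l = 0 := Iff.rfl

theorem pow_apply_of_fix {l : L} (h : X l = l) (i : ℕ) : (X ^ i) l = l := by
  induction i with
  | zero => rfl
  | succ i ih => rw [pow_succ, Module.End.mul_apply, h, ih]

theorem normOp_of_fix {l : L} (h : X l = l) : normOp p X l = (p : R) • l := by
  simp [normOp, LinearMap.sum_apply, pow_apply_of_fix h, ← Nat.cast_smul_eq_nsmul R]

theorem mul_normOp (hX : X ^ p = 1) : X * normOp p X = normOp p X := by
  have h : (X - 1) * normOp p X = 0 := by rw [normOp, mul_geom_sum, hX, sub_self]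
  rwa [sub_mul, one_mul, sub_eq_zero] at h

theorem normOp_mul (hX : X ^ p = 1) : normOp p X * X = normOp p X := by
  conv_lhs => rw [normOp, ← ((Commute.sum_right (Finset.range p) _ X fun i _ => Commute.self_pow X i)).eq]
  exact mul_normOp hX

theorem normOp_mem_fix (hX : X ^ p = 1) (l : L) : normOp p X l ∈ fixM X :=
  mem_fixM.2 (LinearMap.congr_fun (mul_normOp hX) l)

theorem sub_one_mem_aug (hX : X ^ p = 1) (l : L) : (X - 1) l ∈ augM p X := by
  rw [mem_augM, LinearMap.sub_apply, map_sub, Module.End.one_apply]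
  rw [show normOp p X (X l) = normOp p X l from LinearMap.congr_fun (normOp_mul hX) l, sub_self]

/-- The partial sums `-(X ^ (p-1) + ⋯ + X ^ (p-j))`. -/
noncomputable def dOp (p : ℕ) (X : Module.End R L) : ℕ → Module.End R L
  | 0 => 0
  | j + 1 => dOp p X j - X ^ (p - 1 - j)

/-- The operator `S` with `(X - 1) S = T - p`. -/
noncomputable def sOp (p : ℕ) (X : Module.End R L) : Module.End R L := ∑ j ∈ Finset.range p, dOp p X j

theorem dOp_succ_mul (hX : X ^ p = 1) : ∀ j < p, dOp p X (j + 1) * X = dOp p X j - 1 := by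
  intro j
  induction j with
  | zero =>
    intro hp
    simp only [dOp, zero_sub, Nat.sub_zero]
    rw [neg_mul, ← pow_succ, Nat.sub_add_cancel hp, hX]
  | succ j ih =>
    intro hj
    rw [dOp, sub_mul, ih (by omega), ← pow_succ, show p - 1 - (j + 1) + 1 = p - 1 - j by omega]
    conv_rhs => rw [dOp]
    abel

theorem commute_dOp : ∀ j, Commute X (dOp p X j)
  | 0 => Commute.zero_right X
  | j + 1 => (commute_dOp j).sub_right (Commute.self_pow X _)

theorem dOp_eq (hp : 0 < p) : dOp p X (p - 1) = 1 - normOp p X := by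
  have : ∀ j ≤ p - 1, dOp p X j = -∑ i ∈ Finset.Ico (p - j) p, X ^ i := by
    intro j
    induction j with
    | zero => intro _; simp [dOp]
    | succ j ih =>
      intro hj
      rw [dOp, ih (by omega), Finset.sum_eq_sum_Ico_succ_bot (show p - (j + 1) < p by omega),
        show p - (j + 1) + 1 = p - j by omega, show p - 1 - j = p - (j + 1) by omega]
      abel
  rw [this _ le_rfl, normOp, Finset.range_eq_Ico, Finset.sum_eq_sum_Ico_succ_bot hp,
    show p - (p - 1) = 1 by omega, pow_zero]
  abel

theorem sOp_mul_sub_one (hX : X ^ p = 1) (hp : 0 < p) :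
    sOp p X * (X - 1) = normOp p X - (p : Module.End R L) := by
  obtain ⟨n, rfl⟩ : ∃ n, p = n + 1 := ⟨p - 1, by omega⟩
  have hS : sOp (n + 1) X * X = (∑ j ∈ Finset.range n, dOp (n + 1) X j) - (n : Module.End R L) := by
    rw [sOp, Finset.sum_range_succ', add_mul, Finset.sum_mul]
    rw [Finset.sum_congr rfl fun j hj => dOp_succ_mul hX j (by simp at hj; omega)]
    simp [dOp, Finset.sum_sub_distrib]
  have hS2 : sOp (n + 1) X = (∑ j ∈ Finset.range n, dOp (n + 1) X j) + (1 - normOp (n + 1) X) := by
    rw [sOp, Finset.sum_range_succ, ← dOp_eq (X := X) hp, Nat.add_sub_cancel]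
  rw [mul_sub, mul_one, hS, hS2]
  push_cast
  abel

theorem sub_one_mul_sOp (hX : X ^ p = 1) (hp : 0 < p) :
    (X - 1) * sOp p X = normOp p X - (p : Module.End R L) := by
  rw [← sOp_mul_sub_one hX hp]
  exact ((Commute.sum_right _ _ X fun j _ => commute_dOp j).sub_left (Commute.one_left _)).eq

/-- `R` is unramified at `p` with residue field `k`. -/
structure Residual (R : Type*) [CommRing R] (k : Type*) [Field k] [Algebra R k] (p : ℕ) : Prop where
  surj : Function.Surjective (algebraMap R k)
  ker : ∀ r : R, algebraMap R k r = 0 ↔ (p : R) ∣ r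

variable [IsDomain R] [IsPrincipalIdealRing R] [CharZero R] [Module.Finite R L] [Module.Free R L]
variable {k : Type*} [Field k] [Algebra R k]

omit [IsPrincipalIdealRing R] [Module.Finite R L] in
theorem smul_p_cancel (hp : 0 < p) {l l' : L} (h : (p : R) • l = (p : R) • l') : l = l' :=
  smul_right_injective L (Nat.cast_ne_zero.2 hp.ne' : (p : R) ≠ 0) h

omit [IsPrincipalIdealRing R] [Module.Finite R L] in
theorem aug_inf_fix (hp : 0 < p) {l : L} (h1 : l ∈ augM p X) (h2 : l ∈ fixM X) : l = 0 := by
  refine smul_p_cancel (R := R) hp ?_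
  rw [← normOp_of_fix (mem_fixM.1 h2), mem_augM.1 h1, smul_zero]

variable {A : Type*} [AddCommGroup A] [Module R A] [Module k A] [IsScalarTower R k A]
variable {B : Type*} [AddCommGroup B] [Module R B] [Module k B] [IsScalarTower R k B]

omit [IsDomain R] [IsPrincipalIdealRing R] [CharZero R] in
theorem algebraMap_smul_A (r : R) (a : A) : algebraMap R k r • a = r • a := by
  rw [← smul_one_smul k r a, Algebra.algebraMap_eq_smul_one]

/-- A surjection from the fixed points with kernel the image of the trace. -/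
structure IsTateA (p : ℕ) (X : Module.End R L) (πA : fixM X →ₗ[R] A) : Prop where
  surj : Function.Surjective πA
  ker : ∀ u : fixM X, πA u = 0 ↔ ∃ l, normOp p X l = u

/-- A surjection from the kernel of the trace with kernel the image of `X - 1`. -/
structure IsTateB (p : ℕ) (X : Module.End R L) (πB : augM p X →ₗ[R] B) : Prop where
  surj : Function.Surjective πB
  ker : ∀ w : augM p X, πB w = 0 ↔ ∃ l, (X - 1) l = w

omit [IsPrincipalIdealRing R] [Module.Finite R L] in
/-- Division by `p` of a functional with values in `pR`. -/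
theorem exists_div {M' : Type*} [AddCommGroup M'] [Module R M'] (hp : 0 < p) (g : M' →ₗ[R] R)
    (hg : ∀ m, (p : R) ∣ g m) : ∃ h : M' →ₗ[R] R, ∀ m, g m = (p : R) * h m := by
  choose h hh using hg
  refine ⟨{ toFun := h, map_add' := fun a b => ?_, map_smul' := fun r a => ?_ }, hh⟩
  · apply mul_left_cancel₀ (Nat.cast_ne_zero.2 hp.ne' : (p : R) ≠ 0)
    rw [mul_add, ← hh, ← hh, ← hh, map_add]
  · apply mul_left_cancel₀ (Nat.cast_ne_zero.2 hp.ne' : (p : R) ≠ 0)
    rw [← hh, map_smul, hh, RingHom.id_apply, smul_eq_mul, smul_eq_mul]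
    ring

/-- Endomorphisms of `A` lift to `L`. -/
theorem exists_lift_A (hk : Residual R k p) (hX : X ^ p = 1) (hp : 0 < p) [FiniteDimensional k A]
    {πA : fixM X →ₗ[R] A} (hπ : IsTateA p X πA) (α : Module.End k A) :
    ∃ f : Module.End R L, Commute f X ∧ (∀ w ∈ augM p X, f w = 0) ∧
      (∀ l ∈ fixM X, f l ∈ fixM X) ∧ ∀ u u' : fixM X, (u' : L) = f u → πA u' = α (πA u) := by
  classical
  let b := Module.finBasis k A
  -- lift the coordinates
  have hlift : ∀ i, ∃ s : fixM X →ₗ[R] R, ∀ u, algebraMap R k (s u) = b.coord i (πA u) := by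
    intro i
    obtain ⟨s, hs⟩ := Module.projective_lifting_property (Algebra.linearMap R k)
      (((b.coord i).restrictScalars R).comp πA) hk.surj
    exact ⟨s, fun u => LinearMap.congr_fun hs u⟩
  choose s hs using hlift
  let T' : L →ₗ[R] fixM X := (normOp p X).codRestrict _ (normOp_mem_fix hX)
  have hdiv : ∀ i, ∃ h : L →ₗ[R] R, ∀ l, (s i).comp T' l = (p : R) * h l := fun i =>
    exists_div hp _ fun l => (hk.ker _).1 (by
      rw [LinearMap.comp_apply, hs, (hπ.ker _).2 ⟨l, rfl⟩, map_zero])
  choose h hh using hdiv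
  choose w hw using fun i => hπ.surj (α (b i))
  refine ⟨∑ i, (h i).smulRight (w i : L), ?_, ?_, ?_, ?_⟩
  · refine Commute.sum_left _ _ _ fun i _ => LinearMap.ext fun l => ?_
    have h1 : h i (X l) = h i l := by
      apply mul_left_cancel₀ (Nat.cast_ne_zero.2 hp.ne' : (p : R) ≠ 0)
      rw [← hh, ← hh, LinearMap.comp_apply, LinearMap.comp_apply]
      congr 1
      exact Subtype.ext (LinearMap.congr_fun (normOp_mul hX) l)
    simp only [Module.End.mul_apply, LinearMap.smulRight_apply, h1, map_smul, mem_fixM.1 (w i).2]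
  · intro l hl
    rw [LinearMap.sum_apply]
    refine Finset.sum_eq_zero fun i _ => ?_
    rw [LinearMap.smulRight_apply]
    have : h i l = 0 := by
      apply mul_left_cancel₀ (Nat.cast_ne_zero.2 hp.ne' : (p : R) ≠ 0)
      rw [← hh, LinearMap.comp_apply, show T' l = 0 from Subtype.ext (mem_augM.1 hl), map_zero, mul_zero]
    rw [this, zero_smul]
  · intro l _
    rw [LinearMap.sum_apply]
    exact Submodule.sum_mem _ fun i _ => Submodule.smul_mem _ _ (w i).2
  · intro u u' hu'
    have h1 : ∀ i, h i (u : L) = s i u := fun i => by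
      apply mul_left_cancel₀ (Nat.cast_ne_zero.2 hp.ne' : (p : R) ≠ 0)
      rw [← hh, LinearMap.comp_apply, show T' (u : L) = (p : R) • u from
        Subtype.ext (normOp_of_fix (mem_fixM.1 u.2)), map_smul, smul_eq_mul]
    have h2 : u' = ∑ i, s i u • w i := Subtype.ext (by
      rw [hu', LinearMap.sum_apply]
      push_cast
      exact Finset.sum_congr rfl fun i _ => by rw [LinearMap.smulRight_apply, h1])
    rw [h2, map_sum]
    conv_rhs => rw [← b.sum_repr (πA u), map_sum]
    refine Finset.sum_congr rfl fun i _ => ?_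
    rw [map_smul, hw, map_smul, ← algebraMap_smul_A (k := k), hs]
    rfl

/-- Endomorphisms of `B` lift to `L`. -/
theorem exists_lift_B (hk : Residual R k p) (hX : X ^ p = 1) (hp : 0 < p) [FiniteDimensional k B]
    {πB : augM p X →ₗ[R] B} (hπ : IsTateB p X πB) (β : Module.End k B) :
    ∃ f : Module.End R L, Commute f X ∧ (∀ l ∈ fixM X, f l = 0) ∧
      (∀ l ∈ augM p X, f l ∈ augM p X) ∧ ∀ v v' : augM p X, (v' : L) = f v → πB v' = β (πB v) := by
  classical
  -- the reduction of `L` modulo the fixed points and `p`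
  let U : Submodule R L := fixM X ⊔ LinearMap.range ((p : R) • (1 : Module.End R L))
  let Q := L ⧸ U
  have hQ : ∀ r : R, algebraMap R k r = 0 → ∀ q : Q, r • q = 0 := by
    intro r hr q
    obtain ⟨l, rfl⟩ := Submodule.Quotient.mk_surjective U q
    obtain ⟨r', rfl⟩ := (hk.ker r).1 hr
    rw [← Submodule.Quotient.mk_smul, Submodule.Quotient.mk_eq_zero]
    exact Submodule.mem_sup_right ⟨r' • l, by simp [smul_smul, mul_comm]⟩
  let sec : k → R := fun c => (hk.surj c).choose
  have hsec : ∀ c, algebraMap R k (sec c) = c := fun c => (hk.surj c).choose_spec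
  have hwd : ∀ (r r' : R), algebraMap R k r = algebraMap R k r' → ∀ q : Q, r • q = r' • q := fun r r' h q => by
    rw [← sub_eq_zero, ← sub_smul]
    exact hQ _ (by rw [map_sub, h, sub_self]) q
  letI : SMul k Q := ⟨fun c q => sec c • q⟩
  have hsm : ∀ (r : R) (q : Q), algebraMap R k r • q = r • q := fun r q => hwd _ _ (hsec _) q
  letI : Module k Q := Function.Surjective.moduleLeft (algebraMap R k) hk.surj hsm
  haveI : IsScalarTower R k Q := IsScalarTower.of_algebraMap_smul hsm
  -- the map induced by `S`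
  have hSwd : ∀ v : augM p X, πB v = 0 → U.mkQ (sOp p X v) = 0 := by
    intro v hv
    obtain ⟨l, hl⟩ := (hπ.ker v).1 hv
    rw [Submodule.mkQ_apply, Submodule.Quotient.mk_eq_zero, ← hl, ← Module.End.mul_apply, sOp_mul_sub_one hX hp,
      LinearMap.sub_apply]
    refine Submodule.sub_mem_sup (normOp_mem_fix hX l) ⟨l, ?_⟩
    simp [Nat.cast_smul_eq_nsmul]
  let f₀ : augM p X →ₗ[R] Q := U.mkQ.comp ((sOp p X).comp (augM p X).subtype)
  have hker : LinearMap.ker πB ≤ LinearMap.ker f₀ := fun v hv => hSwd v hv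
  let Ŝ : B →ₗ[R] Q := ((LinearMap.ker πB).liftQ f₀ hker).comp
    (πB.quotKerEquivOfSurjective hπ.surj).symm.toLinearMap
  have hŜ : ∀ v, Ŝ (πB v) = U.mkQ (sOp p X v) := by
    intro v
    have h1 : (πB.quotKerEquivOfSurjective hπ.surj).symm (πB v) = Submodule.Quotient.mk v := by
      rw [LinearEquiv.symm_apply_eq]; rfl
    show (LinearMap.ker πB).liftQ f₀ hker ((πB.quotKerEquivOfSurjective hπ.surj).symm (πB v)) = _
    rw [h1]
    rfl
  let Ŝk : B →ₗ[k] Q :=
    { toFun := Ŝ
      map_add' := Ŝ.map_add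
      map_smul' := fun c b => by
        obtain ⟨r, rfl⟩ := hk.surj c
        rw [algebraMap_smul_A, map_smul, RingHom.id_apply, hsm] }
  have hinj : LinearMap.ker Ŝk = ⊥ := by
    refine LinearMap.ker_eq_bot'.2 fun b hb => ?_
    obtain ⟨v, rfl⟩ := hπ.surj b
    change Ŝ (πB v) = 0 at hb
    rw [hŜ, Submodule.mkQ_apply, Submodule.Quotient.mk_eq_zero, Submodule.mem_sup] at hb
    obtain ⟨u, hu, _, ⟨l, rfl⟩, he⟩ := hb
    have h1 := congrArg (⇑((X : Module.End R L) - 1)) he
    rw [map_add, show (X - 1) u = 0 from hu, zero_add, ← Module.End.mul_apply (X - 1) (sOp p X),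
      sub_one_mul_sOp hX hp] at h1
    refine (hπ.ker v).2 ⟨-l, smul_p_cancel (R := R) hp ?_⟩
    simp only [LinearMap.sub_apply, LinearMap.smul_apply, Module.End.one_apply, map_smul,
      Module.End.natCast_apply, mem_augM.1 v.2, zero_sub] at h1
    rw [LinearMap.sub_apply, Module.End.one_apply, map_neg, ← neg_sub', smul_neg, h1,
      ← Nat.cast_smul_eq_nsmul R, neg_neg]
  obtain ⟨g, hg⟩ := Ŝk.exists_leftInverse_of_injective hinj
  let bB := Module.finBasis k B
  haveI : IsNoetherian R L := isNoetherian_of_isNoetherianRing_of_finite R L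
  have hφ : ∀ i, ∃ φ : L →ₗ[R] R, (∀ l ∈ fixM X, φ l = 0) ∧
      ∀ l, algebraMap R k (φ l) = bB.coord i (g (U.mkQ l)) := by
    intro i
    let g' : L →ₗ[R] k := (((bB.coord i).comp g).restrictScalars R).comp U.mkQ
    have hg' : fixM X ≤ LinearMap.ker g' := fun l hl => by
      show bB.coord i (g (U.mkQ l)) = 0
      rw [Submodule.mkQ_apply, (Submodule.Quotient.mk_eq_zero U).2 (Submodule.mem_sup_left hl), map_zero, map_zero]
    let D := LinearMap.range (X - 1)
    let g'' : D →ₗ[R] k := ((fixM X).liftQ g' hg').comp (X - 1).quotKerEquivRange.symm.toLinearMap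
    obtain ⟨φ', hφ'⟩ := Module.projective_lifting_property (Algebra.linearMap R k) g'' hk.surj
    refine ⟨φ'.comp (X - 1).rangeRestrict, fun l hl => ?_, fun l => ?_⟩
    · rw [LinearMap.comp_apply, show (X - 1).rangeRestrict l = 0 from Subtype.ext hl, map_zero]
    · have h1 : (X - 1).quotKerEquivRange.symm ((X - 1).rangeRestrict l) = Submodule.Quotient.mk l := by
        rw [LinearEquiv.symm_apply_eq]; rfl
      have h2 := LinearMap.congr_fun hφ' ((X - 1).rangeRestrict l)
      simp only [LinearMap.comp_apply, Algebra.linearMap_apply] at h2 ⊢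
      rw [h2]
      show (fixM X).liftQ g' hg' ((X - 1).quotKerEquivRange.symm ((X - 1).rangeRestrict l)) = _
      rw [h1]
      rfl
  choose φ hφ0 hφ using hφ
  choose w hw using fun i => hπ.surj (β (bB i))
  let f1 : Fin (Module.finrank k B) → Module.End R L := fun i =>
    ∑ j ∈ Finset.range p, ((φ i).comp (dOp p X j)).smulRight ((X ^ j) (w i : L))
  have hφT : ∀ i l, φ i (normOp p X l) = 0 := fun i l => hφ0 i _ (normOp_mem_fix hX l)
  have hf1X : ∀ i, Commute (f1 i) X := by
    intro i
    obtain ⟨n, rfl⟩ : ∃ n, p = n + 1 := ⟨p - 1, by omega⟩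
    refine LinearMap.ext fun l => ?_
    simp only [f1, Module.End.mul_apply, LinearMap.sum_apply, LinearMap.smulRight_apply, LinearMap.comp_apply,
      map_sum, map_smul]
    have hd : ∀ j ∈ Finset.range n, φ i (dOp (n + 1) X (j + 1) (X l)) = φ i (dOp (n + 1) X j l) - φ i l := by
      intro j hj
      rw [← Module.End.mul_apply, dOp_succ_mul hX j (by simp at hj; omega), LinearMap.sub_apply, map_sub]
      rfl
    have hw0 : ∑ j ∈ Finset.range (n + 1), (X ^ j) (w i : L) = 0 := by
      have := mem_augM.1 (w i).2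
      rwa [normOp, LinearMap.sum_apply] at this
    have hlast : φ i (dOp (n + 1) X n l) = φ i l := by
      rw [show dOp (n + 1) X n = 1 - normOp (n + 1) X by simpa using dOp_eq (X := X) hp,
        LinearMap.sub_apply, map_sub, hφT, sub_zero]
      rfl
    rw [Finset.sum_range_succ', Finset.sum_congr rfl fun j hj => by rw [hd j hj, sub_smul]]
    conv_rhs => rw [Finset.sum_range_succ]
    have hwn : (X ^ (n + 1)) (w i : L) = w i := by rw [hX]; rfl
    have hXj : ∀ j, X ((X ^ j) (w i : L)) = (X ^ (j + 1)) (w i : L) := fun j => by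
      rw [← Module.End.mul_apply, ← pow_succ']
    rw [Finset.sum_range_succ'] at hw0
    simp only [Finset.sum_sub_distrib, ← Finset.smul_sum, hXj, hwn, hlast, dOp, LinearMap.zero_apply, map_zero,
      zero_smul, add_zero]
    rw [eq_neg_of_add_eq_zero_left hw0, smul_neg, sub_neg_eq_add, pow_zero, Module.End.one_apply]
  refine ⟨∑ i, f1 i, Commute.sum_left _ _ _ fun i _ => hf1X i, ?_, ?_, ?_⟩
  · intro l hl
    rw [LinearMap.sum_apply]
    refine Finset.sum_eq_zero fun i _ => ?_
    simp only [f1, LinearMap.sum_apply, LinearMap.smulRight_apply, LinearMap.comp_apply]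
    refine Finset.sum_eq_zero fun j _ => ?_
    have : dOp p X j l ∈ fixM X := mem_fixM.2 <| by
      rw [← Module.End.mul_apply, (commute_dOp j).eq, Module.End.mul_apply, mem_fixM.1 hl]
    rw [hφ0 i _ this, zero_smul]
  · intro l hl
    have hc : Commute (normOp p X) (∑ i, f1 i) := by
      refine Commute.sum_left _ _ _ fun j _ => ?_
      exact (Commute.sum_left _ _ _ fun i _ => hf1X i).symm.pow_left j
    rw [mem_augM, ← Module.End.mul_apply, hc.eq, Module.End.mul_apply, mem_augM.1 hl, map_zero]
  · intro v v' hv'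
    have hXw : ∀ i j, ∃ wj : augM p X, (wj : L) = (X ^ j) (w i : L) ∧ πB wj = β (bB i) := by
      intro i j
      induction j with
      | zero => exact ⟨w i, rfl, hw i⟩
      | succ j ih =>
        obtain ⟨wj, h1, h2⟩ := ih
        refine ⟨wj + ⟨(X - 1) (wj : L), sub_one_mem_aug hX _⟩, ?_, ?_⟩
        · rw [pow_succ', Module.End.mul_apply, ← h1]
          simp
        · rw [map_add, h2, (hπ.ker _).2 ⟨wj, rfl⟩, add_zero]
    choose wj hwj1 hwj2 using hXw
    have h2 : v' = ∑ i, ∑ j ∈ Finset.range p, φ i (dOp p X j v) • wj i j := Subtype.ext (by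
      rw [hv', LinearMap.sum_apply]
      push_cast
      refine Finset.sum_congr rfl fun i _ => ?_
      simp only [f1, LinearMap.sum_apply, LinearMap.smulRight_apply, LinearMap.comp_apply, hwj1])
    rw [h2, map_sum]
    conv_rhs => rw [← bB.sum_repr (πB v), map_sum]
    refine Finset.sum_congr rfl fun i _ => ?_
    simp only [map_sum, map_smul, hwj2, ← Finset.sum_smul]
    rw [← map_sum (φ i), ← LinearMap.sum_apply, ← algebraMap_smul_A (k := k), hφ]
    congr 1
    show bB.coord i (g (U.mkQ (sOp p X v))) = _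
    rw [← hŜ]
    exact congrArg (bB.coord i) (LinearMap.congr_fun hg (πB v))

end CfsgLib.DefectOne
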