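import Mathlib
import Cfsg.Agent.DefectOne.Lattice

/-!
# The trace of `X` is the difference of the dimensions of the Tate modules
-/

set_option autoImplicit false
set_option linter.style.haveILetI false

namespace CfsgLib.DefectOne

open Polynomial

variable {R : Type*} [CommRing R] {L : Type*} [AddCommGroup L] [Module R L] {p : ℕ} {X : Module.End R L}

/-- `(X - 1) ^ (p - 1) = T - p + p (X - 1) W`. -/
theorem exists_pow_eq (hp : p.Prime) (X : Module.End R L) :
    ∃ W : Module.End R L, Commute X W ∧
      (X - 1) ^ (p - 1) = normOp p X - (p : Module.End R L) + (p : Module.End R L) * ((X - 1) * W) := by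
  haveI := Fact.mk hp
  obtain ⟨n, hn⟩ : ∃ n, p = n + 2 := ⟨p - 2, by have := hp.two_le; omega⟩
  set Φ : ℤ[X] := ∑ i ∈ Finset.range p, Polynomial.X ^ i
  set D : ℤ[X] := (Polynomial.X - 1) ^ (p - 1) - Φ
  have hD : D.map (Int.castRingHom (ZMod p)) = 0 := by
    have h1 : ((Polynomial.X : (ZMod p)[X]) - 1) * ((Polynomial.X - 1) ^ (p - 1) - ∑ i ∈ Finset.range p, Polynomial.X ^ i) = 0 := by
      rw [mul_sub, ← pow_succ', Nat.sub_add_cancel hp.one_le, mul_geom_sum, sub_pow_char]
      simp
    rcases mul_eq_zero.1 h1 with h | h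
    · exact absurd h (by rw [← C_1]; exact X_sub_C_ne_zero 1)
    · rw [show D = (Polynomial.X - 1) ^ (p - 1) - ∑ i ∈ Finset.range p, Polynomial.X ^ i from rfl]
      simpa [Polynomial.map_sum, Polynomial.map_pow] using h
  obtain ⟨W₀, hW₀⟩ : C (p : ℤ) ∣ D := by
    rw [C_dvd_iff_dvd_coeff]
    intro i
    rw [← ZMod.intCast_zmod_eq_zero_iff_dvd]
    have := congrArg (fun f : (ZMod p)[X] => f.coeff i) hD
    simpa using this
  have hW1 : W₀.eval 1 = -1 := by
    have h2 := congrArg (Polynomial.eval 1) hW₀
    simp [D, Φ, hn, Polynomial.eval_finsetSum] at h2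
    apply mul_left_cancel₀ (show ((n : ℤ) + 2) ≠ 0 by omega)
    linarith
  obtain ⟨W₁, hW₁⟩ : (Polynomial.X - C 1) ∣ W₀ - C (W₀.eval 1) := X_sub_C_dvd_sub_C_eval
  refine ⟨aeval X W₁, ?_, ?_⟩
  · have := (Commute.all (Polynomial.X : ℤ[X]) W₁).map (aeval X)
    rwa [aeval_X] at this
  · have h3 : (Polynomial.X - 1) ^ (p - 1) = Φ - C (p : ℤ) + C (p : ℤ) * ((Polynomial.X - 1) * W₁) := by
      rw [C_1] at hW₁
      rw [hW1, map_neg, C_1] at hW₁
      linear_combination hW₀ + C (p : ℤ) * hW₁
    have h4 := congrArg (aeval X) h3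
    simpa [Φ, normOp, map_natCast] using h4

/-- The length of the cokernel of a power of an injective endomorphism. -/
theorem length_quot_pow {Y : Type*} [AddCommGroup Y] [Module R Y] (u : Module.End R Y)
    (hu : Function.Injective u) : ∀ j : ℕ,
      Module.length R (Y ⧸ LinearMap.range (u ^ j)) = j * Module.length R (Y ⧸ LinearMap.range u) := by
  intro j
  induction j with
  | zero =>
    haveI : Subsingleton (Y ⧸ LinearMap.range (u ^ 0)) := Submodule.Quotient.subsingleton_iff.2 (by
      rw [pow_zero, Module.End.one_eq_id, LinearMap.range_id])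
    simp
  | succ j ih =>
    have hle : LinearMap.range (u ^ (j + 1)) ≤ LinearMap.range u := by
      rw [pow_succ', Module.End.mul_eq_comp]; exact LinearMap.range_comp_le_range _ _
    let f : (Y ⧸ LinearMap.range (u ^ j)) →ₗ[R] (Y ⧸ LinearMap.range (u ^ (j + 1))) :=
      Submodule.mapQ _ _ u (by
        rintro _ ⟨y, rfl⟩
        exact ⟨y, by rw [pow_succ', Module.End.mul_apply]⟩)
    let g : (Y ⧸ LinearMap.range (u ^ (j + 1))) →ₗ[R] (Y ⧸ LinearMap.range u) := Submodule.factor hle
    have hf : Function.Injective f := by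
      rw [← LinearMap.ker_eq_bot, LinearMap.ker_eq_bot']
      intro q hq
      obtain ⟨y, rfl⟩ := Submodule.Quotient.mk_surjective _ q
      rw [Submodule.mapQ_apply, Submodule.Quotient.mk_eq_zero] at hq
      obtain ⟨z, hz⟩ := hq
      rw [pow_succ', Module.End.mul_apply] at hz
      exact (Submodule.Quotient.mk_eq_zero _).2 ⟨z, hu hz⟩
    have hg : Function.Surjective g := fun q => by
      obtain ⟨y, rfl⟩ := Submodule.Quotient.mk_surjective _ q
      exact ⟨Submodule.Quotient.mk y, rfl⟩
    have hex : Function.Exact f g := by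
      intro q
      obtain ⟨y, rfl⟩ := Submodule.Quotient.mk_surjective _ q
      constructor
      · intro h
        obtain ⟨z, hz⟩ := (Submodule.Quotient.mk_eq_zero _).1 h
        exact ⟨Submodule.Quotient.mk z, by rw [Submodule.mapQ_apply, hz]; rfl⟩
      · rintro ⟨q', hq'⟩
        obtain ⟨z, rfl⟩ := Submodule.Quotient.mk_surjective _ q'
        rw [Submodule.mapQ_apply] at hq'
        rw [← hq']
        exact (Submodule.Quotient.mk_eq_zero _).2 ⟨z, rfl⟩
    rw [Module.length_eq_add_of_exact f g hf hg hex, ih]
    push_cast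
    ring

variable [IsDomain R] [IsPrincipalIdealRing R] [CharZero R]
variable {k : Type*} [Field k] [Algebra R k]

omit [IsPrincipalIdealRing R] in
/-- The reduction modulo `p` of a free module has length equal to the rank. -/
theorem length_quot_p (hk : Residual R k p) (Y : Type*) [AddCommGroup Y] [Module R Y] [Module.Free R Y]
    [Module.Finite R Y] :
    Module.length R (Y ⧸ LinearMap.range ((p : R) • (1 : Module.End R Y))) = Module.finrank R Y := by
  let b := Module.finBasis R Y
  let c : Y →ₗ[R] (Fin (Module.finrank R Y) → k) :=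
    LinearMap.pi fun i => (Algebra.linearMap R k).comp (b.coord i)
  have hc : Function.Surjective c := by
    intro v
    choose r hr using fun i => hk.surj (v i)
    refine ⟨∑ i, r i • b i, funext fun i => ?_⟩
    show algebraMap R k (b.coord i (∑ j, r j • b j)) = v i
    rw [Module.Basis.coord_apply, b.repr_sum_self, hr]
  have hker : LinearMap.ker c = LinearMap.range ((p : R) • (1 : Module.End R Y)) := by
    ext y
    constructor
    · intro hy
      have h : ∀ i, (p : R) ∣ b.coord i y := fun i => (hk.ker _).1 (congrFun hy i)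
      choose q hq using h
      exact ⟨∑ i, q i • b i, by
        conv_rhs => rw [← b.sum_repr y]
        rw [LinearMap.smul_apply, Module.End.one_apply, Finset.smul_sum]
        exact Finset.sum_congr rfl fun i _ => by rw [smul_smul, ← hq]; rfl⟩
    · rintro ⟨z, rfl⟩
      funext i
      show algebraMap R k (b.coord i ((p : R) • z)) = 0
      rw [map_smul, smul_eq_mul]
      exact (hk.ker _).2 (dvd_mul_right _ _)
  rw [← hker, (c.quotKerEquivOfSurjective hc).length_eq, Module.length_eq_of_surjective (R := k) hk.surj,
    Module.length_eq_finrank, Module.finrank_fin_fun]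

variable [Module.Finite R L] [Module.Free R L]
variable {A : Type*} [AddCommGroup A] [Module R A] [Module k A] [IsScalarTower R k A]
variable {B : Type*} [AddCommGroup B] [Module R B] [Module k B] [IsScalarTower R k B]

/-- The common trace of the non-trivial powers of `X` is `dim A - dim B`. -/
theorem trace_eq_dim_sub (hk : Residual R k p) (hX : X ^ p = 1) (hp : p.Prime) [FiniteDimensional k A]
    [FiniteDimensional k B] {πA : fixM X →ₗ[R] A} (hA : IsTateA p X πA) {πB : augM p X →ₗ[R] B}
    (hB : IsTateB p X πB) {c : R} (hc : ∀ i, 0 < i → i < p → LinearMap.trace R L (X ^ i) = c) :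
    c = (Module.finrank k A : R) - (Module.finrank k B : R) := by
  classical
  haveI : IsNoetherian R L := isNoetherian_of_isNoetherianRing_of_finite R L
  have hp0 := hp.pos
  let T' : L →ₗ[R] fixM X := (normOp p X).codRestrict _ (normOp_mem_fix hX)
  let u' : L →ₗ[R] augM p X := (X - 1).codRestrict _ (sub_one_mem_aug hX)
  let u : Module.End R (augM p X) := u'.comp (augM p X).subtype
  have hu : Function.Injective u := by
    rw [← LinearMap.ker_eq_bot, LinearMap.ker_eq_bot']
    intro v hv
    exact Subtype.ext (aug_inf_fix hp0 v.2 (show (v : L) ∈ fixM X from congrArg Subtype.val hv))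
  set Pf := LinearMap.range ((p : R) • (1 : Module.End R (fixM X)))
  have hle : fixM X ⊔ augM p X ≤ LinearMap.ker (Pf.mkQ.comp T') := by
    refine sup_le (fun l hl => ?_) (fun l hl => ?_)
    · exact (Submodule.Quotient.mk_eq_zero Pf).2 ⟨⟨l, hl⟩, Subtype.ext (normOp_of_fix (mem_fixM.1 hl)).symm⟩
    · show Pf.mkQ (T' l) = 0
      rw [show T' l = 0 from Subtype.ext (mem_augM.1 hl), map_zero]
  -- first sequence
  set Q := Module.length R (L ⧸ (fixM X ⊔ augM p X)) with hQdef
  have hfix : Module.length R ((fixM X) ⧸ Pf) = Q + Module.finrank k A := by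
    let f := (fixM X ⊔ augM p X).liftQ (Pf.mkQ.comp T') hle
    let g := Pf.liftQ πA (by
      rintro _ ⟨w, rfl⟩
      exact (hA.ker _).2 ⟨w, by rw [normOp_of_fix (mem_fixM.1 w.2)]; rfl⟩)
    have hf : Function.Injective f := by
      rw [← LinearMap.ker_eq_bot, LinearMap.ker_eq_bot']
      intro q hq
      obtain ⟨l, rfl⟩ := Submodule.Quotient.mk_surjective _ q
      change Pf.mkQ (T' l) = 0 at hq
      obtain ⟨w, hw⟩ := (Submodule.Quotient.mk_eq_zero Pf).1 hq
      refine (Submodule.Quotient.mk_eq_zero _).2 ?_
      have h1 : (p : R) • (w : L) = normOp p X l := congrArg Subtype.val hw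
      rw [← add_sub_cancel (w : L) l]
      exact Submodule.add_mem_sup w.2 (mem_augM.2 (by
        rw [map_sub, normOp_of_fix (mem_fixM.1 w.2), h1, sub_self]))
    have hg : Function.Surjective g := fun a => by
      obtain ⟨w, rfl⟩ := hA.surj a
      exact ⟨Submodule.Quotient.mk w, rfl⟩
    have hex : Function.Exact f g := by
      intro q
      obtain ⟨w, rfl⟩ := Submodule.Quotient.mk_surjective _ q
      constructor
      · intro h
        obtain ⟨l, hl⟩ := (hA.ker w).1 h
        exact ⟨Submodule.Quotient.mk l, congrArg Pf.mkQ (Subtype.ext hl : T' l = w)⟩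
      · rintro ⟨q', hq'⟩
        obtain ⟨l, rfl⟩ := Submodule.Quotient.mk_surjective _ q'
        rw [← hq']
        exact (hA.ker _).2 ⟨l, rfl⟩
    rw [Module.length_eq_add_of_exact f g hf hg hex, Module.length_eq_of_surjective (R := k) (M := A) hk.surj,
      Module.length_eq_finrank]
  -- second sequence
  have hle2 : fixM X ⊔ augM p X ≤ LinearMap.ker ((LinearMap.range u).mkQ.comp u') := by
    refine sup_le (fun l hl => ?_) (fun l hl => ?_)
    · show (LinearMap.range u).mkQ (u' l) = 0
      rw [show u' l = 0 from Subtype.ext hl, map_zero]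
    · exact (Submodule.Quotient.mk_eq_zero _).2 ⟨⟨l, hl⟩, rfl⟩
  have haug : Module.length R ((augM p X) ⧸ LinearMap.range u) = Q + Module.finrank k B := by
    let f := (fixM X ⊔ augM p X).liftQ ((LinearMap.range u).mkQ.comp u') hle2
    let g := (LinearMap.range u).liftQ πB (by
      rintro _ ⟨w, rfl⟩
      exact (hB.ker _).2 ⟨w, rfl⟩)
    have hf : Function.Injective f := by
      rw [← LinearMap.ker_eq_bot, LinearMap.ker_eq_bot']
      intro q hq
      obtain ⟨l, rfl⟩ := Submodule.Quotient.mk_surjective _ q
      change (LinearMap.range u).mkQ (u' l) = 0 at hq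
      obtain ⟨w, hw⟩ := (Submodule.Quotient.mk_eq_zero _).1 hq
      refine (Submodule.Quotient.mk_eq_zero _).2 ?_
      have h1 : (X - 1) (w : L) = (X - 1) l := congrArg Subtype.val hw
      rw [← add_sub_cancel (w : L) l, sup_comm]
      exact Submodule.add_mem_sup w.2 (show (X - 1) (l - w) = 0 by rw [map_sub, h1, sub_self])
    have hg : Function.Surjective g := fun a => by
      obtain ⟨w, rfl⟩ := hB.surj a
      exact ⟨Submodule.Quotient.mk w, rfl⟩
    have hex : Function.Exact f g := by
      intro q
      obtain ⟨w, rfl⟩ := Submodule.Quotient.mk_surjective _ q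
      constructor
      · intro h
        obtain ⟨l, hl⟩ := (hB.ker w).1 h
        exact ⟨Submodule.Quotient.mk l, congrArg (LinearMap.range u).mkQ (Subtype.ext hl : u' l = w)⟩
      · rintro ⟨q', hq'⟩
        obtain ⟨l, rfl⟩ := Submodule.Quotient.mk_surjective _ q'
        rw [← hq']
        exact (hB.ker _).2 ⟨l, rfl⟩
    rw [Module.length_eq_add_of_exact f g hf hg hex, Module.length_eq_of_surjective (R := k) (M := B) hk.surj,
      Module.length_eq_finrank]
  -- the chain on the kernel of the trace
  have hrange : LinearMap.range (u ^ (p - 1)) = LinearMap.range ((p : R) • (1 : Module.End R (augM p X))) := by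
    obtain ⟨W, hW, hWe⟩ := exists_pow_eq hp X
    have hWaug : ∀ v : augM p X, W v ∈ augM p X := fun v => by
      have hc : Commute (normOp p X) W := Commute.sum_left _ _ _ fun i _ => hW.pow_left i
      rw [mem_augM, ← Module.End.mul_apply, hc.eq, Module.End.mul_apply, mem_augM.1 v.2, map_zero]
    let W' : Module.End R (augM p X) := (W.comp (augM p X).subtype).codRestrict _ hWaug
    have hpow : ∀ (j : ℕ) (v : augM p X), ((u ^ j) v : L) = ((X - 1) ^ j) (v : L) := by
      intro j
      induction j with
      | zero => intro v; rfl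
      | succ j ih =>
        intro v
        rw [pow_succ', pow_succ', Module.End.mul_apply, Module.End.mul_apply, ← ih]
        rfl
    have hrel : ∀ v : augM p X, (u ^ (p - 1)) v = -((p : R) • v) + (p : R) • u (W' v) := by
      intro v
      apply Subtype.ext
      rw [hpow, hWe]
      simp [mem_augM.1 v.2, u, u', W', Nat.cast_smul_eq_nsmul]
      abel
    apply le_antisymm
    · rintro _ ⟨v, rfl⟩
      exact ⟨-v + u (W' v), by rw [hrel]; simp [smul_add]⟩
    · rintro _ ⟨v, rfl⟩
      have key : ∀ (j : ℕ) (v : augM p X),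
          ∃ y z, (p : R) • v = (u ^ (p - 1)) y + (p : R) • (u ^ j) z := by
        intro j
        induction j with
        | zero => intro v; exact ⟨0, v, by simp⟩
        | succ j ih =>
          intro v
          obtain ⟨y, z, h⟩ := ih v
          refine ⟨y - (u ^ j) z, W' z, ?_⟩
          have h2 : (p : R) • (u ^ j) z = -(u ^ (p - 1)) ((u ^ j) z) + (p : R) • u (W' ((u ^ j) z)) := by
            rw [hrel]; abel
          have h3 : u (W' ((u ^ j) z)) = (u ^ (j + 1)) (W' z) := by
            have hcW : Commute u W' := LinearMap.ext fun x =>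
              Subtype.ext (LinearMap.congr_fun ((hW.sub_left (Commute.one_left W)).eq) (x : L))
            rw [pow_succ', Module.End.mul_apply, ← Module.End.mul_apply W' (u ^ j) z, ← (hcW.pow_left j).eq,
              Module.End.mul_apply]
          rw [h, h2, h3, map_sub]
          abel
      obtain ⟨y, z, h⟩ := key (p - 1) v
      exact ⟨y + (p : R) • z, by rw [LinearMap.smul_apply, Module.End.one_apply, map_add, map_smul, h]⟩
  -- count
  have h1 := length_quot_p hk (fixM X)
  rw [hfix] at h1
  have h2 := length_quot_pow u hu (p - 1)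
  rw [hrange, length_quot_p hk (augM p X), haug] at h2
  obtain ⟨q, hq⟩ : ∃ q : ℕ, Q = q := ENat.ne_top_iff_exists.1 (fun h => by
    rw [h, top_add] at h1; exact ENat.top_ne_natCast _ h1) |>.imp fun _ h => h.symm
  rw [hq] at h1 h2
  have e1 : q + Module.finrank k A = Module.finrank R (fixM X) := by exact_mod_cast h1
  have e2 : Module.finrank R (augM p X) = (p - 1) * (q + Module.finrank k B) := by exact_mod_cast h2
  -- ranks
  have hrk : Module.finrank R L = Module.finrank R (fixM X) + Module.finrank R (augM p X) := by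
    have h3 : Module.finrank R (LinearMap.range (normOp p X)) = Module.finrank R (fixM X) := by
      apply le_antisymm
      · refine LinearMap.finrank_le_finrank_of_injective
          (f := Submodule.inclusion (fun l hl => by obtain ⟨m, rfl⟩ := hl; exact normOp_mem_fix hX m))
          (Submodule.inclusion_injective _)
      · refine LinearMap.finrank_le_finrank_of_injective
          (f := ((p : R) • (fixM X).subtype).codRestrict (LinearMap.range (normOp p X)) fun w =>
            ⟨w, normOp_of_fix (mem_fixM.1 w.2)⟩) fun a b h => ?_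
        exact Subtype.ext (smul_p_cancel (R := R) hp0 (congrArg Subtype.val h))
    rw [← h3, ← (normOp p X).quotKerEquivRange.finrank_eq]
    exact (Submodule.finrank_quotient_add_finrank _).symm
  -- traces
  have htr : LinearMap.trace R L (normOp p X) = (Module.finrank R L : R) + ((p - 1 : ℕ) : R) * c := by
    obtain ⟨m, hm⟩ : ∃ m, p = m + 1 := ⟨p - 1, by omega⟩
    rw [normOp, map_sum]
    subst hm
    rw [Finset.sum_range_succ', pow_zero, LinearMap.trace_one,
      Finset.sum_congr rfl fun i hi => hc (i + 1) (by omega) (by simp at hi; omega), Finset.sum_const,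
      Finset.card_range, nsmul_eq_mul, Nat.add_sub_cancel, add_comm]
  have htr2 : LinearMap.trace R L (normOp p X) = (p : R) * Module.finrank R (fixM X) := by
    have hs : normOp p X = (fixM X).subtype ∘ₗ T' := rfl
    have hs' : T' ∘ₗ (fixM X).subtype = (p : R) • LinearMap.id :=
      LinearMap.ext fun w => Subtype.ext (normOp_of_fix (mem_fixM.1 w.2))
    rw [hs, LinearMap.trace_comp_comm', hs', map_smul, LinearMap.trace_id, smul_eq_mul]
  rw [htr2, hrk, e2, ← e1] at htr
  have hp1 : ((p - 1 : ℕ) : R) + 1 = (p : R) := by exact_mod_cast congrArg (Nat.cast (R := R)) (Nat.sub_add_cancel hp.one_le)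
  rw [← hp1] at htr
  push_cast at htr
  apply mul_left_cancel₀ (show ((p - 1 : ℕ) : R) ≠ 0 from Nat.cast_ne_zero.2 (by have := hp.two_le; omega))
  linear_combination -htr

end CfsgLib.DefectOne
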