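import Mathlib
import Cfsg.Agent.DefectOne.Herbrand

/-!
# Counting the simple summands of the Tate modules

A group `H` of order prime to `p` normalises `⟨X⟩` on the lattice `L`.  If every endomorphism commuting with `X`
and `H` agrees on the Tate modules with one satisfying a polynomial of degree `n` modulo `p`, then the Tate
modules together have at most `n` simple summands.
-/

set_option autoImplicit false
set_option linter.style.haveILetI false
set_option linter.unusedSectionVars false

namespace CfsgLib.DefectOne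

universe v

open Polynomial

/-- A module killed by `p` is a module over the residue field. -/
@[reducible] noncomputable def resModule {R : Type*} [CommRing R] {k : Type*} [Field k] [Algebra R k] {p : ℕ}
    (hk : Residual R k p) (M : Type*) [AddCommGroup M] [Module R M] (h : ∀ m : M, (p : R) • m = 0) : Module k M :=
  letI : SMul k M := ⟨fun c m => (hk.surj c).choose • m⟩
  Function.Surjective.moduleLeft (algebraMap R k) hk.surj fun r m => by
    show (hk.surj (algebraMap R k r)).choose • m = r • m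
    obtain ⟨s, hs⟩ := (hk.ker ((hk.surj (algebraMap R k r)).choose - r)).1
      (by rw [map_sub, (hk.surj (algebraMap R k r)).choose_spec, sub_self])
    rw [← sub_eq_zero, ← sub_smul, hs, mul_comm, mul_smul, h, smul_zero]

theorem resModule_tower {R : Type*} [CommRing R] {k : Type*} [Field k] [Algebra R k] {p : ℕ}
    (hk : Residual R k p) (M : Type*) [AddCommGroup M] [Module R M] (h : ∀ m : M, (p : R) • m = 0) :
    letI := resModule hk M h; IsScalarTower R k M := by
  letI := resModule hk M h
  refine IsScalarTower.of_algebraMap_smul fun r m => ?_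
  show (hk.surj (algebraMap R k r)).choose • m = r • m
  obtain ⟨s, hs⟩ := (hk.ker ((hk.surj (algebraMap R k r)).choose - r)).1
    (by rw [map_sub, (hk.surj (algebraMap R k r)).choose_spec, sub_self])
  rw [← sub_eq_zero, ← sub_smul, hs, mul_comm, mul_smul, h, smul_zero]

section Decomposition

variable {k : Type*} [Field k] {H : Type*} [Group H] [Fintype H] {V : Type v} [AddCommGroup V] [Module k V]

/-- An invariant subspace is the image of a projection commuting with the group. -/
theorem exists_equivariant_proj (hH : (Nat.card H : k) ≠ 0) (σ : Representation k H V) (U : Submodule k V)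
    (hU : ∀ h, ∀ v ∈ U, σ h v ∈ U) :
    ∃ q : Module.End k V, (∀ h, Commute q (σ h)) ∧ (∀ v, q v ∈ U) ∧ ∀ v ∈ U, q v = v := by
  obtain ⟨W, hW⟩ := U.exists_isCompl
  let q₀ : Module.End k V := U.subtype.comp (U.projectionOnto W hW)
  refine ⟨(Nat.card H : k)⁻¹ • ∑ h : H, σ h * q₀ * σ h⁻¹, fun g => ?_, fun v => ?_, fun v hv => ?_⟩
  · refine Commute.smul_left ?_ _
    show (∑ h : H, σ h * q₀ * σ h⁻¹) * σ g = σ g * ∑ h : H, σ h * q₀ * σ h⁻¹
    rw [Finset.sum_mul, Finset.mul_sum]
    refine Fintype.sum_equiv (Equiv.mulLeft g⁻¹) _ _ fun h => ?_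
    simp only [Equiv.coe_mulLeft, mul_inv_rev, inv_inv, map_mul, mul_assoc]
    rw [← mul_assoc (σ g) (σ g⁻¹), ← map_mul σ g g⁻¹, mul_inv_cancel, map_one, one_mul]
  · rw [LinearMap.smul_apply, LinearMap.sum_apply]
    exact U.smul_mem _ (U.sum_mem fun h _ => hU _ _ (SetLike.coe_mem _))
  · rw [LinearMap.smul_apply, LinearMap.sum_apply]
    have : ∀ h : H, (σ h * q₀ * σ h⁻¹) v = v := fun h => by
      rw [Module.End.mul_apply, Module.End.mul_apply,
        show q₀ (σ h⁻¹ v) = σ h⁻¹ v from congrArg Subtype.val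
          (Submodule.projectionOnto_apply_left hW ⟨_, hU h⁻¹ v hv⟩), ← Module.End.mul_apply, ← map_mul,
        mul_inv_cancel, map_one, Module.End.one_apply]
    rw [Finset.sum_congr rfl fun h _ => this h, Finset.sum_const, Finset.card_univ, ← Nat.card_eq_fintype_card,
      ← Nat.cast_smul_eq_nsmul k, smul_smul, inv_mul_cancel₀ hH, one_smul]

/-- Orthogonal projections onto simple summands. -/
theorem exists_simple_projs [FiniteDimensional k V] (hH : (Nat.card H : k) ≠ 0) (σ : Representation k H V) :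
    ∀ (d : ℕ) (e : Module.End k V), IsIdempotentElem e → (∀ h, Commute e (σ h)) →
      Module.finrank k (LinearMap.range e) = d →
      ∃ (s : ℕ) (π : Fin s → Module.End k V), ∑ j, π j = e ∧ (∀ j, IsIdempotentElem (π j)) ∧
        (∀ i j, i ≠ j → π i * π j = 0) ∧ (∀ j h, Commute (π j) (σ h)) ∧ (∀ j, e * π j = π j ∧ π j * e = π j) ∧
        ∀ j, π j ≠ 0 ∧ ∀ U ≤ LinearMap.range (π j), (∀ h, ∀ v ∈ U, σ h v ∈ U) → U = ⊥ ∨ U = LinearMap.range (π j) := by
  intro d
  induction d using Nat.strong_induction_on with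
  | _ d ih =>
    intro e he hec hd
    by_cases he0 : e = 0
    · exact ⟨0, Fin.elim0, by simp [he0], fun j => j.elim0, fun i => i.elim0, fun j => j.elim0,
        fun j => j.elim0, fun j => j.elim0⟩
    by_cases hs : ∀ U ≤ LinearMap.range e, (∀ h, ∀ v ∈ U, σ h v ∈ U) → U = ⊥ ∨ U = LinearMap.range e
    · exact ⟨1, fun _ => e, by simp, fun _ => he, fun i j h => absurd (Subsingleton.elim i j) h,
        fun _ => hec, fun _ => ⟨he, he⟩, fun _ => ⟨he0, hs⟩⟩
    push Not at hs
    obtain ⟨U, hUe, hUσ, hU0, hUne⟩ := hs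
    obtain ⟨q₁, hq₁c, hq₁U, hq₁id⟩ := exists_equivariant_proj hH σ U hUσ
    set q := q₁ * e with hqdef
    have hfixe : ∀ v ∈ LinearMap.range e, e v = v := by
      rintro _ ⟨v, rfl⟩; exact LinearMap.congr_fun he v
    have heq : e * q = q := LinearMap.ext fun v => hfixe _ (hUe (hq₁U (e v)))
    have hqe : q * e = q := by rw [hqdef, mul_assoc, he.eq]
    have hqU : ∀ v ∈ U, q v = v := fun v hv => by
      rw [hqdef, Module.End.mul_apply, hfixe v (hUe hv), hq₁id v hv]
    have hq : IsIdempotentElem q := LinearMap.ext fun v => hqU _ (hq₁U (e v))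
    have hqc : ∀ h, Commute q (σ h) := fun h => (hq₁c h).mul_left (hec h)
    have hr : IsIdempotentElem (e - q) := by
      show (e - q) * (e - q) = e - q
      rw [sub_mul, mul_sub, mul_sub, he.eq, heq, hqe, hq.eq]; abel
    have hrq : LinearMap.range q = U := le_antisymm (by rintro _ ⟨v, rfl⟩; exact hq₁U _)
      fun v hv => ⟨v, hqU v hv⟩
    have hsplit : LinearMap.range e = LinearMap.range q ⊔ LinearMap.range (e - q) := by
      apply le_antisymm
      · rintro _ ⟨v, rfl⟩
        rw [show e v = q v + (e - q) v by simp]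
        exact Submodule.add_mem_sup ⟨v, rfl⟩ ⟨v, rfl⟩
      · refine sup_le (by rw [hrq]; exact hUe) ?_
        rintro _ ⟨v, rfl⟩
        exact ⟨(e - q) v, by rw [← Module.End.mul_apply, mul_sub, he.eq, heq]⟩
    have hdis : LinearMap.range q ⊓ LinearMap.range (e - q) = ⊥ := by
      refine eq_bot_iff.2 fun v hv => ?_
      obtain ⟨⟨a, rfl⟩, b, hb⟩ := hv
      have : q (q a) = q ((e - q) b) := by rw [hb]
      rw [← Module.End.mul_apply, hq.eq, ← Module.End.mul_apply, mul_sub, hqe, hq.eq, sub_self,
        LinearMap.zero_apply] at this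
      exact this
    have hsum := Submodule.finrank_sup_add_finrank_inf_eq (LinearMap.range q) (LinearMap.range (e - q))
    rw [hdis, ← hsplit, finrank_bot, add_zero, hrq, hd] at hsum
    have hUpos : 0 < Module.finrank k U := Nat.pos_of_ne_zero fun h => hU0 (Submodule.finrank_eq_zero.1 h)
    have hUlt : Module.finrank k U < d := hd ▸ Submodule.finrank_lt_finrank_of_lt (lt_of_le_of_ne hUe hUne)
    obtain ⟨s₁, π₁, h11, h12, h13, h14, h15, h16⟩ := ih _ hUlt q hq hqc (by rw [hrq])
    obtain ⟨s₂, π₂, h21, h22, h23, h24, h25, h26⟩ :=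
      ih (Module.finrank k (LinearMap.range (e - q))) (by omega) (e - q) hr (fun h => (hec h).sub_left (hqc h)) rfl
    refine ⟨s₁ + s₂, Fin.append π₁ π₂, ?_, ?_, ?_, ?_, ?_, ?_⟩
    · rw [Fin.sum_univ_add]
      simp [h11, h21]
    · exact Fin.addCases (fun j => by simpa using h12 j) (fun j => by simpa using h22 j)
    · have hx : q * (e - q) = 0 := by rw [mul_sub, hqe, hq.eq, sub_self]
      have hy : (e - q) * q = 0 := by rw [sub_mul, heq, hq.eq, sub_self]
      refine Fin.addCases (fun i => ?_) (fun i => ?_)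
      · refine Fin.addCases (fun j hij => ?_) (fun j _ => ?_)
        · simp only [Fin.append_left]; exact h13 i j fun h => hij (by rw [h])
        · simp only [Fin.append_left, Fin.append_right]
          rw [← (h15 i).2, ← (h25 j).1, mul_assoc, ← mul_assoc q, hx, zero_mul, mul_zero]
      · refine Fin.addCases (fun j _ => ?_) (fun j hij => ?_)
        · simp only [Fin.append_left, Fin.append_right]
          rw [← (h25 i).2, ← (h15 j).1, mul_assoc, ← mul_assoc (e - q), hy, zero_mul, mul_zero]
        · simp only [Fin.append_right]; exact h23 i j fun h => hij (by rw [h])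
    · exact Fin.addCases (fun j => by simpa using h14 j) (fun j => by simpa using h24 j)
    · refine Fin.addCases (fun j => ?_) (fun j => ?_)
      · simp only [Fin.append_left]
        exact ⟨by rw [← (h15 j).1, ← mul_assoc, heq], by rw [← (h15 j).2, mul_assoc, hqe]⟩
      · simp only [Fin.append_right]
        have h1 : e * (e - q) = e - q := by rw [mul_sub, he.eq, heq]
        have h2 : (e - q) * e = e - q := by rw [sub_mul, he.eq, hqe]
        exact ⟨by rw [← (h25 j).1, ← mul_assoc, h1], by rw [← (h25 j).2, mul_assoc, h2]⟩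
    · exact Fin.addCases (fun j => by simpa using h16 j) (fun j => by simpa using h26 j)

/-- The range of an equivariant idempotent is at most the bound times the number of summands it meets. -/
theorem finrank_range_le [FiniteDimensional k V] (σ : Representation k H V) {s : ℕ} (π : Fin s → Module.End k V)
    (hsum : ∑ j, π j = 1) (hsimp : ∀ j, π j ≠ 0 ∧
      ∀ U ≤ LinearMap.range (π j), (∀ h, ∀ v ∈ U, σ h v ∈ U) → U = ⊥ ∨ U = LinearMap.range (π j))
    (hcomm : ∀ j h, Commute (π j) (σ h))
    (c : H → k) (he : IsIdempotentElem (∑ h, c h • σ h)) (hec : ∀ g, Commute (∑ h, c h • σ h) (σ g)) (w : ℕ)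
    (hw : ∀ {W : Type v} [AddCommGroup W] [Module k W] [FiniteDimensional k W] (τ : Representation k H W),
      τ.IsIrreducible → (∑ h, c h • τ h) ≠ 0 → Module.finrank k W ≤ w) :
    ∃ S : Finset (Fin s), (∀ j ∈ S, (∑ h, c h • σ h) * π j = π j) ∧
      Module.finrank k (LinearMap.range (∑ h, c h • σ h)) ≤ w * S.card := by
  classical
  set e := ∑ h, c h • σ h with hedef
  have hcomme : ∀ j, Commute e (π j) := fun j =>
    Commute.sum_left _ _ _ fun h _ => ((hcomm j h).symm.smul_left _)
  have hdich : ∀ j, e * π j = 0 ∨ e * π j = π j := by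
    intro j
    let U := LinearMap.range (e * π j)
    have hU : U ≤ LinearMap.range (π j) := by
      show LinearMap.range (e * π j) ≤ _
      rw [(hcomme j).eq, Module.End.mul_eq_comp]; exact LinearMap.range_comp_le_range _ _
    rcases (hsimp j).2 U hU (fun h v hv => by
      obtain ⟨u, rfl⟩ := hv
      exact ⟨σ h u, LinearMap.congr_fun ((hec h).mul_left (hcomm j h)).eq u⟩) with h0 | h0
    · exact Or.inl (LinearMap.range_eq_bot.1 h0)
    · refine Or.inr (LinearMap.ext fun v => ?_)
      obtain ⟨u, hu⟩ : π j v ∈ U := h0 ▸ ⟨v, rfl⟩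
      rw [Module.End.mul_apply, ← hu, ← Module.End.mul_apply e, ← mul_assoc, he.eq]
  set S := Finset.univ.filter fun j => e * π j = π j with hS
  refine ⟨S, fun j hj => (Finset.mem_filter.1 hj).2, ?_⟩
  have hle : LinearMap.range e ≤ S.sup fun j => LinearMap.range (π j) := by
    rintro _ ⟨v, rfl⟩
    rw [show e v = ∑ j, (e * π j) v by
      rw [← LinearMap.sum_apply, ← Finset.mul_sum, hsum, mul_one]]
    refine Submodule.sum_mem _ fun j _ => ?_
    rcases hdich j with h | h
    · rw [h]; exact Submodule.zero_mem _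
    · rw [h]
      exact (Finset.le_sup (f := fun j => LinearMap.range (π j))
        (Finset.mem_filter.2 ⟨Finset.mem_univ j, h⟩)) ⟨v, rfl⟩
  have hbound : ∀ j ∈ S, Module.finrank k (LinearMap.range (π j)) ≤ w := by
    intro j hj
    have hj' := (Finset.mem_filter.1 hj).2
    have hinv : ∀ h, ∀ v ∈ LinearMap.range (π j), σ h v ∈ LinearMap.range (π j) := by
      rintro h _ ⟨u, rfl⟩
      exact ⟨σ h u, LinearMap.congr_fun (hcomm j h).eq u⟩
    let τ : Representation k H (LinearMap.range (π j)) :=
      { toFun := fun h => (σ h).restrict (hinv h)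
        map_one' := LinearMap.ext fun v => Subtype.ext (by simp)
        map_mul' := fun a b => LinearMap.ext fun v => Subtype.ext (by simp) }
    refine hw τ ?_ ?_
    · have hne : LinearMap.range (π j) ≠ ⊥ := fun h => (hsimp j).1 (LinearMap.range_eq_bot.1 h)
      haveI : Nontrivial (LinearMap.range (π j)) := Submodule.nontrivial_iff_ne_bot.2 hne
      refine IsSimpleOrder.mk (toNontrivial := ?_) fun U => ?_
      · exact nontrivial_of_ne ⊥ ⊤ fun he' => bot_ne_top (α := Submodule k (LinearMap.range (π j)))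
          (congrArg Subrepresentation.toSubmodule he' :)
      · rcases (hsimp j).2 (U.toSubmodule.map (LinearMap.range (π j)).subtype) (Submodule.map_subtype_le _ _)
          (fun h v hv => by
            obtain ⟨u, hu, rfl⟩ := hv
            exact ⟨τ h u, U.apply_mem_toSubmodule h hu, rfl⟩) with h0 | h0
        · refine Or.inl (Subrepresentation.toSubmodule_injective ?_)
          exact Submodule.map_injective_of_injective (LinearMap.range (π j)).subtype_injective
            (by rw [h0]; exact (Submodule.map_bot _).symm)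
        · refine Or.inr (Subrepresentation.toSubmodule_injective ?_)
          exact Submodule.map_injective_of_injective (LinearMap.range (π j)).subtype_injective
            (by rw [h0]; exact (Submodule.map_subtype_top _).symm)
    · intro h0
      refine (hsimp j).1 (LinearMap.ext fun v => ?_)
      have h1 := congrArg Subtype.val (LinearMap.congr_fun h0 ⟨π j v, v, rfl⟩)
      simp only [LinearMap.sum_apply, LinearMap.smul_apply, LinearMap.zero_apply, Submodule.coe_zero] at h1
      rw [← hj']
      simpa [hedef, LinearMap.sum_apply, τ] using h1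
  have hfin : ∀ T ⊆ S, Module.finrank k (T.sup fun j => LinearMap.range (π j) : Submodule k V) ≤ w * T.card := by
    intro T
    induction T using Finset.induction_on with
    | empty => intro _; simp
    | @insert a T ha ih =>
      intro hT
      rw [Finset.sup_insert, Finset.card_insert_of_notMem ha, mul_add, mul_one, add_comm]
      exact le_trans (Submodule.finrank_add_le_finrank_add_finrank _ _) (Nat.add_le_add
        (hbound a (hT (Finset.mem_insert_self a T))) (ih fun x hx => hT (Finset.mem_insert_of_mem hx)))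
  exact (Submodule.finrank_mono hle).trans (hfin S subset_rfl)

end Decomposition

/-- Transport of a polynomial along an intertwining map defined on an invariant subset. -/
theorem aeval_intertwine {R : Type*} [CommRing R] {k : Type*} [Field k] [Algebra R k]
    {L : Type*} [AddCommGroup L] [Module R L] {A : Type*} [AddCommGroup A] [Module R A] [Module k A]
    [IsScalarTower R k A] (U : Submodule R L) (π : U →ₗ[R] A) (F : Module.End R L) (α : Module.End k A)
    (hF : ∀ u ∈ U, F u ∈ U) (h : ∀ u u' : U, (u' : L) = F u → π u' = α (π u)) (Q : R[X]) :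
    ∀ u : U, ∃ u' : U, (u' : L) = aeval F Q u ∧ π u' = aeval α (Q.map (algebraMap R k)) (π u) := by
  induction Q using Polynomial.induction_on' with
  | add P Q hP hQ =>
    intro u
    obtain ⟨a, ha, ha'⟩ := hP u
    obtain ⟨b, hb, hb'⟩ := hQ u
    exact ⟨a + b, by simp [ha, hb], by simp [ha', hb', Polynomial.map_add]⟩
  | monomial m r =>
    intro u
    have hm : ∀ m : ℕ, ∃ u' : U, (u' : L) = (F ^ m) u ∧ π u' = (α ^ m) (π u) := by
      intro m
      induction m with
      | zero => exact ⟨u, rfl, rfl⟩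
      | succ m ih =>
        obtain ⟨a, ha, ha'⟩ := ih
        refine ⟨⟨F a, hF _ a.2⟩, ?_, ?_⟩
        · rw [pow_succ', Module.End.mul_apply, ← ha]
        · rw [h a ⟨F a, hF _ a.2⟩ rfl, pow_succ', Module.End.mul_apply, ha']
    obtain ⟨a, ha, ha'⟩ := hm m
    refine ⟨r • a, by simp [aeval_monomial, ha], ?_⟩
    rw [map_smul, ha', Polynomial.map_monomial, aeval_monomial]
    simp [algebraMap_smul]

theorem aeval_apply_eigen {k : Type*} [Field k] {A : Type*} [AddCommGroup A] [Module k A] (α : Module.End k A)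
    {c : k} {v : A} (hv : α v = c • v) (Q : k[X]) : aeval α Q v = Q.eval c • v := by
  induction Q using Polynomial.induction_on' with
  | add P Q hP hQ => simp [hP, hQ, add_smul]
  | monomial m r =>
    have : ∀ m : ℕ, (α ^ m) v = c ^ m • v := by
      intro m
      induction m with
      | zero => simp
      | succ m ih => rw [pow_succ', Module.End.mul_apply, ih, map_smul, hv, smul_smul, pow_succ]
    simp [aeval_monomial, this, smul_smul, mul_comm]

variable {R : Type*} [CommRing R] [IsDomain R] [IsPrincipalIdealRing R] [CharZero R]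
variable {L : Type v} [AddCommGroup L] [Module R L] [Module.Finite R L] [Module.Free R L]
variable {k : Type*} [Field k] [Infinite k] [Algebra R k] {p : ℕ}

/-- The bound on the summands. -/
theorem summand_bound (hk : Residual R k p) (hp : p.Prime) {H : Type*} [Group H] [Fintype H]
    (hH : IsUnit (Nat.card H : R)) (X : Module.End R L) (hX : X ^ p = 1) (ρ : H →* Module.End R L)
    (hρ : ∀ h, ∃ i, X * ρ h = ρ h * X ^ i) (n : ℕ)
    (hlift : ∀ f : Module.End R L, Commute f X → (∀ h, Commute f (ρ h)) →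
      ∃ (F : Module.End R L) (Q : R[X]) (t : ℕ), Q.Monic ∧ Q.natDegree = n ∧
        (∀ u ∈ fixM X, F u - f u ∈ LinearMap.range (normOp p X)) ∧
        (∀ w ∈ augM p X, F w - f w ∈ LinearMap.range (X - 1)) ∧
        ∀ l, ∃ l', (aeval F (Q ^ t)) l = (p : R) • l')
    {O : Type*} [Fintype O] (ε : O → H → R)
    (heI : ∀ o, IsIdempotentElem (∑ h, ε o h • ρ h))
    (heO : ∀ o o', o ≠ o' → (∑ h, ε o h • ρ h) * (∑ h, ε o' h • ρ h) = 0)
    (heX : ∀ o, Commute (∑ h, ε o h • ρ h) X) (heρ : ∀ o g, Commute (∑ h, ε o h • ρ h) (ρ g))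
    (w : O → ℕ) (hw0 : ∀ o, 0 < w o)
    (hw : ∀ o, ∀ {W : Type v} [AddCommGroup W] [Module k W] [FiniteDimensional k W] (τ : Representation k H W),
      τ.IsIrreducible → (∑ h, algebraMap R k (ε o h) • τ h) ≠ 0 → Module.finrank k W ≤ w o)
    (z : O → ℤ) (hz : ∀ o i, 0 < i → i < p →
      LinearMap.trace R L ((∑ h, ε o h • ρ h) * X ^ i) = ((z o * (w o : ℤ) : ℤ) : R)) :
    ∑ o, |z o| ≤ (n : ℤ) := by
  classical
  haveI : IsNoetherian R L := isNoetherian_of_isNoetherianRing_of_finite R L
  have hp0 := hp.pos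
  have hHk : (Nat.card H : k) ≠ 0 := by
    have := (hH.map (algebraMap R k)).ne_zero
    rwa [map_natCast] at this
  -- the group preserves everything
  have hX' : ∀ h, ∃ i, ¬ p ∣ i ∧ X * ρ h = ρ h * X ^ i := by
    intro h
    obtain ⟨i, hi⟩ := hρ h
    by_cases hpi : p ∣ i
    · obtain ⟨j, rfl⟩ := hpi
      rw [pow_mul, hX, one_pow, mul_one] at hi
      have hX1 : X = 1 := by
        have := congrArg (· * ρ h⁻¹) hi
        simpa [mul_assoc, ← map_mul] using this
      exact ⟨1, by simpa using hp.ne_one, by rw [hX1, pow_one, mul_one, one_mul]⟩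
    · exact ⟨i, hpi, hi⟩
  choose ix hix hρX using hX'
  have hρXj : ∀ h j, X ^ j * ρ h = ρ h * X ^ (ix h * j) := by
    intro h j
    induction j with
    | zero => simp
    | succ j ih => rw [pow_succ, mul_assoc, hρX, ← mul_assoc, ih, mul_assoc, ← pow_add, mul_add, mul_one]
  have hmod : ∀ a, X ^ (a % p) = X ^ a := fun a => by
    conv_rhs => rw [← Nat.mod_add_div a p, pow_add, pow_mul, hX, one_pow, mul_one]
  have hρT : ∀ h, Commute (normOp p X) (ρ h) := by
    intro h
    show normOp p X * ρ h = ρ h * normOp p X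
    rw [normOp, Finset.sum_mul, Finset.mul_sum]
    have himg : (Finset.range p).image (fun j => ix h * j % p) = Finset.range p := by
      refine Finset.eq_of_subset_of_card_le ?_ ?_
      · intro a ha
        obtain ⟨j, -, rfl⟩ := Finset.mem_image.1 ha
        exact Finset.mem_range.2 (Nat.mod_lt _ hp0)
      · rw [Finset.card_image_of_injOn]
        intro a ha b hb hab
        have h1 : ix h * a ≡ ix h * b [MOD p] := hab
        have h2 := Nat.ModEq.cancel_left_of_coprime (hp.coprime_iff_not_dvd.2 (hix h)) h1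
        rw [Nat.ModEq, Nat.mod_eq_of_lt (Finset.mem_range.1 ha), Nat.mod_eq_of_lt (Finset.mem_range.1 hb)] at h2
        exact h2
    conv_rhs => rw [← himg]
    rw [Finset.sum_image]
    · exact Finset.sum_congr rfl fun j _ => by rw [hρXj, hmod]
    · intro a ha b hb hab
      have h2 := Nat.ModEq.cancel_left_of_coprime (hp.coprime_iff_not_dvd.2 (hix h)) (hab : ix h * a ≡ ix h * b [MOD p])
      rw [Nat.ModEq, Nat.mod_eq_of_lt (Finset.mem_range.1 ha), Nat.mod_eq_of_lt (Finset.mem_range.1 hb)] at h2
      exact h2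
  have hfixρ : ∀ h, ∀ u ∈ fixM X, ρ h u ∈ fixM X := fun h u hu => mem_fixM.2 <| by
    rw [← Module.End.mul_apply, hρX, Module.End.mul_apply, pow_apply_of_fix (mem_fixM.1 hu)]
  have haugρ : ∀ h, ∀ u ∈ augM p X, ρ h u ∈ augM p X := fun h u hu => mem_augM.2 <| by
    rw [← Module.End.mul_apply, (hρT h).eq, Module.End.mul_apply, mem_augM.1 hu, map_zero]
  have hdρ : ∀ h l, ρ h ((X - 1) l) ∈ LinearMap.range (X - 1) := by
    intro h l
    have h1 : X * ρ h⁻¹ = ρ h⁻¹ * X ^ ix h⁻¹ := hρX h⁻¹
    have h2 : ρ h * X = X ^ ix h⁻¹ * ρ h := by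
      have := congrArg (fun F => ρ h * F * ρ h) h1
      simpa [mul_assoc, ← map_mul, ← mul_assoc (ρ h) (ρ h⁻¹)] using this
    refine ⟨(∑ j ∈ Finset.range (ix h⁻¹), X ^ j) (ρ h l), ?_⟩
    rw [← Module.End.mul_apply, mul_geom_sum, LinearMap.sub_apply, LinearMap.sub_apply, map_sub,
      Module.End.one_apply, Module.End.one_apply, ← Module.End.mul_apply, ← h2, Module.End.mul_apply]
  -- the Tate modules
  let KA : Submodule R (fixM X) := (LinearMap.range (normOp p X)).comap (fixM X).subtype
  let KB : Submodule R (augM p X) := (LinearMap.range (X - 1)).comap (augM p X).subtype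
  let A := (fixM X) ⧸ KA
  let B := (augM p X) ⧸ KB
  have hpA : ∀ a : A, (p : R) • a = 0 := by
    intro a
    obtain ⟨u, rfl⟩ := Submodule.Quotient.mk_surjective _ a
    rw [← Submodule.Quotient.mk_smul, Submodule.Quotient.mk_eq_zero]
    exact ⟨(u : L), normOp_of_fix (mem_fixM.1 u.2)⟩
  have hpB : ∀ b : B, (p : R) • b = 0 := by
    intro b
    obtain ⟨v, rfl⟩ := Submodule.Quotient.mk_surjective _ b
    rw [← Submodule.Quotient.mk_smul, Submodule.Quotient.mk_eq_zero]
    refine ⟨-(sOp p X (v : L)), ?_⟩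
    rw [map_neg, ← Module.End.mul_apply, sub_one_mul_sOp hX hp0, LinearMap.sub_apply, mem_augM.1 v.2, zero_sub,
      neg_neg, Module.End.natCast_apply, Submodule.coe_subtype, Submodule.coe_smul, Nat.cast_smul_eq_nsmul]
  letI := resModule hk A hpA
  haveI := resModule_tower hk A hpA
  letI := resModule hk B hpB
  haveI := resModule_tower hk B hpB
  haveI : Module.Finite k A := Module.Finite.of_restrictScalars_finite R k A
  haveI : Module.Finite k B := Module.Finite.of_restrictScalars_finite R k B
  let πA : fixM X →ₗ[R] A := KA.mkQ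
  let πB : augM p X →ₗ[R] B := KB.mkQ
  have hA : IsTateA p X πA := ⟨Submodule.mkQ_surjective _, fun u => Submodule.Quotient.mk_eq_zero _⟩
  have hB : IsTateB p X πB := ⟨Submodule.mkQ_surjective _, fun u => Submodule.Quotient.mk_eq_zero _⟩
  have hklin : ∀ {M M' : Type _} [AddCommGroup M] [AddCommGroup M'] [Module R M] [Module R M'] [Module k M]
      [Module k M'] [IsScalarTower R k M] [IsScalarTower R k M'] (g : M →ₗ[R] M') (c : k) (m : M),
      g (c • m) = c • g m := by
    intro M M' _ _ _ _ _ _ _ _ g c m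
    obtain ⟨r, rfl⟩ := hk.surj c
    rw [algebraMap_smul_A, map_smul, algebraMap_smul_A]
  let ρA₀ : H → (A →ₗ[R] A) := fun h => KA.mapQ KA ((ρ h).restrict (hfixρ h)) (by
    rintro u ⟨l, hl⟩
    exact ⟨ρ h l, by rw [← Module.End.mul_apply, (hρT h).eq, Module.End.mul_apply, hl]; rfl⟩)
  let ρB₀ : H → (B →ₗ[R] B) := fun h => KB.mapQ KB ((ρ h).restrict (haugρ h)) (by
    rintro u ⟨l, hl⟩
    show ρ h u ∈ LinearMap.range (X - 1)
    rw [show (u : L) = (X - 1) l from hl.symm]
    exact hdρ h l)
  let σA : Representation k H A :=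
    { toFun := fun h => { toFun := ρA₀ h, map_add' := (ρA₀ h).map_add, map_smul' := fun c a => hklin (ρA₀ h) c a }
      map_one' := LinearMap.ext fun a => by
        obtain ⟨u, rfl⟩ := Submodule.Quotient.mk_surjective _ a
        exact congrArg Submodule.Quotient.mk (Subtype.ext (by simp))
      map_mul' := fun g h => LinearMap.ext fun a => by
        obtain ⟨u, rfl⟩ := Submodule.Quotient.mk_surjective _ a
        exact congrArg Submodule.Quotient.mk (Subtype.ext (by simp)) }
  let σB : Representation k H B :=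
    { toFun := fun h => { toFun := ρB₀ h, map_add' := (ρB₀ h).map_add, map_smul' := fun c a => hklin (ρB₀ h) c a }
      map_one' := LinearMap.ext fun a => by
        obtain ⟨u, rfl⟩ := Submodule.Quotient.mk_surjective _ a
        exact congrArg Submodule.Quotient.mk (Subtype.ext (by simp))
      map_mul' := fun g h => LinearMap.ext fun a => by
        obtain ⟨u, rfl⟩ := Submodule.Quotient.mk_surjective _ a
        exact congrArg Submodule.Quotient.mk (Subtype.ext (by simp)) }
  obtain ⟨sA, PA, hPA1, hPA2, hPA3, hPA4, -, hPA6⟩ :=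
    exists_simple_projs hHk σA _ 1 IsIdempotentElem.one (fun h => Commute.one_left _) rfl
  obtain ⟨sB, PB, hPB1, hPB2, hPB3, hPB4, -, hPB6⟩ :=
    exists_simple_projs hHk σB _ 1 IsIdempotentElem.one (fun h => Commute.one_left _) rfl
  -- the number of summands
  have hcount : sA + sB ≤ n := by
    obtain ⟨c⟩ : Nonempty (Fin (sA + sB) ↪ k) := ⟨Fin.valEmbedding.trans (Infinite.natEmbedding k)⟩
    let α : Module.End k A := ∑ j, c (Fin.castAdd sB j) • PA j
    let β : Module.End k B := ∑ j, c (Fin.natAdd sA j) • PB j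
    obtain ⟨fA, hfA1, hfA2, hfA3, hfA4⟩ := exists_lift_A hk hX hp0 hA α
    obtain ⟨fB, hfB1, hfB2, hfB3, hfB4⟩ := exists_lift_B hk hX hp0 hB β
    set f₀ := fA + fB with hf₀
    obtain ⟨u, hu⟩ := hH
    let f : Module.End R L := (↑u⁻¹ : R) • ∑ h : H, ρ h * f₀ * ρ h⁻¹
    have hfρ : ∀ g, Commute f (ρ g) := by
      intro g
      refine Commute.smul_left ?_ _
      show (∑ h : H, ρ h * f₀ * ρ h⁻¹) * ρ g = ρ g * ∑ h : H, ρ h * f₀ * ρ h⁻¹
      rw [Finset.sum_mul, Finset.mul_sum]
      refine Fintype.sum_equiv (Equiv.mulLeft g⁻¹) _ _ fun h => ?_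
      simp only [Equiv.coe_mulLeft, mul_inv_rev, inv_inv, map_mul, mul_assoc]
      rw [← mul_assoc (ρ g) (ρ g⁻¹), ← map_mul ρ g g⁻¹, mul_inv_cancel, map_one, one_mul]
    have hfX : Commute f X := by
      refine Commute.smul_left (Commute.sum_left _ _ _ fun h _ => ?_) _
      show ρ h * f₀ * ρ h⁻¹ * X = X * (ρ h * f₀ * ρ h⁻¹)
      have h2 : ρ h⁻¹ * X = X ^ ix h * ρ h⁻¹ := by
        have := congrArg (fun F => ρ h⁻¹ * F * ρ h⁻¹) (hρX h)
        simpa [mul_assoc, ← map_mul, ← mul_assoc (ρ h⁻¹) (ρ h)] using this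
      rw [mul_assoc, mul_assoc, h2, ← mul_assoc f₀, ((hfA1.add_left hfB1).pow_right (ix h)).eq, ← mul_assoc,
        ← mul_assoc, ← hρX h]
      simp only [hf₀, mul_assoc]
    obtain ⟨F, Q, t, hQm, hQn, hFA, hFB, hFp⟩ := hlift f hfX hfρ
    have hαc : ∀ h, Commute α (σA h) := fun h => Commute.sum_left _ _ _ fun j _ => (hPA4 j h).smul_left _
    have hβc : ∀ h, Commute β (σB h) := fun h => Commute.sum_left _ _ _ fun j _ => (hPB4 j h).smul_left _
    have hscal : ∀ {M : Type _} [AddCommGroup M] [Module R M] (m : M), (↑u⁻¹ : R) • (Nat.card H • m) = m := by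
      intro M _ _ m
      rw [← Nat.cast_smul_eq_nsmul R, smul_smul, ← hu, Units.inv_mul, one_smul]
    have hFfix : ∀ v ∈ fixM X, F v ∈ fixM X := by
      intro v hv
      obtain ⟨l, hl⟩ := hFA v hv
      have hfv : f v ∈ fixM X := mem_fixM.2 (by
        rw [← Module.End.mul_apply, ← hfX.eq, Module.End.mul_apply, mem_fixM.1 hv])
      rw [← sub_add_cancel (F v) (f v), ← hl]
      exact Submodule.add_mem _ (normOp_mem_fix hX l) hfv
    have hFaug : ∀ v ∈ augM p X, F v ∈ augM p X := by
      intro v hv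
      obtain ⟨l, hl⟩ := hFB v hv
      have hc : Commute (normOp p X) f := Commute.sum_left _ _ _ fun i _ => hfX.symm.pow_left i
      rw [← sub_add_cancel (F v) (f v), ← hl]
      exact Submodule.add_mem _ (sub_one_mem_aug hX l) (mem_augM.2 (by
        rw [← Module.End.mul_apply, hc.eq, Module.End.mul_apply, mem_augM.1 hv, map_zero]))
    have hFα : ∀ v v' : fixM X, (v' : L) = F v → πA v' = α (πA v) := by
      intro v v' hv'
      have hterm : ∀ h : H, ∃ x : fixM X, (x : L) = (ρ h * f₀ * ρ h⁻¹) v ∧ πA x = α (πA v) := by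
        intro h
        let v₁ : fixM X := ⟨ρ h⁻¹ v, hfixρ _ _ v.2⟩
        let v₂ : fixM X := ⟨fA (v₁ : L), hfA3 _ v₁.2⟩
        refine ⟨⟨ρ h (v₂ : L), hfixρ _ _ v₂.2⟩, ?_, ?_⟩
        · simp [hf₀, v₁, v₂, hfB2 _ (hfixρ h⁻¹ _ v.2)]
        · have h1 : πA ⟨ρ h (v₂ : L), hfixρ _ _ v₂.2⟩ = σA h (πA v₂) := rfl
          rw [h1, hfA4 v₁ v₂ rfl, show πA v₁ = σA h⁻¹ (πA v) from rfl, ← Module.End.mul_apply α,
            (hαc h⁻¹).eq, Module.End.mul_apply, ← Module.End.mul_apply (σA h), ← map_mul, mul_inv_cancel,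
            map_one, Module.End.one_apply]
      choose x hx hxπ using hterm
      obtain ⟨l, hl⟩ := hFA v v.2
      have : v' = (↑u⁻¹ : R) • ∑ h, x h + ⟨normOp p X l, normOp_mem_fix hX l⟩ := Subtype.ext (by
        rw [hv']
        simp [hl, hx, f, LinearMap.sum_apply])
      rw [this, map_add, (hA.ker ⟨_, _⟩).2 ⟨l, rfl⟩, add_zero, map_smul, map_sum,
        Finset.sum_congr rfl fun h _ => hxπ h, Finset.sum_const, Finset.card_univ, ← Nat.card_eq_fintype_card, hscal]
    have hFβ : ∀ v v' : augM p X, (v' : L) = F v → πB v' = β (πB v) := by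
      intro v v' hv'
      have hterm : ∀ h : H, ∃ x : augM p X, (x : L) = (ρ h * f₀ * ρ h⁻¹) v ∧ πB x = β (πB v) := by
        intro h
        let v₁ : augM p X := ⟨ρ h⁻¹ v, haugρ _ _ v.2⟩
        let v₂ : augM p X := ⟨fB (v₁ : L), hfB3 _ v₁.2⟩
        refine ⟨⟨ρ h (v₂ : L), haugρ _ _ v₂.2⟩, ?_, ?_⟩
        · simp [hf₀, v₁, v₂, hfA2 _ (haugρ h⁻¹ _ v.2)]
        · have h1 : πB ⟨ρ h (v₂ : L), haugρ _ _ v₂.2⟩ = σB h (πB v₂) := rfl
          rw [h1, hfB4 v₁ v₂ rfl, show πB v₁ = σB h⁻¹ (πB v) from rfl, ← Module.End.mul_apply β,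
            (hβc h⁻¹).eq, Module.End.mul_apply, ← Module.End.mul_apply (σB h), ← map_mul, mul_inv_cancel,
            map_one, Module.End.one_apply]
      choose x hx hxπ using hterm
      obtain ⟨l, hl⟩ := hFB v v.2
      have : v' = (↑u⁻¹ : R) • ∑ h, x h + ⟨(X - 1) l, sub_one_mem_aug hX l⟩ := Subtype.ext (by
        rw [hv']
        push_cast
        rw [hl]
        simp [hx, f, LinearMap.sum_apply])
      rw [this, map_add, (hB.ker ⟨_, _⟩).2 ⟨l, rfl⟩, add_zero, map_smul, map_sum,
        Finset.sum_congr rfl fun h _ => hxπ h, Finset.sum_const, Finset.card_univ, ← Nat.card_eq_fintype_card, hscal]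
    set Qk := Q.map (algebraMap R k) with hQk
    have hrootA : ∀ j, Qk.IsRoot (c (Fin.castAdd sB j)) := by
      intro j
      obtain ⟨a, ha⟩ : ∃ a, PA j a ≠ 0 := by
        by_contra h; push Not at h
        exact (hPA6 j).1 (LinearMap.ext h)
      obtain ⟨v, hv⟩ := hA.surj (PA j a)
      obtain ⟨v', hv', hπv'⟩ := aeval_intertwine (fixM X) πA F α hFfix hFα (Q ^ t) v
      obtain ⟨l', hl'⟩ := hFp (v : L)
      have hl'fix : l' ∈ fixM X := mem_fixM.2 (smul_p_cancel (R := R) hp0 (by
        rw [← map_smul, ← hl', ← hv', mem_fixM.1 v'.2]))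
      have h0 : πA v' = 0 := by
        rw [show v' = (p : R) • (⟨l', hl'fix⟩ : fixM X) from Subtype.ext (hv'.trans hl'), map_smul]
        exact hpA _
      have hαv : α (PA j a) = c (Fin.castAdd sB j) • PA j a := by
        rw [LinearMap.sum_apply, Finset.sum_eq_single j]
        · rw [LinearMap.smul_apply, ← Module.End.mul_apply, (hPA2 j).eq]
        · intro i _ hij
          rw [LinearMap.smul_apply, ← Module.End.mul_apply, hPA3 i j hij, LinearMap.zero_apply, smul_zero]
        · simp
      rw [hπv', hv, aeval_apply_eigen α hαv, smul_eq_zero, Polynomial.map_pow, eval_pow] at h0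
      exact eq_zero_of_pow_eq_zero (h0.resolve_right ha)
    have hrootB : ∀ j, Qk.IsRoot (c (Fin.natAdd sA j)) := by
      intro j
      obtain ⟨a, ha⟩ : ∃ a, PB j a ≠ 0 := by
        by_contra h; push Not at h
        exact (hPB6 j).1 (LinearMap.ext h)
      obtain ⟨v, hv⟩ := hB.surj (PB j a)
      obtain ⟨v', hv', hπv'⟩ := aeval_intertwine (augM p X) πB F β hFaug hFβ (Q ^ t) v
      obtain ⟨l', hl'⟩ := hFp (v : L)
      have hl'aug : l' ∈ augM p X := mem_augM.2 (smul_p_cancel (R := R) hp0 (by
        rw [smul_zero, ← map_smul, ← hl', ← hv', mem_augM.1 v'.2]))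
      have h0 : πB v' = 0 := by
        rw [show v' = (p : R) • (⟨l', hl'aug⟩ : augM p X) from Subtype.ext (hv'.trans hl'), map_smul]
        exact hpB _
      have hβv : β (PB j a) = c (Fin.natAdd sA j) • PB j a := by
        rw [LinearMap.sum_apply, Finset.sum_eq_single j]
        · rw [LinearMap.smul_apply, ← Module.End.mul_apply, (hPB2 j).eq]
        · intro i _ hij
          rw [LinearMap.smul_apply, ← Module.End.mul_apply, hPB3 i j hij, LinearMap.zero_apply, smul_zero]
        · simp
      rw [hπv', hv, aeval_apply_eigen β hβv, smul_eq_zero, Polynomial.map_pow, eval_pow] at h0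
      exact eq_zero_of_pow_eq_zero (h0.resolve_right ha)
    have hne : Qk ≠ 0 := (hQm.map _).ne_zero
    calc sA + sB = (Finset.univ.map c).card := by simp
      _ ≤ Qk.roots.toFinset.card := Finset.card_le_card (by
          intro x hx
          obtain ⟨i, -, rfl⟩ := Finset.mem_map.1 hx
          rw [Multiset.mem_toFinset, mem_roots hne]
          exact Fin.addCases hrootA hrootB i)
      _ ≤ Qk.roots.card := Multiset.toFinset_card_le _
      _ ≤ Qk.natDegree := card_roots' _
      _ = n := by rw [hQk, hQm.natDegree_map, hQn]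
  -- the dimensions
  let e : O → Module.End R L := fun o => ∑ h, ε o h • ρ h
  let eA : O → Module.End k A := fun o => ∑ h, algebraMap R k (ε o h) • σA h
  let eB : O → Module.End k B := fun o => ∑ h, algebraMap R k (ε o h) • σB h
  have hTe : ∀ o l, normOp p X (e o l) = e o (normOp p X l) := fun o l => by
    rw [← Module.End.mul_apply, ← Module.End.mul_apply]
    exact LinearMap.congr_fun (Commute.sum_left _ _ _ fun i _ => (heX o).symm.pow_left i : Commute (normOp p X) (e o)).eq l
  have hefix : ∀ o, ∀ v ∈ fixM X, e o v ∈ fixM X := fun o v hv => mem_fixM.2 (by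
    rw [← Module.End.mul_apply, ← (heX o).eq, Module.End.mul_apply, mem_fixM.1 hv])
  have heaug : ∀ o, ∀ v ∈ augM p X, e o v ∈ augM p X := fun o v hv => mem_augM.2 (by
    rw [hTe, mem_augM.1 hv, map_zero])
  have heA : ∀ o (v : fixM X), eA o (πA v) = πA ⟨e o v, hefix o v v.2⟩ := by
    intro o v
    have h1 : (⟨e o v, hefix o v v.2⟩ : fixM X) = ∑ h, ε o h • ⟨ρ h v, hfixρ h v v.2⟩ :=
      Subtype.ext (by simp [e, LinearMap.sum_apply])
    rw [h1, map_sum, LinearMap.sum_apply]
    exact Finset.sum_congr rfl fun h _ => by rw [map_smul, LinearMap.smul_apply, algebraMap_smul_A]; rfl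
  have heB : ∀ o (v : augM p X), eB o (πB v) = πB ⟨e o v, heaug o v v.2⟩ := by
    intro o v
    have h1 : (⟨e o v, heaug o v v.2⟩ : augM p X) = ∑ h, ε o h • ⟨ρ h v, haugρ h v v.2⟩ :=
      Subtype.ext (by simp [e, LinearMap.sum_apply])
    rw [h1, map_sum, LinearMap.sum_apply]
    exact Finset.sum_congr rfl fun h _ => by rw [map_smul, LinearMap.smul_apply, algebraMap_smul_A]; rfl
  have heAI : ∀ o, IsIdempotentElem (eA o) := fun o => LinearMap.ext fun a => by
    obtain ⟨v, rfl⟩ := hA.surj a
    rw [Module.End.mul_apply, heA, heA]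
    exact congrArg πA (Subtype.ext (LinearMap.congr_fun (heI o) v))
  have heBI : ∀ o, IsIdempotentElem (eB o) := fun o => LinearMap.ext fun a => by
    obtain ⟨v, rfl⟩ := hB.surj a
    rw [Module.End.mul_apply, heB, heB]
    exact congrArg πB (Subtype.ext (LinearMap.congr_fun (heI o) v))
  have heAO : ∀ o o', o ≠ o' → eA o * eA o' = 0 := fun o o' hoo => LinearMap.ext fun a => by
    obtain ⟨v, rfl⟩ := hA.surj a
    rw [Module.End.mul_apply, heA, heA, LinearMap.zero_apply, ← map_zero πA]
    exact congrArg πA (Subtype.ext (LinearMap.congr_fun (heO o o' hoo) v))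
  have heBO : ∀ o o', o ≠ o' → eB o * eB o' = 0 := fun o o' hoo => LinearMap.ext fun a => by
    obtain ⟨v, rfl⟩ := hB.surj a
    rw [Module.End.mul_apply, heB, heB, LinearMap.zero_apply, ← map_zero πB]
    exact congrArg πB (Subtype.ext (LinearMap.congr_fun (heO o o' hoo) v))
  have heAc : ∀ o g, Commute (eA o) (σA g) := fun o g => LinearMap.ext fun a => by
    obtain ⟨v, rfl⟩ := hA.surj a
    rw [Module.End.mul_apply, Module.End.mul_apply, heA,
      show σA g (πA v) = πA ⟨ρ g v, hfixρ g v v.2⟩ from rfl, heA]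
    exact congrArg πA (Subtype.ext (LinearMap.congr_fun (heρ o g).eq v))
  have heBc : ∀ o g, Commute (eB o) (σB g) := fun o g => LinearMap.ext fun a => by
    obtain ⟨v, rfl⟩ := hB.surj a
    rw [Module.End.mul_apply, Module.End.mul_apply, heB,
      show σB g (πB v) = πB ⟨ρ g v, haugρ g v v.2⟩ from rfl, heB]
    exact congrArg πB (Subtype.ext (LinearMap.congr_fun (heρ o g).eq v))
  choose SA hSA hSAle using fun o => finrank_range_le σA PA hPA1 hPA6 hPA4 _ (heAI o) (heAc o) (w o) (hw o)
  choose SB hSB hSBle using fun o => finrank_range_le σB PB hPB1 hPB6 hPB4 _ (heBI o) (heBc o) (w o) (hw o)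
  have hdimo : ∀ o, (z o * (w o : ℤ)) = (Module.finrank k (LinearMap.range (eA o)) : ℤ) -
      (Module.finrank k (LinearMap.range (eB o)) : ℤ) := by
    intro o
    let Lo : Submodule R L := LinearMap.range (e o)
    haveI : IsNoetherian R L := isNoetherian_of_isNoetherianRing_of_finite R L
    have hLo : ∀ v ∈ Lo, e o v = v := by rintro _ ⟨v, rfl⟩; exact LinearMap.congr_fun (heI o) v
    have hXLo : ∀ v ∈ Lo, X v ∈ Lo := by
      rintro _ ⟨v, rfl⟩; exact ⟨X v, LinearMap.congr_fun (heX o).eq v⟩
    let Xo : Module.End R Lo := X.restrict hXLo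
    have hpow : ∀ (i : ℕ) (v : Lo), ((Xo ^ i) v : L) = (X ^ i) (v : L) := by
      intro i
      induction i with
      | zero => intro v; rfl
      | succ i ih => intro v; rw [pow_succ', pow_succ', Module.End.mul_apply, Module.End.mul_apply, ← ih]; rfl
    have hXo : Xo ^ p = 1 := LinearMap.ext fun v => Subtype.ext (by rw [hpow, hX]; rfl)
    have hnorm : ∀ v : Lo, (normOp p Xo v : L) = normOp p X (v : L) := fun v => by
      simp [normOp, LinearMap.sum_apply, hpow]
    let πAo : fixM Xo →ₗ[R] LinearMap.range (eA o) :=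
      LinearMap.codRestrict ((LinearMap.range (eA o)).restrictScalars R)
        (πA.comp ((Lo.subtype.comp (fixM Xo).subtype).codRestrict (fixM X) fun v =>
          mem_fixM.2 (congrArg Subtype.val (mem_fixM.1 v.2) : _)))
        fun v => ⟨πA ⟨((v : Lo) : L), mem_fixM.2 (congrArg Subtype.val (mem_fixM.1 v.2) : _)⟩, by
          rw [heA]; exact congrArg πA (Subtype.ext (hLo _ (v : Lo).2))⟩
    let πBo : augM p Xo →ₗ[R] LinearMap.range (eB o) :=
      LinearMap.codRestrict ((LinearMap.range (eB o)).restrictScalars R)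
        (πB.comp ((Lo.subtype.comp (augM p Xo).subtype).codRestrict (augM p X) fun v =>
          mem_augM.2 (by rw [LinearMap.comp_apply, Submodule.subtype_apply, Submodule.subtype_apply, ← hnorm, mem_augM.1 v.2]; rfl)))
        fun v => ⟨πB ⟨((v : Lo) : L), mem_augM.2 (by rw [← hnorm, mem_augM.1 v.2]; rfl)⟩, by
          rw [heB]; exact congrArg πB (Subtype.ext (hLo _ (v : Lo).2))⟩
    have hAo : IsTateA p Xo πAo := by
      constructor
      · rintro ⟨_, a, rfl⟩
        obtain ⟨v, rfl⟩ := hA.surj a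
        refine ⟨⟨⟨e o v, v, rfl⟩, mem_fixM.2 (Subtype.ext (mem_fixM.1 (hefix o v v.2)))⟩, Subtype.ext ?_⟩
        exact (heA o v).symm
      · intro v
        refine Iff.trans Subtype.ext_iff ((hA.ker _).trans ⟨?_, ?_⟩)
        · rintro ⟨l, hl⟩
          refine ⟨⟨e o l, l, rfl⟩, Subtype.ext ?_⟩
          rw [hnorm]
          show normOp p X (e o l) = ((v : Lo) : L)
          rw [hTe, hl]
          exact hLo _ (v : Lo).2
        · rintro ⟨l, hl⟩
          exact ⟨(l : L), by rw [← hnorm, hl]; rfl⟩
    have hBo : IsTateB p Xo πBo := by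
      constructor
      · rintro ⟨_, a, rfl⟩
        obtain ⟨v, rfl⟩ := hB.surj a
        refine ⟨⟨⟨e o v, v, rfl⟩, mem_augM.2 (Subtype.ext (by rw [hnorm]; exact mem_augM.1 (heaug o v v.2)))⟩,
          Subtype.ext ?_⟩
        exact (heB o v).symm
      · intro v
        refine Iff.trans Subtype.ext_iff ((hB.ker _).trans ⟨?_, ?_⟩)
        · rintro ⟨l, hl⟩
          refine ⟨⟨e o l, l, rfl⟩, Subtype.ext ?_⟩
          have h1 : e o ((X - 1) l) = (X - 1) (e o l) :=
            LinearMap.congr_fun ((heX o).sub_right (Commute.one_right _)).eq l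
          show (X - 1) (e o l) = ((v : Lo) : L)
          rw [← h1, hl]
          exact hLo _ (v : Lo).2
        · rintro ⟨l, hl⟩
          exact ⟨(l : L), congrArg Subtype.val hl⟩
    have htr : ∀ i, 0 < i → i < p → LinearMap.trace R Lo (Xo ^ i) = ((z o * (w o : ℤ) : ℤ) : R) := by
      intro i hi hip
      rw [← hz o i hi hip]
      let g : L →ₗ[R] Lo := (e o).rangeRestrict
      rw [show Xo ^ i = g.comp ((X ^ i).comp Lo.subtype) from LinearMap.ext fun v => Subtype.ext (by
        show ((Xo ^ i) v : L) = e o ((X ^ i) (v : L))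
        rw [hpow, ← Module.End.mul_apply, ((heX o).pow_right i).eq, Module.End.mul_apply, hLo _ v.2]),
        LinearMap.trace_comp_comm', LinearMap.comp_assoc, LinearMap.trace_mul_comm R (∑ h, ε o h • ρ h) (X ^ i)]
      rfl
    have h := trace_eq_dim_sub hk hXo hp hAo hBo htr
    exact_mod_cast h
  have hsum : ∀ (s : ℕ) (S : O → Finset (Fin s)), (∀ o o', o ≠ o' → Disjoint (S o) (S o')) →
      ∑ o, (S o).card ≤ s := by
    intro s S hS
    rw [← Finset.card_biUnion (fun o _ o' _ h => hS o o' h)]
    exact (Finset.card_le_univ _).trans (by simp)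
  have hdA : ∀ o o', o ≠ o' → Disjoint (SA o) (SA o') := fun o o' hoo => by
    rw [Finset.disjoint_left]
    intro j hj hj'
    refine (hPA6 j).1 ?_
    rw [← hSA o j hj, ← hSA o' j hj', ← mul_assoc]
    show eA o * eA o' * PA j = 0
    rw [heAO o o' hoo, zero_mul]
  have hdB : ∀ o o', o ≠ o' → Disjoint (SB o) (SB o') := fun o o' hoo => by
    rw [Finset.disjoint_left]
    intro j hj hj'
    refine (hPB6 j).1 ?_
    rw [← hSB o j hj, ← hSB o' j hj', ← mul_assoc]
    show eB o * eB o' * PB j = 0
    rw [heBO o o' hoo, zero_mul]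
  have hfinal : ∀ o, |z o| ≤ ((SA o).card : ℤ) + (SB o).card := by
    intro o
    have h1 : (Module.finrank k (LinearMap.range (eA o)) : ℤ) ≤ (w o : ℤ) * (SA o).card := by exact_mod_cast hSAle o
    have h2 : (Module.finrank k (LinearMap.range (eB o)) : ℤ) ≤ (w o : ℤ) * (SB o).card := by exact_mod_cast hSBle o
    have h3 := hdimo o
    have hw' : (0 : ℤ) < w o := by exact_mod_cast hw0 o
    refine le_of_mul_le_mul_right ?_ hw'
    rw [← abs_of_pos hw', ← abs_mul, abs_le, abs_of_pos hw']
    constructor <;> nlinarith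
  calc ∑ o, |z o| ≤ ∑ o, (((SA o).card : ℤ) + (SB o).card) := Finset.sum_le_sum fun o _ => hfinal o
    _ ≤ (n : ℤ) := by
      rw [Finset.sum_add_distrib]
      have e1 : ∑ o, ((SA o).card : ℤ) ≤ sA := by exact_mod_cast hsum _ SA hdA
      have e2 : ∑ o, ((SB o).card : ℤ) ≤ sB := by exact_mod_cast hsum _ SB hdB
      have e3 : (sA : ℤ) + sB ≤ n := by exact_mod_cast hcount
      linarith

end CfsgLib.DefectOne
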