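import Cfsg.Agent.DefectOne.Bridge
import Cfsg.Agent.Clifford.Ito

/-!
# The number of characters of degree prime to `p`
-/

set_option autoImplicit false
set_option linter.style.haveILetI false
set_option linter.unusedSectionVars false

namespace CfsgLib.DefectOne

open Cfsg CfsgLib.CharBasics CfsgLib.Blocks
open scoped ComplexConjugate

universe u

namespace Data

variable {G : Type u} [Group G] [Fintype G] {p : ℕ} [Fact p.Prime] (D : Data G p)

/-- The contribution of a character of `V`. -/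
noncomputable def wt (φ : IrrCharacter D.V) : ℕ :=
  Nat.card (Clifford.inertia (G := D.H) (φ : D.V → ℂ)) *
    (Nat.card (Clifford.inertia (G := D.H) (φ : D.V → ℂ)) / Nat.card D.V +
      (p - 1) / (Nat.card (Clifford.inertia (G := D.H) (φ : D.V → ℂ)) / Nat.card D.V))

theorem card_mul_H {M : Ideal AlgInt} (hM : IsPModular p M) :
    Nat.card {χ : IrrCharacter G // ¬ p ∣ charDegree (χ : G → ℂ)} * Nat.card D.H =
      ∑ φ : IrrCharacter D.V, D.wt φ := by
  classical
  haveI : Fintype (IrrCharacter G) := Fintype.ofFinite _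
  calc _ = ∑ χ : IrrCharacter G, ∑ φ : IrrCharacter D.V,
        (if χ ∈ D.blk φ then Nat.card (Clifford.inertia (G := D.H) (φ : D.V → ℂ)) else 0) := by
        rw [Nat.card_eq_fintype_card, Fintype.card_subtype, Finset.card_filter, Finset.sum_mul]
        refine Finset.sum_congr rfl fun χ _ => ?_
        by_cases h : ¬ p ∣ charDegree (χ : G → ℂ)
        · obtain ⟨φ₀, h₀⟩ := (D.dvd_deg_iff hM χ).1 h
          rw [if_pos h, one_mul, ← Finset.sum_filter,
            show (Finset.univ.filter fun φ => χ ∈ D.blk φ) = D.orb φ₀ from by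
              ext φ
              simp only [Finset.mem_filter, Finset.mem_univ, true_and]
              exact ⟨fun h1 => D.mem_orb_of_mem_blk hM h₀ h1, fun h1 => by rwa [D.blk_orb h1]⟩,
            Finset.sum_congr rfl (g := fun _ => Nat.card (Clifford.inertia (G := D.H) (φ₀ : D.V → ℂ))) (fun φ hφ => ?_),
            Finset.sum_const, smul_eq_mul, D.card_orb, Subgroup.index_mul_card]
          have h1 := Subgroup.index_mul_card (Clifford.inertia (G := D.H) (φ : D.V → ℂ))
          rw [← D.card_orb, D.orb_eq_of_mem hφ, D.card_orb,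
            ← Subgroup.index_mul_card (Clifford.inertia (G := D.H) (φ₀ : D.V → ℂ))] at h1
          exact Nat.eq_of_mul_eq_mul_left (Nat.pos_of_ne_zero Subgroup.index_ne_zero_of_finite) h1
        · rw [if_neg h, zero_mul]
          refine (Finset.sum_eq_zero fun φ _ => if_neg fun hφ => h ?_).symm
          exact D.not_dvd_deg_blk hM hφ
    _ = _ := by
        rw [Finset.sum_comm]
        refine Finset.sum_congr rfl fun φ _ => ?_
        rw [← Finset.sum_filter, Finset.sum_const, smul_eq_mul, ← Fintype.card_subtype, ← Nat.card_eq_fintype_card]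
        have h1 : Nat.card {χ : IrrCharacter G // χ ∈ D.blk φ} = Nat.card (D.U φ) + (p - 1) / Nat.card (D.U φ) := by
          rw [← D.index_eq]; exact D.card_blk hM φ
        rw [h1, wt, D.card_inertia, Nat.mul_div_cancel_left _ Nat.card_pos]
        ring

/-- The normaliser of the Sylow subgroup. -/
abbrev Nx : Subgroup G := Subgroup.normalizer (Subgroup.zpowers D.x : Set G)

theorem H_le_Nx : D.H ≤ D.Nx := fun h hh => (normalizer_iff_zpowers D.x h).2 (D.hHN h hh)

theorem x_mem_Nx : D.x ∈ D.Nx := Subgroup.le_normalizer (Subgroup.mem_zpowers D.x)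

theorem mem_zpowers_lift {a : D.Nx} :
    a ∈ Subgroup.zpowers (⟨D.x, D.x_mem_Nx⟩ : D.Nx) ↔ (a : G) ∈ Subgroup.zpowers D.x := by
  simp only [Subgroup.mem_zpowers_iff]
  exact ⟨fun ⟨k, hk⟩ => ⟨k, by rw [← hk]; rfl⟩, fun ⟨k, hk⟩ => ⟨k, Subtype.ext hk⟩⟩

/-- The same data inside the normaliser. -/
noncomputable def restrictN : Data D.Nx p where
  x := ⟨D.x, D.x_mem_Nx⟩
  H := D.H.subgroupOf D.Nx
  hp := D.hp
  hx := by rw [Subgroup.orderOf_mk, D.hx]
  hHp := by rw [Nat.card_congr (Subgroup.subgroupOfEquivOfLe D.H_le_Nx).toEquiv]; exact D.hHp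
  hHN h hh := D.mem_zpowers_lift.2 (D.hHN _ hh)
  hN g hg := by
    obtain ⟨a, ha, h, hh, he⟩ := D.hN g (D.mem_zpowers_lift.1 hg)
    exact ⟨⟨a, Subgroup.le_normalizer ha⟩, D.mem_zpowers_lift.2 ha, ⟨h, D.H_le_Nx hh⟩, hh, Subtype.ext he⟩
  hSyl hd := D.hSyl (hd.trans (Subgroup.card_subgroup_dvd_card D.Nx))

/-- The complements agree. -/
noncomputable def eH : D.restrictN.H ≃* D.H := Subgroup.subgroupOfEquivOfLe D.H_le_Nx

theorem eH_mem_V (h : D.restrictN.H) : h ∈ D.restrictN.V ↔ D.eH h ∈ D.V := by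
  rw [mem_V, mem_V]
  constructor
  · intro hc; exact congrArg Subtype.val hc
  · intro hc; exact Subtype.ext hc

/-- The centralisers in the complements agree. -/
noncomputable def eV : D.restrictN.V ≃* D.V where
  toFun v := ⟨D.eH v, (D.eH_mem_V _).1 v.2⟩
  invFun v := ⟨D.eH.symm v, (D.eH_mem_V _).2 (by rw [MulEquiv.apply_symm_apply]; exact v.2)⟩
  left_inv v := Subtype.ext (D.eH.symm_apply_apply _)
  right_inv v := Subtype.ext (D.eH.apply_symm_apply _)
  map_mul' a b := Subtype.ext (map_mul D.eH _ _)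

/-- Pulling back the characters of `V`. -/
noncomputable def pull : IrrCharacter D.V ≃ IrrCharacter D.restrictN.V where
  toFun φ := ⟨fun v => (φ : D.V → ℂ) (D.eV v),
    Clifford.isIrrCharacter_comp φ.2 D.eV.toMonoidHom D.eV.surjective⟩
  invFun φ := ⟨fun v => (φ : D.restrictN.V → ℂ) (D.eV.symm v),
    Clifford.isIrrCharacter_comp φ.2 D.eV.symm.toMonoidHom D.eV.symm.surjective⟩
  left_inv φ := Subtype.ext (funext fun v => congrArg (φ : D.V → ℂ) (D.eV.apply_symm_apply v))
  right_inv φ := Subtype.ext (funext fun v => congrArg (φ : D.restrictN.V → ℂ) (D.eV.symm_apply_apply v))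

theorem wt_pull (φ : IrrCharacter D.V) : D.restrictN.wt (D.pull φ) = D.wt φ := by
  have h1 : Nat.card D.restrictN.V = Nat.card D.V := Nat.card_congr D.eV.toEquiv
  have key : ∀ h : D.restrictN.H,
      h ∈ Clifford.inertia (G := D.restrictN.H) (D.pull φ : D.restrictN.V → ℂ) ↔
        D.eH h ∈ Clifford.inertia (G := D.H) (φ : D.V → ℂ) := by
    intro h
    rw [Clifford.mem_inertia, Clifford.mem_inertia]
    constructor
    · intro hh
      funext v
      obtain ⟨w, rfl⟩ := D.eV.surjective v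
      refine Eq.trans ?_ (congrFun hh w)
      exact congrArg (φ : D.V → ℂ) (Subtype.ext (Subtype.ext rfl))
    · intro hh
      funext w
      refine Eq.trans ?_ (congrFun hh (D.eV w))
      exact congrArg (φ : D.V → ℂ) (Subtype.ext (Subtype.ext rfl))
  have h2 : Nat.card (Clifford.inertia (G := D.restrictN.H) (D.pull φ : D.restrictN.V → ℂ)) =
      Nat.card (Clifford.inertia (G := D.H) (φ : D.V → ℂ)) :=
    Nat.card_congr (D.eH.toEquiv.subtypeEquiv key)
  rw [wt, wt, h1, h2]

theorem not_dvd_deg_Nx (χ : IrrCharacter D.Nx) : ¬ p ∣ charDegree (χ : D.Nx → ℂ) := by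
  set P : Subgroup D.Nx := Subgroup.zpowers (⟨D.x, D.x_mem_Nx⟩ : D.Nx)
  haveI : P.Normal := ⟨fun a ha g => D.mem_zpowers_lift.2
    ((Subgroup.mem_normalizer_iff.1 g.2 a).1 (D.mem_zpowers_lift.1 ha))⟩
  haveI : IsMulCommutative P := ⟨⟨fun a b => by
    obtain ⟨i, hi⟩ := Subgroup.mem_zpowers_iff.1 a.2
    obtain ⟨j, hj⟩ := Subgroup.mem_zpowers_iff.1 b.2
    refine Subtype.ext ?_
    rw [Subgroup.coe_mul, Subgroup.coe_mul, ← hi, ← hj]
    exact (Commute.zpow_zpow_self _ _ _).eq⟩⟩
  intro hd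
  refine D.hHp (hd.trans ((Clifford.ito_dvd χ.2 P).trans (dvd_of_eq ?_)))
  have h1 := Subgroup.index_mul_card P
  rw [Nat.card_zpowers, Subgroup.orderOf_mk, D.hx, D.card_normalizer, mul_comm p] at h1
  exact Nat.eq_of_mul_eq_mul_right D.hp.pos h1

theorem count_eq {M : Ideal AlgInt} (hM : IsPModular p M) :
    Nat.card {χ : IrrCharacter G // ¬ p ∣ charDegree (χ : G → ℂ)} = Nat.card (ConjClasses D.Nx) := by
  classical
  haveI : Fintype D.Nx := Fintype.ofFinite _
  rw [← card_irr]
  refine Nat.eq_of_mul_eq_mul_right (Nat.card_pos (α := D.H)) ?_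
  rw [D.card_mul_H hM, ← Nat.card_congr D.eH.toEquiv,
    ← Nat.card_congr (Equiv.subtypeUnivEquiv D.not_dvd_deg_Nx), D.restrictN.card_mul_H hM]
  exact Fintype.sum_equiv D.pull _ _ fun φ => (D.wt_pull φ).symm

end Data

end CfsgLib.DefectOne
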