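import Mathlib
import Cfsg.Agent.Clifford.Extend
import Cfsg.Agent.Clifford.InertiaAbelian
import Cfsg.Agent.Clifford.Correspondence

/-!
# Restriction along a cyclic quotient is multiplicity free
-/

set_option autoImplicit false
set_option linter.style.haveILetI false

namespace CfsgLib.DefectOne

open CfsgLib CfsgLib.CharBasics CfsgLib.Clifford

/-- Over a normal subgroup with cyclic quotient every constituent has multiplicity one. -/
theorem mult_eq_one_of_cyclic {G : Type*} [Group G] [Fintype G] {N : Subgroup G} [N.Normal] [Fintype N]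
    (hcyc : IsCyclic (G ⧸ N)) {χ : G → ℂ} (hχ : Cfsg.IsIrrCharacter G χ) {θ : N → ℂ}
    (hθ : Cfsg.IsIrrCharacter N θ) (hne : Cfsg.classInner (fun n : N => χ n) θ ≠ 0) :
    Cfsg.classInner (fun n : N => χ n) θ = 1 := by
  classical
  set T := inertia θ with hT
  have hNT : N ≤ T := le_inertia (isClassFunction (isCharacter_of_irr hθ))
  obtain ⟨β, hβ, -, hβ1, -⟩ := exists_inertia_correspondent hχ hθ hne T hT hNT
  let eN : N.subgroupOf T ≃* N := Subgroup.subgroupOfEquivOfLe hNT
  set θ' : N.subgroupOf T → ℂ := fun m => θ (eN m) with hθ'def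
  have hθ' : Cfsg.IsIrrCharacter (N.subgroupOf T) θ' :=
    CfsgLib.Clifford.isIrrCharacter_comp hθ eN.toMonoidHom eN.surjective
  have hinv : ∀ g : T, conjFun g θ' = θ' := fun g => funext fun m => congrFun g.2 (eN m)
  haveI hcyc' : IsCyclic (T ⧸ N.subgroupOf T) := by
    refine isCyclic_of_injective (QuotientGroup.map (N.subgroupOf T) N T.subtype fun x hx => hx) ?_
    rw [← MonoidHom.ker_eq_bot_iff, eq_bot_iff]
    intro y hy
    induction y using QuotientGroup.induction_on with
    | _ t =>
      have hy : ((t : G) : G ⧸ N) = 1 := hy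
      rw [QuotientGroup.eq_one_iff] at hy
      exact (QuotientGroup.eq_one_iff t).2 hy
  have hab : ∀ x y : T, x * y * x⁻¹ * y⁻¹ ∈ N.subgroupOf T := by
    intro x y
    rw [← QuotientGroup.eq_one_iff]
    letI : CommGroup (T ⧸ N.subgroupOf T) := IsCyclic.commGroup
    simp only [QuotientGroup.mk_mul, QuotientGroup.mk_inv]
    rw [mul_right_comm (x : T ⧸ N.subgroupOf T), mul_inv_cancel, one_mul, mul_inv_cancel]
  obtain ⟨e, C, he, hC, -, -, hres, hmem⟩ := indFun_invariant_abelian hθ' hinv hab
  -- an extension has `e = 1`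
  obtain ⟨m, σ, hσ, hσχ⟩ := hθ'
  obtain ⟨ρ, hρ, hρres⟩ := exists_extension_of_cyclic hcyc' hσ (fun g n => by
    rw [hσχ]
    exact congrFun (hinv g) n)
  have hext : Cfsg.IsIrrCharacter T ρ.character := ⟨m, ρ, hρ, rfl⟩
  have hres' : (fun n : N.subgroupOf T => ρ.character (n : T)) = θ' := by
    funext n
    rw [← hσχ]
    show LinearMap.trace ℂ _ (ρ (n : T)) = LinearMap.trace ℂ _ (σ n)
    rw [hρres]
  have hθirr : Cfsg.IsIrrCharacter (N.subgroupOf T) θ' := ⟨m, σ, hσ, hσχ⟩
  have h1 : ρ.character ∈ C := hmem _ hext (by rw [hres', classInner_self hθirr]; exact one_ne_zero)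
  have he1 : (e : ℂ) = 1 := by
    have h2 := congrFun ((hres _ h1).symm.trans hres') 1
    simp only [Pi.smul_apply, smul_eq_mul] at h2
    exact mul_right_cancel₀ (apply_one_ne_zero hθirr) (by rw [one_mul]; exact h2)
  have hβC : β ∈ C := by
    refine hmem _ hβ ?_
    rw [show Cfsg.classInner (fun n : N.subgroupOf T => β n) θ' =
      Cfsg.classInner (fun n : N => β ⟨(n : G), hNT n.2⟩) θ from
      classInner_comp_equiv eN (fun n : N => β ⟨(n : G), hNT n.2⟩) θ, hβ1]
    exact hne
  have hb := hres _ hβC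
  rw [← hβ1, show Cfsg.classInner (fun n : N => β ⟨(n : G), hNT n.2⟩) θ =
    Cfsg.classInner (fun n : N.subgroupOf T => β n) θ' from
    (classInner_comp_equiv eN (fun n : N => β ⟨(n : G), hNT n.2⟩) θ).symm, hb, classInner_smul_left,
    classInner_self hθirr, he1, mul_one]

end CfsgLib.DefectOne
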