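import Mathlib
import Cfsg.Agent.Blocks.Residue
import Cfsg.Agent.DefectOne.Congr
import Cfsg.Agent.DefectOne.Spectrum

/-!
# A polynomial of small degree annihilating an element modulo `p`

For a family of irreducible characters `θ q` of one degree `n` whose values are one polynomial over the unramified
field evaluated at primitive `p`-th roots of unity, an element `r` of the group algebra that is integral on the
sum of their idempotents satisfies, modulo the local ideal, the `t`-th power of one monic polynomial of degree `n`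
over the unramified ring, `t` being the size of the family.
-/

set_option autoImplicit false
set_option linter.style.haveILetI false

namespace CfsgLib.DefectOne

open Cfsg CfsgLib.Blocks Polynomial
open scoped ComplexConjugate

variable {p : ℕ} {M : Ideal AlgInt}

/-- A root of a monic polynomial over the unramified ring is a local integer. -/
theorem memLocalRing_of_root (hM : IsPModular p M) {P : (uRing hM)[X]} (hP : P.Monic) {l : ℂ}
    (hl : P.eval₂ (uRing hM).subtype l = 0) : MemLocalRing M l := by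
  classical
  obtain ⟨b, hbM, hb⟩ : ∃ b : AlgInt, b ∉ M ∧ ∀ i, IsIntegral ℤ ((b : ℂ) * (P.coeff i : ℂ)) := by
    choose a b hbM hab using fun i => memLocalRing_uRing (P.coeff i).2
    refine ⟨∏ i ∈ Finset.range (P.natDegree + 1), b i, ?_, fun i => ?_⟩
    · intro h
      haveI := isPrime_of_modular hM
      obtain ⟨i, -, hi⟩ := Ideal.IsPrime.prod_mem_iff.1 h
      exact hbM i hi
    · by_cases hi : i ∈ Finset.range (P.natDegree + 1)
      · rw [← hab i, ← Finset.mul_prod_erase _ b hi]
        push_cast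
        have := algInt_coe_ne_zero (hbM i)
        rw [show (b i : ℂ) * (∏ x ∈ (Finset.range (P.natDegree + 1)).erase i, (b x : ℂ)) * ((a i : ℂ) / (b i : ℂ)) =
          (a i : ℂ) * ∏ x ∈ (Finset.range (P.natDegree + 1)).erase i, (b x : ℂ) by field_simp]
        exact (a i).2.mul (IsIntegral.prod _ fun x _ => (b x).2)
      · rw [coeff_eq_zero_of_natDegree_lt (by simpa using hi)]
        simpa using isIntegral_zero
  have hb0 := algInt_coe_ne_zero hbM
  refine ⟨⟨(b : ℂ) * l, ?_⟩, b, hbM, by field_simp⟩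
  -- the scaled polynomial
  have hmon : (scaleRoots (P.map (uRing hM).subtype) (b : ℂ)).Monic :=
    (monic_scaleRoots_iff _).2 (hP.map _)
  have hroot : (scaleRoots (P.map (uRing hM).subtype) (b : ℂ)).eval ((b : ℂ) * l) = 0 := by
    have := scaleRoots_eval₂_mul (p := P.map (uRing hM).subtype) (RingHom.id ℂ) l (b : ℂ)
    rw [RingHom.id_apply, eval₂_id, eval₂_id, ← eval₂_eq_eval_map, hl, mul_zero] at this
    exact this
  have hco : ∀ i, IsIntegral ℤ ((scaleRoots (P.map (uRing hM).subtype) (b : ℂ)).coeff i) := by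
    intro i
    rw [coeff_scaleRoots, coeff_map, natDegree_map_eq_of_injective Subtype.val_injective]
    rcases Nat.eq_zero_or_pos (P.natDegree - i) with h0 | h0
    · rw [h0, pow_zero, mul_one]
      by_cases hi : P.natDegree = i
      · subst hi
        rw [hP.coeff_natDegree, map_one]
        exact isIntegral_one
      · rw [coeff_eq_zero_of_natDegree_lt (by omega), map_zero]
        exact isIntegral_zero
    · obtain ⟨m, hm⟩ := Nat.exists_eq_add_of_le h0
      rw [hm, pow_add, pow_one, ← mul_assoc, mul_comm ((uRing hM).subtype (P.coeff i))]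
      exact (hb i).mul (b.2.pow m)
  obtain ⟨Q, hQ, -, hQm⟩ : ∃ Q : AlgInt[X], Q.map (AlgInt.val : AlgInt →+* ℂ) =
      scaleRoots (P.map (uRing hM).subtype) (b : ℂ) ∧ Q.degree = _ ∧ Q.Monic := by
    refine lifts_and_degree_eq_and_monic ((lifts_iff_coeff_lifts _).2 fun i => ⟨⟨_, hco i⟩, rfl⟩) hmon
  refine isIntegral_trans (R := ℤ) (A := AlgInt) _ ⟨Q, hQm, ?_⟩
  rw [eval₂_eq_eval_map]
  exact (congrArg (Polynomial.eval _) hQ).trans hroot

variable {G : Type*} [Group G] [Fintype G]

/-- Elements with coefficients in a subfield are closed under multiplication. -/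
theorem coeff_mul_mem {F : Subfield ℂ} {z w : MonoidAlgebra ℂ G} (hz : ∀ g, z.coeff g ∈ F)
    (hw : ∀ g, w.coeff g ∈ F) (g : G) : (z * w).coeff g ∈ F := by
  rw [coeff_mul_eq]
  exact sum_mem fun h _ => mul_mem (hz h) (hw _)

theorem coeff_pow_mem {F : Subfield ℂ} {z : MonoidAlgebra ℂ G} (hz : ∀ g, z.coeff g ∈ F) (j : ℕ) :
    ∀ g, (z ^ j).coeff g ∈ F := by
  induction j with
  | zero =>
    intro g
    classical
    rw [pow_zero, MonoidAlgebra.one_def, MonoidAlgebra.coeff_single, Finsupp.single_apply]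
    split_ifs
    · exact one_mem _
    · exact zero_mem _
  | succ j ih => rw [pow_succ]; exact coeff_mul_mem ih hz

variable {ι : Type*} [Fintype ι]

/-- The families given by one polynomial over the unramified field at the chosen roots of unity. -/
def polyFam (p : ℕ) (ζ : ι → ℂ) : Subring (ι → ℂ) where
  carrier := {v | ∃ C : (uField p)[X], ∀ q, v q = C.eval₂ (uField p).subtype (ζ q)}
  zero_mem' := ⟨0, fun q => by simp⟩
  one_mem' := ⟨1, fun q => by simp⟩
  add_mem' := by
    rintro v w ⟨C, hC⟩ ⟨D, hD⟩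
    exact ⟨C + D, fun q => by simp [eval₂_add, hC, hD]⟩
  neg_mem' := by
    rintro v ⟨C, hC⟩
    exact ⟨-C, fun q => by simp [eval₂_neg, hC]⟩
  mul_mem' := by
    rintro v w ⟨C, hC⟩ ⟨D, hD⟩
    exact ⟨C * D, fun q => by simp [eval₂_mul, hC, hD]⟩

/-- The main lemma on a family. -/
theorem exists_family_poly (hM : IsPModular p M) [Nonempty ι] (θ : ι → IrrCharacter G) (n : ℕ)
    (hn : ∀ q, (θ q : G → ℂ) 1 = n) (ζ : ι → ℂ) (hζ : ∀ q, IsPrimitiveRoot (ζ q) p)
    (hval : ∀ g, (fun q => (θ q : G → ℂ) g) ∈ polyFam p ζ)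
    (r : MonoidAlgebra ℂ G) (hr : ∀ g, r.coeff g ∈ uField p) (P : (uRing hM)[X]) (hP : P.Monic)
    (hPr : aeval r (P.map (uRing hM).subtype) * blockElt (Set.range θ) = 0) :
    ∃ (Q : (uRing hM)[X]) (D : ℂ[X]), Q.Monic ∧ Q.natDegree = n ∧ (∀ i, MemLocalIdeal M (D.coeff i)) ∧
      ((aeval r (Q.map (uRing hM).subtype)) ^ Fintype.card ι + aeval r D) * blockElt (Set.range θ) = 0 := by
  classical
  haveI : Fintype (IrrCharacter G) := @Fintype.ofFinite _ CharBasics.finite_irrCharacter
  -- representations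
  have hrep : ∀ q, ∃ ρ : Representation ℂ G (Fin n → ℂ), ρ.IsIrreducible ∧ ρ.character = (θ q : G → ℂ) := by
    intro q
    obtain ⟨m, ρ, hρ, hχ⟩ := (θ q).2
    have h1 := hn q
    rw [← hχ, Representation.char_one, Module.finrank_fin_fun] at h1
    obtain rfl : m = n := by exact_mod_cast h1
    exact ⟨ρ, hρ, hχ⟩
  choose ρ hρ hρχ using hrep
  let φ : ι → MonoidAlgebra ℂ G →ₐ[ℂ] Matrix (Fin n) (Fin n) ℂ := fun q =>
    (LinearMap.toMatrixAlgEquiv' : Module.End ℂ (Fin n → ℂ) ≃ₐ[ℂ] _).toAlgHom.comp (ρ q).asAlgebraHom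
  have hφ1 : ∀ q g, φ q (MonoidAlgebra.single g 1) = LinearMap.toMatrixAlgEquiv' (ρ q g) := fun q g => by
    simp [φ, Representation.asAlgebraHom_single]
  have hexp : ∀ (q : ι) (z : MonoidAlgebra ℂ G), φ q z = ∑ g, z.coeff g • φ q (MonoidAlgebra.single g 1) := by
    intro q z
    conv_lhs => rw [← single_sum_eq z, map_sum]
    refine Finset.sum_congr rfl fun g _ => ?_
    rw [← map_smul]
    congr 1
    simp [MonoidAlgebra.smul_single]
  have htr1 : ∀ q g, (φ q (MonoidAlgebra.single g 1)).trace = (θ q : G → ℂ) g := fun q g => by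
    rw [hφ1, ← hρχ q, Representation.character, LinearMap.trace_eq_matrix_trace ℂ (Pi.basisFun ℂ (Fin n)),
      LinearMap.toMatrix_eq_toMatrix']
    rfl
  have htr : ∀ (q : ι) (z : MonoidAlgebra ℂ G), (φ q z).trace = ∑ g, z.coeff g * (θ q : G → ℂ) g := fun q z => by
    rw [hexp, Matrix.trace_sum]
    exact Finset.sum_congr rfl fun g _ => by rw [Matrix.trace_smul, htr1, smul_eq_mul]
  set e := blockElt (Set.range θ) with he
  have hφe : ∀ q, φ q e = 1 := by
    intro q
    haveI := hρ q
    obtain ⟨c, hc, hc2⟩ := CharBasics.commute_eq_scalar (ρ q) ((ρ q).asAlgebraHom e) (fun g => by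
      rw [← Module.End.mul_eq_comp, ← Module.End.mul_eq_comp, ← Representation.asAlgebraHom_single_one,
        ← map_mul, ← map_mul, ((isClassElt_blockElt _).commute _).eq])
    have h1 : φ q e = LinearMap.toMatrixAlgEquiv' ((ρ q).asAlgebraHom e) := rfl
    have hne : (n : ℂ) ≠ 0 := hn q ▸ CharBasics.apply_one_ne_zero (θ q).2
    have h2 : c * n = n := by
      rw [← hc2, LinearMap.trace_eq_matrix_trace ℂ (Pi.basisFun ℂ (Fin n))]
      have h3 := htr q e
      rw [h1] at h3
      rw [LinearMap.toMatrix_eq_toMatrix']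
      refine Eq.trans h3 ?_
      have h4 := omega_blockElt (Set.range θ) (θ q)
      rw [if_pos ⟨q, rfl⟩, omega, hn, div_eq_one_iff_eq hne] at h4
      exact h4
    rw [h1, hc, show c = 1 by
      apply mul_right_cancel₀ hne
      rw [h2, one_mul], one_smul]
    exact map_one _
  let A : ι → Matrix (Fin n) (Fin n) ℂ := fun q => φ q r
  have hroots : ∀ q, ∀ l ∈ (A q).charpoly.roots, MemLocalRing M l := by
    intro q l hl
    have h0 : aeval (A q) (P.map (uRing hM).subtype) = 0 := by
      have := congrArg (φ q) hPr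
      rw [map_mul, hφe, mul_one, map_zero, ← aeval_algHom_apply] at this
      exact this
    refine memLocalRing_of_root hM hP ?_
    have hs : l ∈ spectrum ℂ (A q) :=
      Matrix.mem_spectrum_iff_isRoot_charpoly.2 (isRoot_of_mem_roots hl)
    have h2 := spectrum.subset_polynomial_aeval (A q) (P.map (uRing hM).subtype) ⟨l, hs, rfl⟩
    rw [h0] at h2
    have : (P.map (uRing hM).subtype).eval l = 0 := by
      by_contra hne
      rw [spectrum.mem_iff, sub_zero] at h2
      exact h2 ((IsUnit.mk0 _ hne).map _)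
    rwa [eval₂_eq_eval_map]
  have hlift : ∀ q, ∃ C : (localRing hM)[X], C.map (localRing hM).subtype = (A q).charpoly ∧ C.Monic := by
    intro q
    have : (A q).charpoly ∈ lifts (localRing hM).subtype := by
      rw [(IsAlgClosed.splits _).eq_prod_roots_of_monic (A q).charpoly_monic]
      refine Submonoid.multiset_prod_mem _ _ fun f hf => ?_
      obtain ⟨l, hl, rfl⟩ := Multiset.mem_map.1 hf
      exact ⟨X - C (⟨l, hroots q l hl⟩ : localRing hM), by simp⟩
    obtain ⟨C, h1, -, h2⟩ := lifts_and_degree_eq_and_monic this (A q).charpoly_monic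
    exact ⟨C, h1, h2⟩
  choose CP hCP hCPm using hlift
  -- congruence of the coefficients
  have hmem : ∀ i, (fun q => (A q).charpoly.coeff i) ∈ polyFam p ζ := by
    refine coeff_charpoly_mem A _ ?_ ?_
    · rintro v ⟨C₀, hC₀⟩ m hm
      exact ⟨C₀ * Polynomial.C ((m : uField p)⁻¹), fun q => by
        show v q / (m : ℂ) = _
        rw [hC₀, eval₂_mul, eval₂_C, map_inv₀, map_natCast, div_eq_mul_inv]⟩
    · intro j hj
      have hh : (fun q => (A q ^ j).trace) = ∑ g, fun q => (r ^ j).coeff g * (θ q : G → ℂ) g := by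
        funext q
        rw [Finset.sum_apply, ← htr, map_pow]
      rw [hh]
      refine Subring.sum_mem _ fun g _ => ?_
      obtain ⟨C₀, hC₀⟩ := hval g
      exact ⟨Polynomial.C (⟨_, coeff_pow_mem hr j g⟩ : uField p) * C₀, fun q => by
        rw [eval₂_mul, eval₂_C, ← hC₀]; rfl⟩
  obtain ⟨q₀⟩ := ‹Nonempty ι›
  have hs : ∀ i, ∃ s : uRing hM, ∀ q, MemLocalIdeal M ((A q).charpoly.coeff i - (s : ℂ)) := by
    intro i
    obtain ⟨C₀, hC₀⟩ := hmem i
    obtain ⟨s, hs⟩ := exists_congr hM C₀ (hζ q₀) (by
      rw [← hC₀ q₀]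
      simp only [← hCP q₀, coeff_map]
      exact ((CP q₀).coeff i).2)
    exact ⟨s, fun q => by rw [show (A q).charpoly.coeff i = _ from hC₀ q]; exact hs _ (hζ q)⟩
  choose s hs using hs
  let Q : (uRing hM)[X] := X ^ n + ∑ i ∈ Finset.range n, Polynomial.C (s i) * X ^ i
  have hQd : (∑ i ∈ Finset.range n, Polynomial.C (s i) * X ^ i).degree < (n : WithBot ℕ) := by
    refine lt_of_le_of_lt (degree_sum_le _ _) ((Finset.sup_lt_iff (WithBot.bot_lt_coe n)).2 fun i hi => ?_)
    exact lt_of_le_of_lt (degree_C_mul_X_pow_le _ _) (WithBot.coe_lt_coe.2 (Finset.mem_range.1 hi))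
  have hQm : Q.Monic := monic_X_pow_add hQd
  have hQn : Q.natDegree = n := by
    rw [natDegree_eq_of_degree_eq_some]
    rw [degree_add_eq_left_of_degree_lt (by rw [degree_X_pow]; exact hQd), degree_X_pow]
  let Ql : (localRing hM)[X] := Q.map (Subring.inclusion (fun z hz => memLocalRing_uRing (hM := hM) hz))
  have hQl : Ql.map (localRing hM).subtype = Q.map (uRing hM).subtype := by
    rw [Polynomial.map_map]; rfl
  letI := residueField hM
  let π := Ideal.Quotient.mk (localIdeal hM)
  have hcongr : ∀ q, (CP q).map π = Ql.map π := by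
    intro q
    ext i
    rw [coeff_map, coeff_map, Ideal.Quotient.eq, mem_localIdeal]
    have h1 : ((CP q).coeff i : ℂ) = (A q).charpoly.coeff i := by rw [← hCP q, coeff_map]; rfl
    rw [AddSubgroupClass.coe_sub, h1]
    rw [show (Ql.coeff i : ℂ) = (Q.coeff i : ℂ) by rw [coeff_map]; rfl]
    by_cases hi : i < n
    · have : Q.coeff i = s i := by
        simp [Q, coeff_X_pow, hi.ne, Finset.mem_range, hi]
      rw [this]
      exact hs i q
    · push Not at hi
      have hdeg : (A q).charpoly.natDegree = n := by rw [Matrix.charpoly_natDegree_eq_dim, Fintype.card_fin]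
      rcases hi.eq_or_lt with heq | hlt
      · rw [show (A q).charpoly.coeff i = 1 by
            rw [show i = (A q).charpoly.natDegree by omega]; exact (A q).charpoly_monic.coeff_natDegree,
          show Q.coeff i = 1 by rw [show i = Q.natDegree by omega]; exact hQm.coeff_natDegree]
        simpa using memLocalIdeal_zero hM
      · rw [coeff_eq_zero_of_natDegree_lt (p := (A q).charpoly) (by omega),
          coeff_eq_zero_of_natDegree_lt (p := Q) (by omega)]
        simpa using memLocalIdeal_zero hM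
  let Dl : (localRing hM)[X] := ∏ q, CP q - Ql ^ Fintype.card ι
  refine ⟨Q, Dl.map (localRing hM).subtype, hQm, hQn, fun i => ?_, ?_⟩
  · rw [coeff_map]
    refine (mem_localIdeal hM).1 (Ideal.Quotient.eq_zero_iff_mem.1 ?_)
    have h0 : Dl.map π = 0 := by
      simp [Dl, Polynomial.map_prod, hcongr, Finset.card_univ]
    rw [← coeff_map, h0, coeff_zero]
  · rw [Polynomial.map_sub, Polynomial.map_pow, Polynomial.map_prod, hQl, map_sub, map_pow, add_sub_cancel]
    set z := aeval r (∏ q, (CP q).map (localRing hM).subtype) with hz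
    have hz0 : ∀ q, φ q z = 0 := by
      intro q
      rw [hz, ← aeval_algHom_apply, ← Finset.mul_prod_erase _ _ (Finset.mem_univ q), map_mul, hCP]
      rw [show aeval (φ q r) (A q).charpoly = 0 from Matrix.aeval_self_charpoly _, zero_mul]
    ext a
    rw [coeff_mul_eq, MonoidAlgebra.coeff_zero, Finsupp.coe_zero, Pi.zero_apply]
    simp only [he, coeff_blockElt, blockCoeff_eq, Finset.mul_sum]
    rw [Finset.sum_comm]
    refine Finset.sum_eq_zero fun χ _ => ?_
    split_ifs with hχ
    · obtain ⟨q, rfl⟩ := hχ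
      have h := congrArg (fun T => (φ q (MonoidAlgebra.single a⁻¹ 1) * T).trace) (hz0 q)
      simp only [mul_zero, Matrix.trace_zero] at h
      rw [hexp q z, Finset.mul_sum, Matrix.trace_sum] at h
      have h5 : ∀ g : G, (φ q (MonoidAlgebra.single a⁻¹ 1) * (z.coeff g • φ q (MonoidAlgebra.single g 1))).trace =
          z.coeff g * (θ q : G → ℂ) (a⁻¹ * g) := by
        intro g
        rw [mul_smul_comm, Matrix.trace_smul, ← map_mul, MonoidAlgebra.single_mul_single, one_mul, htr1, smul_eq_mul]
      rw [Finset.sum_congr rfl fun g _ => h5 g] at h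
      calc _ = (Nat.card G : ℂ)⁻¹ * (θ q : G → ℂ) 1 * ∑ g, z.coeff g * (θ q : G → ℂ) (a⁻¹ * g) := by
            rw [Finset.mul_sum]
            refine Finset.sum_congr rfl fun g _ => ?_
            rw [← CharBasics.apply_inv (CharBasics.isCharacter_of_irr (θ q).2), mul_inv_rev, inv_inv]
            ring
        _ = 0 := by rw [h, mul_zero]
    · simp

end CfsgLib.DefectOne
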