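import Mathlib
import Cfsg.Agent.DefectOne.Count
import Cfsg.Agent.DefectOne.FamilyPoly

/-!
# The bound for a family of irreducible characters

`x` has order `p` and `H` is a complement to `⟨x⟩` in its normaliser, of order prime to `p`.  The lattice spanned
by the translates of the idempotent of a family of characters has at most `n` simple summands in its Tate
modules, `n` being the common degree.
-/

set_option autoImplicit false
set_option linter.style.haveILetI false
set_option linter.unusedSectionVars false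

namespace CfsgLib.DefectOne

open Cfsg CfsgLib.Blocks Polynomial

universe u

variable {p : ℕ} {M : Ideal AlgInt}

theorem residual_uRing (hM : IsPModular p M) : Residual (uRing hM) (Res hM) p := by
  constructor
  · exact Ideal.Quotient.mk_surjective
  · intro r
    show Ideal.Quotient.mk _ r = 0 ↔ _
    rw [Ideal.Quotient.eq_zero_iff_mem, Ideal.mem_span_singleton]

theorem isUnit_natCast_uRing (hM : IsPModular p M) {m : ℕ} (hm : ¬ p ∣ m) : IsUnit (m : uRing hM) := by
  rw [isUnit_iff]
  push_cast
  rwa [memLocalIdeal_natCast_iff hM]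

theorem coeff_ringSMul (hM : IsPModular p M) {G : Type u} (c : uRing hM) (z : MonoidAlgebra ℂ G) (g : G) :
    (c • z).coeff g = (c : ℂ) * z.coeff g := by
  rw [← IsScalarTower.algebraMap_smul ℂ c z, MonoidAlgebra.coeff_smul, Finsupp.smul_apply, smul_eq_mul]
  rfl

variable {G : Type u} [Group G] [Fintype G] {ι : Type*} [Fintype ι]

theorem coeff_familyElt (θ : ι → IrrCharacter G) (hinj : Function.Injective θ) (n : ℕ)
    (hn : ∀ q, (θ q : G → ℂ) 1 = n) (g : G) :
    (blockElt (Set.range θ)).coeff g = (Nat.card G : ℂ)⁻¹ * (n : ℂ) * ∑ q, (θ q : G → ℂ) g⁻¹ := by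
  classical
  haveI : Fintype (IrrCharacter G) := @Fintype.ofFinite _ CharBasics.finite_irrCharacter
  rw [coeff_blockElt, blockCoeff_eq, mul_assoc]
  congr 1
  rw [← Finset.sum_filter, Finset.mul_sum]
  rw [show Finset.univ.filter (fun χ => χ ∈ Set.range θ) = Finset.univ.image θ by ext; simp,
    Finset.sum_image fun a _ b _ h => hinj h]
  exact Finset.sum_congr rfl fun q _ => by
    rw [hn, CharBasics.apply_inv (CharBasics.isCharacter_of_irr (θ q).2)]

set_option maxHeartbeats 1600000 in
/-- The bound. -/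
theorem family_bound (hM : IsPModular p M) {x : G} (hx : orderOf x = p) (H : Subgroup G) [Fintype H]
    (hHp : ¬ p ∣ Nat.card H) (hHx : ∀ h ∈ H, ∃ i : ℕ, x * h = h * x ^ i)
    (hN : ∀ g : G, g * x * g⁻¹ ∈ Subgroup.zpowers x → ∃ a ∈ Subgroup.zpowers x, ∃ h ∈ H, g = a * h)
    [Nonempty ι] (θ : ι → IrrCharacter G) (hinj : Function.Injective θ) (n : ℕ)
    (hn : ∀ q, (θ q : G → ℂ) 1 = n) (ζ : ι → ℂ) (hζ : ∀ q, IsPrimitiveRoot (ζ q) p)
    (hval : ∀ g, (fun q => (θ q : G → ℂ) g) ∈ polyFam p ζ) (hK : ∀ g, ∑ q, (θ q : G → ℂ) g ∈ uField p)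
    {O : Type*} [Fintype O] (ε : O → H → uRing hM) (hεc : ∀ o, IsClassFunction H (fun h => (ε o h : ℂ)))
    (hεx : ∀ o h, ε o h ≠ 0 → Commute (h : G) x)
    (hεI : ∀ o b, ∑ a, ε o a * ε o (a⁻¹ * b) = ε o b)
    (hεO : ∀ o o', o ≠ o' → ∀ b, ∑ a, ε o a * ε o' (a⁻¹ * b) = 0)
    (w : O → ℕ) (hw0 : ∀ o, 0 < w o)
    (hw : ∀ o, ∀ {W : Type u} [AddCommGroup W] [Module (Res hM) W] [FiniteDimensional (Res hM) W]
      (τ : Representation (Res hM) H W),
      τ.IsIrreducible → (∑ h, algebraMap (uRing hM) (Res hM) (ε o h) • τ h) ≠ 0 →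
        Module.finrank (Res hM) W ≤ w o)
    (z : O → ℤ) (hz : ∀ o i, 0 < i → i < p →
      (n : ℂ) * ∑ h : H, (ε o h : ℂ) * ∑ q, (θ q : G → ℂ) ((h : G) * x ^ i) = (z o : ℂ) * (w o : ℂ)) :
    ∑ o, |z o| ≤ (n : ℤ) := by
  classical
  haveI := Fact.mk hM.1
  set e := blockElt (Set.range θ) with he
  have hcl : IsClassElt e := isClassElt_blockElt _
  have hee : e * e = e := isIdempotentElem_blockElt _
  have hecoeff := coeff_familyElt θ hinj n hn
  have heK : ∀ g, e.coeff g ∈ uField p := fun g => by
    rw [he, hecoeff]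
    exact mul_mem (mul_mem (inv_mem (natCast_mem _ _)) (natCast_mem _ _)) (hK _)
  let R := uRing hM
  let vv : G → MonoidAlgebra ℂ G := fun g => MonoidAlgebra.single g 1 * e
  let L : Submodule R (MonoidAlgebra ℂ G) := Submodule.span R (Set.range vv)
  haveI : Module.Finite R L := Module.Finite.span_of_finite R (Set.finite_range vv)
  haveI : Module.IsTorsionFree R (MonoidAlgebra ℂ G) := Module.IsTorsionFree.trans_faithfulSMul R ℂ _
  haveI : Module.Free R L := Module.free_of_finite_type_torsion_free'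
  have hLe : ∀ l ∈ L, l * e = l := by
    intro l hl
    induction hl using Submodule.span_induction with
    | mem y hy => obtain ⟨g, rfl⟩ := hy; simp only [vv, mul_assoc, hee]
    | zero => simp
    | add a b _ _ iha ihb => rw [add_mul, iha, ihb]
    | smul c a _ ih => rw [smul_mul_assoc, ih]
  have hLK : ∀ l ∈ L, ∀ g, l.coeff g ∈ uField p := by
    intro l hl
    induction hl using Submodule.span_induction with
    | mem y hy =>
      obtain ⟨a, rfl⟩ := hy
      intro g
      simp only [vv, MonoidAlgebra.coeff_single_mul_apply, one_mul]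
      exact heK _
    | zero => intro g; rw [MonoidAlgebra.coeff_zero]; exact zero_mem _
    | add a b _ _ iha ihb => intro g; rw [MonoidAlgebra.coeff_add, Finsupp.add_apply]; exact add_mem (iha g) (ihb g)
    | smul c a _ ih => intro g; rw [coeff_ringSMul]; exact mul_mem (uRing_le_uField c.2) (ih g)
  have hmulL : ∀ (a : G), ∀ l ∈ L, MonoidAlgebra.single a 1 * l ∈ L := by
    intro a l hl
    induction hl using Submodule.span_induction with
    | mem y hy =>
      obtain ⟨g, rfl⟩ := hy
      simp only [vv, ← mul_assoc, MonoidAlgebra.single_mul_single, one_mul]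
      exact Submodule.subset_span ⟨a * g, rfl⟩
    | zero => simp
    | add a b _ _ iha ihb => rw [mul_add]; exact add_mem iha ihb
    | smul c a _ ih => rw [mul_smul_comm]; exact Submodule.smul_mem _ _ ih
  let ρG : G →* Module.End R L :=
    { toFun := fun a =>
        { toFun := fun l => ⟨MonoidAlgebra.single a 1 * (l : MonoidAlgebra ℂ G), hmulL a l l.2⟩
          map_add' := fun l l' => Subtype.ext (by simp [mul_add])
          map_smul' := fun c l => Subtype.ext (by simp [mul_smul_comm]) }
      map_one' := LinearMap.ext fun l => Subtype.ext (by simp [← MonoidAlgebra.one_def])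
      map_mul' := fun a b => LinearMap.ext fun l => Subtype.ext (by
        simp [← mul_assoc, MonoidAlgebra.single_mul_single]) }
  have hρGv : ∀ a (l : L), ((ρG a l : L) : MonoidAlgebra ℂ G) = MonoidAlgebra.single a 1 * (l : MonoidAlgebra ℂ G) :=
    fun a l => rfl
  -- the coordinates
  obtain ⟨v, hv⟩ : ∃ v : ℕ, ∀ g, (p : ℂ) ^ v * e.coeff g ∈ uRing hM := by
    choose f hf using fun g => exists_pow_mul_mem hM (heK g)
    refine ⟨∑ g, f g, fun g => ?_⟩
    obtain ⟨d, hd⟩ := Nat.exists_eq_add_of_le
      (Finset.single_le_sum (fun j _ => Nat.zero_le (f j)) (Finset.mem_univ g) : f g ≤ ∑ j, f j)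
    rw [hd, pow_add, mul_comm ((p : ℂ) ^ f g), mul_assoc]
    exact mul_mem (pow_mem (natCast_mem _ p) d) (hf g)
  have hLv : ∀ l ∈ L, ∀ g, (p : ℂ) ^ v * l.coeff g ∈ uRing hM := by
    intro l hl
    induction hl using Submodule.span_induction with
    | mem y hy =>
      obtain ⟨a, rfl⟩ := hy
      intro g
      simp only [vv, MonoidAlgebra.coeff_single_mul_apply, one_mul]
      exact hv _
    | zero => intro g; simp [zero_mem]
    | add a b _ _ iha ihb =>
      intro g; rw [MonoidAlgebra.coeff_add, Finsupp.add_apply, mul_add]; exact add_mem (iha g) (ihb g)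
    | smul c a _ ih => intro g; rw [coeff_ringSMul, mul_left_comm]; exact mul_mem c.2 (ih g)
  let toFun' : L →ₗ[R] (G → R) :=
    { toFun := fun l g => ⟨_, hLv l l.2 g⟩
      map_add' := fun l l' => funext fun g => Subtype.ext (by simp [mul_add])
      map_smul' := fun c l => funext fun g => Subtype.ext (by
        show (p : ℂ) ^ v * ((c • (l : MonoidAlgebra ℂ G)).coeff g) = (c : ℂ) * ((p : ℂ) ^ v * _)
        rw [coeff_ringSMul]; ring) }
  let vg : G → L := fun g => ⟨vv g, Submodule.subset_span ⟨g, rfl⟩⟩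
  let Pr : (G → R) →ₗ[R] L := Fintype.linearCombination R vg
  have hPr : ∀ l : L, Pr (toFun' l) = ((p : R) ^ v) • l := by
    intro l
    apply Subtype.ext
    rw [Fintype.linearCombination_apply]
    push_cast
    conv_rhs => rw [← hLe _ l.2, ← single_sum_eq (l : MonoidAlgebra ℂ G), Finset.sum_mul, Finset.smul_sum]
    refine Finset.sum_congr rfl fun g _ => ?_
    ext a
    rw [coeff_ringSMul]
    show (p : ℂ) ^ v * (l : MonoidAlgebra ℂ G).coeff g * (MonoidAlgebra.single g 1 * e).coeff a = _
    erw [coeff_ringSMul]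
    simp only [MonoidAlgebra.coeff_single_mul_apply]
    push_cast
    ring
  -- traces
  have htr : ∀ (z₀ : MonoidAlgebra ℂ G) (Z : Module.End R L),
      (∀ l : L, ((Z l : L) : MonoidAlgebra ℂ G) = z₀ * (l : MonoidAlgebra ℂ G)) →
      (LinearMap.trace R L Z : ℂ) = (n : ℂ) * ∑ a, z₀.coeff a * ∑ q, (θ q : G → ℂ) a := by
    intro z₀ Z hZ
    have h1 : LinearMap.trace R L (((p : R) ^ v) • Z) = ∑ g, toFun' (Z (vg g)) g := by
      rw [show ((p : R) ^ v) • Z = Pr.comp (toFun'.comp Z) from LinearMap.ext fun l => (hPr (Z l)).symm,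
        LinearMap.trace_comp_comm', LinearMap.trace_eq_matrix_trace R (Pi.basisFun R G),
        LinearMap.toMatrix_eq_toMatrix', Matrix.trace]
      refine Finset.sum_congr rfl fun g _ => ?_
      rw [Matrix.diag_apply, LinearMap.toMatrix'_apply, LinearMap.comp_apply, LinearMap.comp_apply]
      congr 3
      rw [Fintype.linearCombination_apply, Finset.sum_eq_single g]
      · simp
      · intro b _ hb; simp [Pi.single_eq_of_ne hb]
      · simp
    rw [map_smul, smul_eq_mul] at h1
    have h2 := congrArg Subtype.val h1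
    push_cast at h2
    have hterm : ∀ g : G, ((toFun' (Z (vg g)) g : R) : ℂ) = (p : ℂ) ^ v * (z₀ * e).coeff 1 := by
      intro g
      show (p : ℂ) ^ v * ((Z (vg g) : L) : MonoidAlgebra ℂ G).coeff g = _
      rw [hZ]
      simp only [vg, vv]
      rw [show MonoidAlgebra.single g 1 * e = e * MonoidAlgebra.single g 1 from (hcl.commute _).eq.symm,
        ← mul_assoc, MonoidAlgebra.coeff_mul_single_apply, mul_inv_cancel, mul_one]
    simp only [hterm, Finset.sum_const, Finset.card_univ, nsmul_eq_mul] at h2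
    apply mul_left_cancel₀ (pow_ne_zero v (Nat.cast_ne_zero.2 hM.1.ne_zero) : (p : ℂ) ^ v ≠ 0)
    rw [h2, coeff_mul_eq, ← Nat.card_eq_fintype_card]
    simp only [he, hecoeff, mul_one, inv_inv, Finset.mul_sum]
    refine Finset.sum_congr rfl fun a _ => Finset.sum_congr rfl fun q _ => ?_
    have : (Nat.card G : ℂ) ≠ 0 := Nat.cast_ne_zero.2 Nat.card_pos.ne'
    field_simp
  -- the operators
  set X : Module.End R L := ρG x with hXdef
  have hX : X ^ p = 1 := by rw [hXdef, ← map_pow, ← hx, pow_orderOf_eq_one, map_one]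
  let ρ : H →* Module.End R L := ρG.comp H.subtype
  have hρ : ∀ h, ∃ i, X * ρ h = ρ h * X ^ i := by
    intro h
    obtain ⟨i, hi⟩ := hHx h h.2
    exact ⟨i, by rw [hXdef, ← map_pow]; exact (map_mul ρG _ _).symm.trans ((congrArg ρG hi).trans (map_mul ρG _ _))⟩
  set N := Subgroup.normalizer (Subgroup.zpowers x : Set G) with hNdef
  have hxN : x ∈ N := Subgroup.le_normalizer (Subgroup.mem_zpowers x)
  have hNmem : ∀ g ∈ N, g * x * g⁻¹ ∈ Subgroup.zpowers x := fun g hg =>
    ((Subgroup.mem_normalizer_iff.1 hg) x).1 (Subgroup.mem_zpowers x)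
  have hHN : ∀ h ∈ H, h ∈ N := by
    intro h hh
    rw [hNdef, Subgroup.mem_normalizer_iff]
    have h1 : ∀ h ∈ H, ∀ y ∈ Subgroup.zpowers x, h * y * h⁻¹ ∈ Subgroup.zpowers x := by
      intro h hh y hy
      obtain ⟨k, rfl⟩ := Subgroup.mem_zpowers_iff.1 hy
      obtain ⟨i, hi⟩ := hHx h⁻¹ (inv_mem hh)
      have hc : h * x * h⁻¹ = x ^ i := by
        have := congrArg (fun y => h * y) hi
        simpa [mul_assoc] using this
      rw [← conj_zpow, hc]
      exact zpow_mem (pow_mem (Subgroup.mem_zpowers x) i) k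
    refine fun y => ⟨h1 h hh y, fun hy => ?_⟩
    have := h1 h⁻¹ (inv_mem hh) _ hy
    simpa [mul_assoc] using this
  have hlift : ∀ f : Module.End R L, Commute f X → (∀ h, Commute f (ρ h)) →
      ∃ (F : Module.End R L) (Q : R[X]) (t : ℕ), Q.Monic ∧ Q.natDegree = n ∧
        (∀ u ∈ fixM X, F u - f u ∈ LinearMap.range (normOp p X)) ∧
        (∀ w ∈ augM p X, F w - f w ∈ LinearMap.range (X - 1)) ∧
        ∀ l, ∃ l', (aeval F (Q ^ t)) l = (p : R) • l' := by
    intro f hfX hfρ
    have hfN : ∀ m ∈ N, Commute f (ρG m) := by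
      intro m hm
      obtain ⟨a, ha, h, hh, rfl⟩ := hN m (hNmem m hm)
      obtain ⟨k, rfl⟩ := mem_powers_iff_mem_zpowers.2 ha
      rw [map_mul, map_pow]
      exact (hfX.pow_right k).mul_right (hfρ ⟨h, hh⟩)
    let φ : G ⧸ N → Module.End R L := fun q => ρG q.out * f * ρG q.out⁻¹
    have hφ : ∀ a q, φ (a • q) = ρG a * φ q * ρG a⁻¹ := by
      intro a q
      obtain ⟨m, hm, hout⟩ : ∃ m ∈ N, (a • q).out = a * q.out * m := by
        refine ⟨(a * q.out)⁻¹ * (a • q).out, ?_, (mul_inv_cancel_left _ _).symm⟩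
        rw [← QuotientGroup.eq, QuotientGroup.out_eq']
        conv_rhs => rw [← QuotientGroup.out_eq' q]
        rfl
      show ρG (a • q).out * f * ρG (a • q).out⁻¹ = ρG a * (ρG q.out * f * ρG q.out⁻¹) * ρG a⁻¹
      rw [hout, mul_inv_rev, mul_inv_rev]
      simp only [map_mul, mul_assoc]
      rw [← mul_assoc f (ρG m⁻¹), (hfN m⁻¹ (inv_mem hm)).eq]
      simp only [← mul_assoc]
      rw [mul_assoc _ (ρG m) (ρG m⁻¹), ← map_mul ρG m, mul_inv_cancel, map_one, mul_one]
    set F : Module.End R L := ∑ q, φ q with hF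
    have hFG : ∀ a, Commute F (ρG a) := by
      intro a
      show F * ρG a = ρG a * F
      have h1 : F = ρG a * F * ρG a⁻¹ := by
        rw [hF, Finset.mul_sum, Finset.sum_mul]
        exact (Fintype.sum_equiv (MulAction.toPerm a) _ _ fun q => (hφ a q).symm).symm
      conv_lhs => rw [h1, mul_assoc, ← map_mul, inv_mul_cancel, map_one, mul_one]
    -- Mackey
    let q₀ : G ⧸ N := ((1 : G) : G ⧸ N)
    have hφ0 : φ q₀ = f := by
      have h1 : q₀.out ∈ N := by
        have h2 := QuotientGroup.eq.1 (QuotientGroup.out_eq' q₀ : ((q₀.out : G) : G ⧸ N) = ((1 : G) : G ⧸ N))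
        simpa using h2
      show ρG q₀.out * f * ρG q₀.out⁻¹ = f
      rw [← (hfN _ h1).eq, mul_assoc, ← map_mul, mul_inv_cancel, map_one, mul_one]
    have hfree : ∀ q : G ⧸ N, q ≠ q₀ → ∀ j : ℕ, ¬ p ∣ j → x ^ j • q ≠ q := by
      intro q hq j hj heq
      induction q using QuotientGroup.induction_on with
      | _ g =>
        rw [MulAction.Quotient.smul_coe, QuotientGroup.eq, smul_eq_mul, mul_inv_rev] at heq
        have hmem : g⁻¹ * x ^ j * g ∈ N := by
          have := inv_mem heq
          simpa [mul_assoc] using this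
        -- elements of order p in the normaliser
        haveI : (Subgroup.zpowers x).subgroupOf N |>.Normal := Subgroup.normal_in_normalizer
        let π : H →* N ⧸ (Subgroup.zpowers x).subgroupOf N :=
          (QuotientGroup.mk' _).comp ((H.subtype).codRestrict N fun h => hHN h h.2)
        have hπ : Function.Surjective π := by
          intro y
          induction y using QuotientGroup.induction_on with
          | _ m =>
            obtain ⟨a, ha, h, hh, hm⟩ := hN m (hNmem m m.2)
            refine ⟨⟨h, hh⟩, ?_⟩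
            refine (QuotientGroup.eq).2 ?_
            rw [Subgroup.mem_subgroupOf]
            show h⁻¹ * (m : G) ∈ _
            rw [hm, ← mul_assoc]
            exact ((Subgroup.mem_normalizer_iff'' (g := h) (H := Subgroup.zpowers x)).1 (hHN h hh) a).1 ha
        have hcard := Subgroup.card_dvd_of_surjective π hπ
        set y : N := ⟨g⁻¹ * x ^ j * g, hmem⟩ with hy
        have hy1 : (QuotientGroup.mk y : N ⧸ (Subgroup.zpowers x).subgroupOf N) = 1 := by
          rw [← orderOf_eq_one_iff]
          refine Nat.dvd_one.1 ?_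
          have h1 : orderOf y ∣ p := by
            rw [← Subgroup.orderOf_coe, orderOf_dvd_iff_pow_eq_one, hy]
            show (g⁻¹ * x ^ j * g) ^ p = 1
            rw [show g⁻¹ * x ^ j * g = g⁻¹ * x ^ j * (g⁻¹)⁻¹ by rw [inv_inv], conj_pow, ← pow_mul, mul_comm j,
              pow_mul, ← hx, pow_orderOf_eq_one, one_pow, mul_one, mul_inv_cancel]
          have h2 := Nat.dvd_gcd ((orderOf_map_dvd (QuotientGroup.mk' ((Subgroup.zpowers x).subgroupOf N)) y).trans h1)
            ((orderOf_dvd_natCard (G := N ⧸ (Subgroup.zpowers x).subgroupOf N) _).trans hcard)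
          rwa [(hM.1.coprime_iff_not_dvd.2 hHp).gcd_eq_one] at h2
        rw [QuotientGroup.eq_one_iff, Subgroup.mem_subgroupOf] at hy1
        -- so `g` normalises
        obtain ⟨k, hk⟩ := Subgroup.mem_zpowers_iff.1 (show g⁻¹ * x ^ j * g ∈ Subgroup.zpowers x from hy1)
        obtain ⟨m, hm⟩ := exists_pow_eq_self_of_coprime (x := x) (n := j)
          (by rw [hx]; exact (hM.1.coprime_iff_not_dvd.2 hj).symm)
        have hgx : g⁻¹ * x * g ∈ Subgroup.zpowers x := by
          have h3 : g⁻¹ * x * g = (g⁻¹ * x ^ j * g) ^ m := by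
            conv_lhs => rw [← hm]
            rw [show g⁻¹ * x ^ j * g = g⁻¹ * x ^ j * (g⁻¹)⁻¹ by rw [inv_inv], conj_pow, inv_inv]
          rw [h3, ← hk]
          exact pow_mem (zpow_mem (Subgroup.mem_zpowers x) k) m
        obtain ⟨a, ha, h, hh, hg⟩ := hN g⁻¹ (by rw [inv_inv]; exact hgx)
        refine hq ((QuotientGroup.eq).2 ?_)
        rw [mul_one, hg]
        exact mul_mem (Subgroup.le_normalizer ha) (hHN h hh)
    let P := Subgroup.zpowers x
    have hmk : ∀ q : G ⧸ N, (Quotient.mk'' q : MulAction.orbitRel.Quotient P (G ⧸ N)) = Quotient.mk'' q₀ → q = q₀ := by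
      intro q hq
      obtain ⟨⟨y, hy⟩, hy'⟩ := Quotient.eq''.1 hq
      rw [← hy']
      exact (QuotientGroup.eq).2 (by simpa using Subgroup.le_normalizer hy)
    let reps : Finset (G ⧸ N) :=
      (Finset.univ.filter fun o : MulAction.orbitRel.Quotient P (G ⧸ N) => o ≠ Quotient.mk'' q₀).image Quotient.out
    have hreps : ∀ r ∈ reps, r ≠ q₀ := by
      intro r hr h
      obtain ⟨o, ho, rfl⟩ := Finset.mem_image.1 hr
      exact (Finset.mem_filter.1 ho).2 (by rw [← Quotient.out_eq' o, h])
    have hreps' : ∀ r ∈ reps, ∀ r' ∈ reps, (Quotient.mk'' r : MulAction.orbitRel.Quotient P (G ⧸ N)) =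
        Quotient.mk'' r' → r = r' := by
      intro r hr r' hr' h
      obtain ⟨o, -, rfl⟩ := Finset.mem_image.1 hr
      obtain ⟨o', -, rfl⟩ := Finset.mem_image.1 hr'
      rw [Quotient.out_eq', Quotient.out_eq'] at h
      rw [h]
    set h₀ : Module.End R L := ∑ r ∈ reps, φ r with hh₀
    have hxj : ∀ (j : ℕ), ρG (x ^ j)⁻¹ = X ^ (p * j - j) := by
      intro j
      rw [hXdef, ← map_pow]
      congr 1
      refine inv_eq_of_mul_eq_one_right ?_
      rw [← pow_add, Nat.add_sub_cancel' (Nat.le_mul_of_pos_left j hM.1.pos), pow_mul, ← hx, pow_orderOf_eq_one, one_pow]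
    have hFf : F = f + ∑ j ∈ Finset.range p, X ^ j * h₀ * X ^ (p * j - j) := by
      have h1 : F = f + ∑ q ∈ Finset.univ.erase q₀, φ q := by
        rw [hF, ← Finset.add_sum_erase _ _ (Finset.mem_univ q₀), hφ0]
      rw [h1]
      congr 1
      have h2 : ∀ j, X ^ j * h₀ * X ^ (p * j - j) = ∑ r ∈ reps, φ (x ^ j • r) := fun j => by
        rw [hh₀, Finset.mul_sum, Finset.sum_mul]
        exact Finset.sum_congr rfl fun r _ => by rw [hφ, hxj, hXdef, ← map_pow]
      simp only [h2]
      rw [← Finset.sum_product']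
      refine (Finset.sum_bij (fun jr _ => x ^ jr.1 • jr.2) ?_ ?_ ?_ fun _ _ => rfl).symm
      · rintro ⟨j, r⟩ hjr
        refine Finset.mem_erase.2 ⟨fun h => hreps r (Finset.mem_product.1 hjr).2 (hmk r ?_), Finset.mem_univ _⟩
        rw [← h]
        exact (Quotient.sound' (⟨⟨x ^ j, pow_mem (Subgroup.mem_zpowers x) j⟩, rfl⟩ :
          MulAction.orbitRel P (G ⧸ N) (x ^ j • r) r)).symm
      · rintro ⟨j, r⟩ hjr ⟨j', r'⟩ hjr' h
        obtain ⟨hj, hr⟩ := Finset.mem_product.1 hjr
        obtain ⟨hj', hr'⟩ := Finset.mem_product.1 hjr'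
        have hrr : r = r' := by
          refine hreps' r hr r' hr' (Quotient.sound' ⟨⟨(x ^ j)⁻¹ * x ^ j',
            mul_mem (inv_mem (pow_mem (Subgroup.mem_zpowers x) j)) (pow_mem (Subgroup.mem_zpowers x) j')⟩, ?_⟩)
          show ((x ^ j)⁻¹ * x ^ j') • r' = r
          rw [mul_smul, ← h, inv_smul_smul]
        subst hrr
        by_contra hne
        have hjj : j ≠ j' := fun hh => hne (by rw [hh])
        rcases Nat.lt_or_gt_of_ne hjj with hlt | hlt
        · refine hfree r (hreps r hr) (j' - j) (Nat.not_dvd_of_pos_of_lt (by omega) (by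
            have := Finset.mem_range.1 hj'; omega)) ?_
          simp only at h
          rw [show x ^ j' = x ^ j * x ^ (j' - j) by rw [← pow_add]; congr 1; omega, mul_smul] at h
          exact (MulAction.injective (x ^ j) h).symm
        · refine hfree r (hreps r hr) (j - j') (Nat.not_dvd_of_pos_of_lt (by omega) (by
            have := Finset.mem_range.1 hj; omega)) ?_
          simp only at h
          rw [show x ^ j = x ^ j' * x ^ (j - j') by rw [← pow_add]; congr 1; omega, mul_smul] at h
          exact MulAction.injective (x ^ j') h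
      · intro q hq
        set o : MulAction.orbitRel.Quotient P (G ⧸ N) := Quotient.mk'' q with ho
        have hne : o ≠ Quotient.mk'' q₀ := fun h => (Finset.mem_erase.1 hq).1 (hmk q h)
        obtain ⟨⟨y, hy⟩, hy'⟩ := Quotient.eq''.1 (ho.symm.trans (Quotient.out_eq' o).symm)
        obtain ⟨k, rfl⟩ := mem_powers_iff_mem_zpowers.2 hy
        refine ⟨(k % p, o.out), Finset.mem_product.2 ⟨Finset.mem_range.2 (Nat.mod_lt _ hM.1.pos),
          Finset.mem_image.2 ⟨o, Finset.mem_filter.2 ⟨Finset.mem_univ _, hne⟩, rfl⟩⟩, ?_⟩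
        show x ^ (k % p) • o.out = q
        rw [← hx, pow_mod_orderOf]
        exact hy'
    -- the polynomial
    have heL : e ∈ L := by
      have h1 : vv 1 = e := by simp [vv, ← MonoidAlgebra.one_def]
      exact h1 ▸ Submodule.subset_span ⟨1, rfl⟩
    set r₀ : MonoidAlgebra ℂ G := ((F ⟨e, heL⟩ : L) : MonoidAlgebra ℂ G) with hr₀
    have hFl : ∀ (m : MonoidAlgebra ℂ G) (hm : m ∈ L), ((F ⟨m, hm⟩ : L) : MonoidAlgebra ℂ G) = m * r₀ := by
      intro m hm
      induction hm using Submodule.span_induction with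
      | mem y hy =>
        obtain ⟨g, rfl⟩ := hy
        have h1 : (⟨vv g, Submodule.subset_span ⟨g, rfl⟩⟩ : L) = ρG g ⟨e, heL⟩ := rfl
        have her : e * r₀ = r₀ := by rw [(hcl.commute r₀).eq]; exact hLe _ (F ⟨e, heL⟩).2
        rw [h1, ← Module.End.mul_apply, (hFG g).eq, Module.End.mul_apply, hρGv]
        simp only [vv, mul_assoc, her]
        rfl
      | zero =>
        rw [show (⟨0, L.zero_mem⟩ : L) = 0 from rfl, map_zero, zero_mul]; rfl
      | add a b ha hb iha ihb =>
        rw [show (⟨a + b, add_mem ha hb⟩ : L) = ⟨a, ha⟩ + ⟨b, hb⟩ from rfl, map_add, Submodule.coe_add, iha, ihb,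
          add_mul]
      | smul c a ha ih =>
        rw [show (⟨c • a, L.smul_mem c ha⟩ : L) = c • ⟨a, ha⟩ from rfl, map_smul, Submodule.coe_smul, ih,
          smul_mul_assoc]
    have hFpow : ∀ (i : ℕ) (l : L), (((F ^ i) l : L) : MonoidAlgebra ℂ G) = (l : MonoidAlgebra ℂ G) * r₀ ^ i := by
      intro i
      induction i with
      | zero => intro l; simp
      | succ i ih =>
        intro l
        rw [pow_succ', Module.End.mul_apply, pow_succ, ← mul_assoc, ← ih]
        exact hFl _ _
    have hFaev : ∀ (P₀ : R[X]) (l : L), (((aeval F P₀) l : L) : MonoidAlgebra ℂ G) =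
        (l : MonoidAlgebra ℂ G) * aeval r₀ (P₀.map (uRing hM).subtype) := by
      intro P₀
      induction P₀ using Polynomial.induction_on' with
      | add P Q hP hQ => intro l; simp [hP, hQ, Polynomial.map_add, mul_add]
      | monomial m c =>
        intro l
        rw [aeval_monomial, Polynomial.map_monomial, aeval_monomial]
        simp only [Module.End.mul_apply, Module.algebraMap_end_apply, Submodule.coe_smul, hFpow]
        rw [← mul_assoc, ← (Algebra.commutes _ (l : MonoidAlgebra ℂ G)), mul_assoc, ← Algebra.smul_def,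
          ← IsScalarTower.algebraMap_smul ℂ c]
        rfl
    have hPm : aeval r₀ ((F.charpoly).map (uRing hM).subtype) * e = 0 := by
      have h1 := hFaev F.charpoly ⟨e, heL⟩
      rw [LinearMap.aeval_self_charpoly] at h1
      rw [← (hcl.commute _).eq]
      exact h1.symm
    obtain ⟨Q, D, hQm, hQn, hD, hQD⟩ := exists_family_poly hM θ n hn ζ hζ hval r₀
      (hLK _ (F ⟨e, heL⟩).2) F.charpoly (LinearMap.charpoly_monic F) hPm
    refine ⟨F, Q, Fintype.card ι, hQm, hQn, fun u hu => ?_, fun w hw' => ?_, fun l => ?_⟩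
    · rw [hFf]
      refine ⟨h₀ u, ?_⟩
      simp only [LinearMap.add_apply, add_sub_cancel_left, LinearMap.sum_apply, normOp, Module.End.mul_apply]
      exact Finset.sum_congr rfl fun j _ => by rw [pow_apply_of_fix (mem_fixM.1 hu)]
    · rw [hFf]
      simp only [LinearMap.add_apply, add_sub_cancel_left, LinearMap.sum_apply, Module.End.mul_apply]
      have h1 : ∀ (j : ℕ) (l : L), (X ^ j) l - l ∈ LinearMap.range (X - 1) := fun j l =>
        ⟨(∑ i ∈ Finset.range j, X ^ i) l, LinearMap.congr_fun (mul_geom_sum (X : Module.End R L) j) l⟩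
      have h2 : ∑ j ∈ Finset.range p, h₀ ((X ^ (p * j - j)) w) = 0 := by
        rw [← map_sum]
        have h3 : normOp p X w = ∑ j ∈ Finset.range p, (X ^ (p * j - j)) w := by
          have hmod : ∀ a, X ^ (a % p) = X ^ a := fun a => by
            conv_rhs => rw [← Nat.mod_add_div a p, pow_add, pow_mul, hX, one_pow, mul_one]
          have hinj : Set.InjOn (fun j => (p * j - j) % p) (Finset.range p : Set ℕ) := by
            intro a ha b hb hab
            have ha' := Finset.mem_range.1 ha
            have hb' := Finset.mem_range.1 hb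
            have e1 : (p * a - a + a) % p = 0 := by
              rw [Nat.sub_add_cancel (Nat.le_mul_of_pos_left a hM.1.pos)]; exact Nat.mul_mod_right p a
            have e2 : (p * b - b + b) % p = 0 := by
              rw [Nat.sub_add_cancel (Nat.le_mul_of_pos_left b hM.1.pos)]; exact Nat.mul_mod_right p b
            simp only at hab
            rw [Nat.add_mod, hab, ← e2, Nat.add_mod (p * b - b) b] at e1
            have := Nat.ModEq.add_left_cancel' ((p * b - b) % p)
              (show ((p * b - b) % p + a % p) ≡ ((p * b - b) % p + b % p) [MOD p] from e1)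
            simpa [Nat.ModEq, Nat.mod_eq_of_lt ha', Nat.mod_eq_of_lt hb'] using this
          have himg : (Finset.range p).image (fun j => (p * j - j) % p) = Finset.range p := by
            refine Finset.eq_of_subset_of_card_le (fun a ha => ?_) (by rw [Finset.card_image_of_injOn hinj])
            obtain ⟨j, -, rfl⟩ := Finset.mem_image.1 ha
            exact Finset.mem_range.2 (Nat.mod_lt _ hM.1.pos)
          rw [normOp, LinearMap.sum_apply]
          conv_lhs => rw [← himg]
          rw [Finset.sum_image hinj]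
          exact Finset.sum_congr rfl fun j _ => by rw [hmod]
        rw [← h3, mem_augM.1 hw', map_zero]
      rw [← sub_zero (∑ j ∈ _, _), ← h2, ← Finset.sum_sub_distrib]
      exact Submodule.sum_mem _ fun j _ => h1 j _
    · set y : L := (aeval F (Q ^ Fintype.card ι)) l with hy
      have hyv : (y : MonoidAlgebra ℂ G) = -((l : MonoidAlgebra ℂ G) * aeval r₀ D) := by
        rw [hy, hFaev, Polynomial.map_pow, map_pow, eq_neg_iff_add_eq_zero, ← mul_add]
        conv_lhs => rw [← hLe _ l.2, mul_assoc, (hcl.commute _).eq, hQD, mul_zero]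
      let b := Module.Free.chooseBasis R L
      have hcoord : ∀ (j) (y' : L), (p : ℂ) ^ v * (b.repr y' j : ℂ) =
          ∑ g, (p : ℂ) ^ v * (y' : MonoidAlgebra ℂ G).coeff g * (b.repr (vg g) j : ℂ) := by
        intro j y'
        have h1 := congrArg (fun m => (b.repr m j : ℂ)) (hPr y')
        simp only [map_sum, map_smul, Finsupp.smul_apply, smul_eq_mul, Finsupp.coe_finsetSum, Finset.sum_apply,
          Fintype.linearCombination_apply, Pr] at h1
        push_cast at h1
        exact h1.symm
      have hdiv : ∀ j, (p : R) ∣ b.repr y j := by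
        intro j
        rw [dvd_iff_memLocalIdeal]
        have h1 : (b.repr y j : ℂ) = -∑ i ∈ D.support, D.coeff i * (b.repr ((F ^ i) l) j : ℂ) := by
          apply mul_left_cancel₀ (pow_ne_zero v (Nat.cast_ne_zero.2 hM.1.ne_zero) : (p : ℂ) ^ v ≠ 0)
          rw [hcoord]
          rw [mul_neg, Finset.mul_sum, Finset.sum_congr rfl fun i _ => show
            (p : ℂ) ^ v * (D.coeff i * (b.repr ((F ^ i) l) j : ℂ)) =
              D.coeff i * ((p : ℂ) ^ v * (b.repr ((F ^ i) l) j : ℂ)) by ring]
          simp only [hcoord, Finset.mul_sum]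
          rw [Finset.sum_comm, ← Finset.sum_neg_distrib]
          refine Finset.sum_congr rfl fun g _ => ?_
          rw [hyv, aeval_eq_sum_range' (Nat.lt_succ_self D.natDegree), Finset.mul_sum, MonoidAlgebra.coeff_neg,
            MonoidAlgebra.coeff_sum, Finsupp.neg_apply, Finsupp.coe_finsetSum, Finset.sum_apply,
            mul_neg, neg_mul, Finset.mul_sum, Finset.sum_mul, neg_inj]
          rw [← Finset.sum_subset (s₁ := D.support) (fun i hi => Finset.mem_range.2
            (Nat.lt_succ_of_le (le_natDegree_of_ne_zero (mem_support_iff.1 hi))))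
            (fun i _ hi => by simp [notMem_support_iff.1 hi])]
          refine Finset.sum_congr rfl fun i _ => ?_
          rw [mul_smul_comm, MonoidAlgebra.coeff_smul, Finsupp.smul_apply, smul_eq_mul, hFpow]
          ring
        rw [h1]
        exact memLocalIdeal_neg (memLocalIdeal_sum hM _ fun i _ =>
          memLocalIdeal_mul_right hM (hD i) (memLocalRing_uRing (b.repr ((F ^ i) l) j).2))
      choose c hc using hdiv
      refine ⟨∑ j, c j • b j, ?_⟩
      conv_lhs => rw [← b.sum_repr y]
      rw [Finset.smul_sum]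
      exact Finset.sum_congr rfl fun j _ => by rw [smul_smul, ← hc]
  -- apply the count
  have hsum : ∀ o (l : L), (((∑ h, ε o h • ρ h) l : L) : MonoidAlgebra ℂ G) =
      (∑ h : H, MonoidAlgebra.single (h : G) (ε o h : ℂ)) * (l : MonoidAlgebra ℂ G) := by
    intro o l
    rw [LinearMap.sum_apply, AddSubmonoidClass.coe_finsetSum, Finset.sum_mul]
    refine Finset.sum_congr rfl fun h _ => ?_
    rw [LinearMap.smul_apply, Submodule.coe_smul]
    show ε o h • (MonoidAlgebra.single (h : G) 1 * (l : MonoidAlgebra ℂ G)) = _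
    rw [← smul_mul_assoc]
    congr 1
    ext a
    rw [coeff_ringSMul]
    simp only [MonoidAlgebra.coeff_single, Finsupp.single_apply]
    split_ifs <;> simp
  refine summand_bound (residual_uRing hM) hM.1 (isUnit_natCast_uRing hM hHp) X hX ρ hρ n hlift ε ?_ ?_ ?_ ?_
    w hw0 hw z ?_
  · intro o
    show (∑ h, ε o h • ρ h) * (∑ h, ε o h • ρ h) = _
    rw [Finset.sum_mul_sum]
    simp only [smul_mul_smul_comm, ← map_mul]
    calc _ = ∑ a, ∑ b, (ε o a * ε o (a⁻¹ * b)) • ρ b := Finset.sum_congr rfl fun a _ =>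
          Fintype.sum_equiv (Equiv.mulLeft a) _ _ fun b => by simp
      _ = _ := by rw [Finset.sum_comm]; exact Finset.sum_congr rfl fun b _ => by rw [← Finset.sum_smul, hεI]
  · intro o o' hoo
    rw [Finset.sum_mul_sum]
    simp only [smul_mul_smul_comm, ← map_mul]
    calc _ = ∑ a, ∑ b, (ε o a * ε o' (a⁻¹ * b)) • ρ b := Finset.sum_congr rfl fun a _ =>
          Fintype.sum_equiv (Equiv.mulLeft a) _ _ fun b => by simp
      _ = _ := by
        rw [Finset.sum_comm]
        exact Finset.sum_eq_zero fun b _ => by rw [← Finset.sum_smul, hεO o o' hoo, zero_smul]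
  · intro o
    refine Commute.sum_left _ _ _ fun h _ => ?_
    by_cases h0 : ε o h = 0
    · rw [h0, zero_smul]; exact Commute.zero_left _
    · exact (show Commute (ρ h) X from (hεx o h h0).map ρG).smul_left _
  · intro o g
    show (∑ h, ε o h • ρ h) * ρ g = ρ g * ∑ h, ε o h • ρ h
    rw [Finset.sum_mul, Finset.mul_sum]
    simp only [smul_mul_assoc, mul_smul_comm, ← map_mul]
    refine Fintype.sum_equiv ((MulAut.conj g⁻¹).toEquiv) _ _ fun h => ?_
    show ε o h • ρ (h * g) = ε o (g⁻¹ * h * g⁻¹⁻¹) • ρ (g * (g⁻¹ * h * g⁻¹⁻¹))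
    rw [show ε o (g⁻¹ * h * g⁻¹⁻¹) = ε o h from Subtype.ext (hεc o h g⁻¹), inv_inv, ← mul_assoc, ← mul_assoc,
      mul_inv_cancel, one_mul]
  · intro o i hi hip
    apply Subtype.ext
    rw [htr ((∑ h : H, MonoidAlgebra.single (h : G) (ε o h : ℂ)) * MonoidAlgebra.single (x ^ i) 1) _ fun l => by
      rw [Module.End.mul_apply, hsum, hXdef, ← map_pow, hρGv, mul_assoc]]
    push_cast
    rw [← hz o i hi hip]
    congr 1
    simp only [Finset.sum_mul, MonoidAlgebra.single_mul_single, mul_one, MonoidAlgebra.coeff_sum,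
      MonoidAlgebra.coeff_single, Finsupp.coe_finsetSum, Finset.sum_apply]
    rw [Finset.sum_comm]
    refine Finset.sum_congr rfl fun h _ => ?_
    rw [Finset.sum_eq_single ((h : G) * x ^ i)]
    · simp
    · intro b _ hb; simp [Ne.symm hb]
    · simp

end CfsgLib.DefectOne
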