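import Mathlib
import Cfsg.Agent.DefectOne.FamilyPoly

/-!
# Simple modules of a group of order prime to `p` over the residue field

A simple module is killed by all but one of the idempotents of the irreducible characters, and its dimension is at
most the degree of that character.
-/

set_option autoImplicit false
set_option linter.style.haveILetI false
set_option linter.unusedSectionVars false

namespace CfsgLib.DefectOne

open Cfsg CfsgLib.Blocks Polynomial

variable {p : ℕ} {M : Ideal AlgInt} {H : Type*} [Group H] [Fintype H]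

/-- Character values of a group of order prime to `p` lie in the unramified ring. -/
theorem apply_mem_uRing (hM : IsPModular p M) (hHp : ¬ p ∣ Nat.card H) {χ : H → ℂ} (hχ : IsCharacter H χ) (h : H) :
    χ h ∈ uRing hM := by
  obtain ⟨lam, hl, hv⟩ := CharBasics.exists_eigen hχ h
  rw [show χ h = ∑ i, lam i by simpa using hv 1]
  exact sum_mem fun i _ => root_mem_uRing hM (fun hd => hHp (hd.trans (orderOf_dvd_natCard h))) (hl i)

theorem natCast_inv_mem_uRing (hM : IsPModular p M) {m : ℕ} (hm : ¬ p ∣ m) : ((m : ℂ))⁻¹ ∈ uRing hM :=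
  mem_uRing_of_memLocalRing hM (inv_mem (natCast_mem _ _)) (memLocalRing_natCast_inv hM hm)

/-- Schur over an algebraically closed field. -/
theorem endo_scalar {k : Type*} [Field k] [IsAlgClosed k] {W : Type*} [AddCommGroup W] [Module k W]
    [FiniteDimensional k W] (τ : Representation k H W) (hτ : τ.IsIrreducible) (α : Module.End k W)
    (hα : ∀ h, Commute α (τ h)) : ∃ c : k, α = c • 1 := by
  haveI := hτ
  have hnt : Nontrivial W := by
    by_contra hn
    rw [not_nontrivial_iff_subsingleton] at hn
    obtain ⟨a, b, hab⟩ := (IsSimpleOrder.toNontrivial (α := Subrepresentation τ)).exists_pair_ne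
    exact hab (Subrepresentation.toSubmodule_injective (Subsingleton.elim _ _))
  obtain ⟨c, hc⟩ := Module.End.exists_eigenvalue α
  let U : Subrepresentation τ := ⟨LinearMap.ker (α - c • 1), fun h v hv => by
    rw [LinearMap.mem_ker] at hv ⊢
    have hcom : Commute (α - c • 1) (τ h) := (hα h).sub_left ((Commute.one_left _).smul_left c)
    rw [← Module.End.mul_apply, hcom.eq, Module.End.mul_apply, hv, map_zero]⟩
  rcases IsSimpleOrder.eq_bot_or_eq_top U with h0 | h0
  · exfalso
    obtain ⟨v, hv⟩ := hc.exists_hasEigenvector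
    have : v ∈ U.toSubmodule := by
      show v ∈ LinearMap.ker (α - c • 1)
      simp [hv.apply_eq_smul]
    rw [h0] at this
    exact hv.2 this
  · refine ⟨c, LinearMap.ext fun v => ?_⟩
    have : v ∈ U.toSubmodule := by rw [h0]; trivial
    have h2 : α v - c • v = 0 := this
    rw [LinearMap.smul_apply, Module.End.one_apply]
    exact sub_eq_zero.1 h2

/-- The image of the group algebra is the full endomorphism algebra. -/
theorem exists_preimage {k : Type*} [Field k] [IsAlgClosed k] {W : Type*} [AddCommGroup W] [Module k W]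
    [FiniteDimensional k W] (τ : Representation k H W) (hτ : τ.IsIrreducible) (hH : (Nat.card H : k) ≠ 0)
    (β : Module.End k W) : ∃ c : H → k, β = ∑ h, c h • τ h := by
  classical
  let b := Module.finBasis k W
  rcases eq_or_ne (Module.finrank k W) 0 with h0 | h0
  · haveI : Subsingleton W := Module.finrank_zero_iff.1 h0
    exact ⟨0, LinearMap.ext fun v => Subsingleton.elim _ _⟩
  haveI : Nontrivial W := Module.finrank_pos_iff.1 (Nat.pos_of_ne_zero h0)
  have hone : ∀ (φ : W →ₗ[k] k) (v : W), ∃ c : k, c * Module.finrank k W = (Nat.card H : k) * φ v ∧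
      ∀ u, ∑ h, φ (τ h⁻¹ u) • τ h v = c • u := by
    intro φ v
    obtain ⟨c, hc⟩ := endo_scalar τ hτ (∑ h, τ h * φ.smulRight v * τ h⁻¹) (fun g => by
      show (∑ h, τ h * φ.smulRight v * τ h⁻¹) * τ g = τ g * ∑ h, τ h * φ.smulRight v * τ h⁻¹
      rw [Finset.sum_mul, Finset.mul_sum]
      refine Fintype.sum_equiv (Equiv.mulLeft g⁻¹) _ _ fun h => ?_
      simp only [Equiv.coe_mulLeft, mul_inv_rev, inv_inv, map_mul, mul_assoc]
      rw [← mul_assoc (τ g) (τ g⁻¹), ← map_mul τ g g⁻¹, mul_inv_cancel, map_one, one_mul])
    refine ⟨c, ?_, fun u => ?_⟩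
    · have h1 := congrArg (LinearMap.trace k W) hc
      have hterm : ∀ h, LinearMap.trace k W (τ h * φ.smulRight v * τ h⁻¹) = φ v := fun h => by
        rw [LinearMap.trace_mul_comm, ← mul_assoc, ← map_mul, inv_mul_cancel, map_one, one_mul,
          LinearMap.trace_smulRight]
      rw [map_sum, Finset.sum_congr rfl fun h _ => hterm h, Finset.sum_const, Finset.card_univ, nsmul_eq_mul,
        map_smul, LinearMap.trace_one, smul_eq_mul, ← Nat.card_eq_fintype_card] at h1
      exact h1.symm
    · have h1 := LinearMap.congr_fun hc u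
      simp only [LinearMap.sum_apply, Module.End.mul_apply, LinearMap.smulRight_apply, map_smul,
        LinearMap.smul_apply, Module.End.one_apply] at h1
      exact h1
  have hd : (Module.finrank k W : k) ≠ 0 := by
    intro hd
    let i₀ : Fin (Module.finrank k W) := ⟨0, Nat.pos_of_ne_zero h0⟩
    obtain ⟨c, hc, -⟩ := hone (b.coord i₀) (b i₀)
    rw [hd, mul_zero, Module.Basis.coord_apply, b.repr_self, Finsupp.single_eq_same, mul_one] at hc
    exact hH hc.symm
  refine ⟨fun h => (Module.finrank k W : k) / (Nat.card H : k) * LinearMap.trace k W (τ h⁻¹ * β), ?_⟩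
  refine b.ext fun j => ?_
  have hβ : ∀ h, LinearMap.trace k W (τ h⁻¹ * β) = ∑ i, b.coord i (τ h⁻¹ (β (b i))) := fun h => by
    rw [LinearMap.trace_eq_matrix_trace k b]
    simp [Matrix.trace, LinearMap.toMatrix_apply, Module.Basis.coord_apply]
  simp only [LinearMap.sum_apply, LinearMap.smul_apply, hβ, mul_smul, Finset.sum_smul, ← Finset.smul_sum]
  rw [Finset.sum_comm]
  choose c hc hc' using fun i => hone (b.coord i) (b j)
  rw [Finset.sum_congr rfl fun i _ => hc' i (β (b i))]
  have hci : ∀ i, c i = if i = j then (Nat.card H : k) / (Module.finrank k W : k) else 0 := fun i => by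
    have h1 := hc i
    rw [Module.Basis.coord_apply, b.repr_self, Finsupp.single_apply] at h1
    split_ifs with hij
    · rw [if_pos hij.symm, mul_one] at h1
      rw [eq_div_iff hd, h1]
    · rw [if_neg (Ne.symm hij), mul_zero] at h1
      exact (mul_eq_zero.1 h1).resolve_right hd
  simp only [hci, ite_smul, zero_smul, Finset.sum_ite_eq', Finset.mem_univ, if_true, smul_smul]
  rw [div_mul_div_cancel₀ hH, div_self hd, one_smul]

theorem single_sum_eq' {R : Type*} [Semiring R] (z : MonoidAlgebra R H) :
    z = ∑ g, MonoidAlgebra.single g (z.coeff g) := by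
  classical
  ext g
  rw [MonoidAlgebra.coeff_sum, Finsupp.coe_finsetSum, Finset.sum_apply, Finset.sum_eq_single g]
  · simp
  · intro h _ hh; simp [hh]
  · simp

/-- The dimension of a simple module on which a central element acts non-trivially. -/
theorem simple_dim_le (hM : IsPModular p M) (hHp : ¬ p ∣ Nat.card H) (ε : H → uRing hM)
    (hεc : IsClassFunction H (fun h => (ε h : ℂ))) (b : ℕ)
    (hη : ∀ η : IrrCharacter H, ∑ h, (ε h : ℂ) * (η : H → ℂ) h ≠ 0 → ∃ d ≤ b, (η : H → ℂ) 1 = (d : ℂ))
    {W : Type*} [AddCommGroup W] [Module (Res hM) W] [FiniteDimensional (Res hM) W]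
    (τ : Representation (Res hM) H W) (hτ : τ.IsIrreducible)
    (hne : (∑ h, algebraMap (uRing hM) (Res hM) (ε h) • τ h) ≠ 0) : Module.finrank (Res hM) W ≤ b := by
  classical
  haveI : Fintype (IrrCharacter H) := @Fintype.ofFinite _ CharBasics.finite_irrCharacter
  set π := algebraMap (uRing hM) (Res hM) with hπ
  let Φ : MonoidAlgebra (uRing hM) H →+* Module.End (Res hM) W :=
    (τ.asAlgebraHom : MonoidAlgebra (Res hM) H →+* Module.End (Res hM) W).comp (MonoidAlgebra.mapRingHom H π)
  let J : MonoidAlgebra (uRing hM) H →+* MonoidAlgebra ℂ H := MonoidAlgebra.mapRingHom H (uRing hM).subtype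
  have hΦ : ∀ (f : H → uRing hM), Φ (∑ h, MonoidAlgebra.single h (f h)) = ∑ h, π (f h) • τ h := fun f => by
    rw [map_sum]
    refine Finset.sum_congr rfl fun h _ => ?_
    simp [Φ, Representation.asAlgebraHom_single]
  have hJc : ∀ (z : MonoidAlgebra (uRing hM) H) (g : H), (J z).coeff g = (z.coeff g : ℂ) := fun z g =>
    MonoidAlgebra.coeff_mapRingHom _ _ _
  have hJinj : Function.Injective J := fun z z' h => by
    ext g
    exact (hJc z g).symm.trans ((congrArg (fun y => y.coeff g) h).trans (hJc z' g))
  have hJsum : ∀ (f : H → uRing hM) (g : H), (J (∑ h, MonoidAlgebra.single h (f h))).coeff g = (f g : ℂ) := by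
    intro f g
    rw [hJc, MonoidAlgebra.coeff_sum, Finsupp.coe_finsetSum, Finset.sum_apply, Finset.sum_eq_single g]
    · simp
    · intro h _ hh; simp [hh]
    · simp
  -- the idempotents
  have hei : ∀ (η : IrrCharacter H) (g : H), blockCoeff {η} g ∈ uRing hM := fun η g => by
    rw [blockCoeff_eq]
    refine mul_mem (natCast_inv_mem_uRing hM hHp) (sum_mem fun χ _ => ?_)
    split_ifs
    · rw [← CharBasics.apply_inv (CharBasics.isCharacter_of_irr χ.2)]
      exact mul_mem (apply_mem_uRing hM hHp (CharBasics.isCharacter_of_irr χ.2) _)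
        (apply_mem_uRing hM hHp (CharBasics.isCharacter_of_irr χ.2) _)
    · exact zero_mem _
  let E : IrrCharacter H → MonoidAlgebra (uRing hM) H := fun η => ∑ h, MonoidAlgebra.single h ⟨_, hei η h⟩
  have hJE : ∀ η, J (E η) = blockElt {η} := fun η => by ext g; rw [hJsum, coeff_blockElt]
  have hsum1 : ∑ η, E η = 1 := by
    apply hJinj
    rw [map_sum, map_one]
    simp only [hJE]
    refine eq_of_omega_eq ?_ isClassElt_one fun χ => ?_
    · intro g h
      simp only [MonoidAlgebra.coeff_sum, Finsupp.coe_finsetSum, Finset.sum_apply]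
      exact Finset.sum_congr rfl fun η _ => isClassElt_blockElt {η} g h
    · have : omega (χ : H → ℂ) (∑ η, blockElt {η}) = ∑ η, omega (χ : H → ℂ) (blockElt {η}) := by
        simp only [omega, MonoidAlgebra.coeff_sum, Finsupp.coe_finsetSum, Finset.sum_apply, Finset.sum_mul]
        rw [Finset.sum_comm, Finset.sum_div]
      rw [this, omega_one χ.2]
      simp [omega_blockElt]
  set c := ∑ h, MonoidAlgebra.single h (ε h) with hc
  obtain ⟨η, hηne⟩ : ∃ η, Φ (E η * c) ≠ 0 := by
    by_contra hall
    push Not at hall
    refine hne ?_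
    rw [← hΦ, ← hc, ← one_mul c, ← hsum1, Finset.sum_mul, map_sum]
    exact Finset.sum_eq_zero fun η _ => hall η
  have hΦE : Φ (E η) = 1 := by
    have hidem : IsIdempotentElem (Φ (E η)) := by
      show Φ (E η) * Φ (E η) = Φ (E η)
      rw [← map_mul]
      refine congrArg Φ (hJinj ?_)
      rw [map_mul, hJE]
      exact isIdempotentElem_blockElt _
    obtain ⟨a, ha⟩ := endo_scalar τ hτ (Φ (E η)) (fun g => by
      have h1 : τ g = Φ (MonoidAlgebra.single g 1) := by simp [Φ, Representation.asAlgebraHom_single]
      show Φ (E η) * τ g = τ g * Φ (E η)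
      rw [h1, ← map_mul, ← map_mul]
      refine congrArg Φ (hJinj ?_)
      rw [map_mul, map_mul, hJE]
      exact ((isClassElt_blockElt _).commute _).eq)
    rcases eq_or_ne a 0 with h0 | h0
    · exact absurd (by rw [map_mul, ha, h0, zero_smul, zero_mul]) hηne
    · have h2 : (a * a) • (1 : Module.End (Res hM) W) = a • 1 := by
        have := hidem.eq
        rwa [ha, smul_mul_smul_comm, mul_one] at this
      have h3 : a • (1 : Module.End (Res hM) W) = 1 := by
        have := congrArg (fun y => a⁻¹ • y) h2
        simpa [smul_smul, h0] using this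
      rw [ha, h3]
  -- the degree
  obtain ⟨d, hd, hd1⟩ := hη η (fun h0 => hηne (by
    have h1 : J (E η * c) = 0 := by
      rw [map_mul, hJE]
      have hcc : IsClassElt (J c) := fun g h => by simp only [hc, hJsum]; exact hεc g h
      refine eq_of_omega_eq ((isClassElt_blockElt _).mul hcc) (fun g h => by simp) fun χ => ?_
      rw [omega_mul χ.2 (isClassElt_blockElt _), omega_blockElt]
      split_ifs with hχ
      · obtain rfl : χ = η := hχ
        have h2 : ∑ x, (J c).coeff x * (χ : H → ℂ) x = 0 := by simp only [hc, hJsum]; exact h0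
        rw [one_mul, omega, h2, zero_div]
        simp [omega]
      · simp [omega]
    rw [hJinj (h1.trans (map_zero J).symm), map_zero]))
  refine le_trans ?_ hd
  -- an element with distinct eigenvalues
  let b' := Module.finBasis (Res hM) W
  obtain ⟨e⟩ : Nonempty (Fin (Module.finrank (Res hM) W) ↪ Res hM) :=
    ⟨Fin.valEmbedding.trans (Infinite.natEmbedding _)⟩
  let β : Module.End (Res hM) W := b'.constr ℕ fun i => e i • b' i
  have hHk : (Nat.card H : Res hM) ≠ 0 := fun h => hHp ((res_natCast_eq_zero _).1 h)
  obtain ⟨cf, hcf⟩ := exists_preimage τ hτ hHk β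
  choose lift hlift using fun h : H => Ideal.Quotient.mk_surjective (cf h)
  let r : MonoidAlgebra (uRing hM) H := ∑ h, MonoidAlgebra.single h (lift h)
  have hΦr : Φ r = β := by
    rw [hΦ, hcf]
    exact Finset.sum_congr rfl fun h _ => by rw [hπ]; exact congrArg (· • τ h) (hlift h)
  haveI : Module.Finite (uRing hM) (MonoidAlgebra (uRing hM) H) :=
    Module.Finite.of_basis (MonoidAlgebra.basis H (uRing hM))
  obtain ⟨P, hP, hPr⟩ := (Algebra.IsIntegral.isIntegral (R := uRing hM) r)
  have hJpoly : ∀ f : (uRing hM)[X], J (aeval r f) = aeval (J r) (f.map (uRing hM).subtype) := by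
    intro f
    induction f using Polynomial.induction_on' with
    | add P Q hP hQ => simp [hP, hQ, Polynomial.map_add]
    | monomial m a => simp [aeval_monomial, J]
  have hθ1 : ∀ _ : Unit, ((η : IrrCharacter H) : H → ℂ) 1 = (d : ℂ) := fun _ => hd1
  set ζ : Unit → ℂ := fun _ => Complex.exp (2 * Real.pi * Complex.I / p)
  obtain ⟨Q, D, hQm, hQn, hD, hQD⟩ := exists_family_poly hM (fun _ : Unit => η) d hθ1 ζ
    (fun _ => Complex.isPrimitiveRoot_exp p hM.1.ne_zero)
    (fun g => ⟨Polynomial.C ⟨_, uRing_le_uField (apply_mem_uRing hM hHp (CharBasics.isCharacter_of_irr η.2) g)⟩,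
      fun _ => by rw [eval₂_C]; rfl⟩)
    (J r) (fun g => by rw [hJc]; exact uRing_le_uField (r.coeff g).2) P hP (by
      rw [← hJpoly, show aeval r P = 0 from hPr, map_zero, zero_mul])
  rw [Fintype.card_unit, pow_one, Set.range_const, ← hJE, ← hJpoly, add_mul, ← map_mul,
    add_eq_zero_iff_eq_neg] at hQD
  have hzero : ∀ g, π ((aeval r Q * E η).coeff g) = 0 := by
    intro g
    show Ideal.Quotient.mk _ _ = 0
    rw [res_eq_zero_iff, ← hJc, hQD, MonoidAlgebra.coeff_neg, Finsupp.neg_apply]
    refine memLocalIdeal_neg ?_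
    rw [aeval_eq_sum_range, Finset.sum_mul, MonoidAlgebra.coeff_sum, Finsupp.coe_finsetSum, Finset.sum_apply]
    refine memLocalIdeal_sum hM _ fun i _ => ?_
    rw [smul_mul_assoc, ← map_pow, ← map_mul, MonoidAlgebra.coeff_smul, Finsupp.smul_apply, hJc, smul_eq_mul]
    exact memLocalIdeal_mul_right hM (hD i) (memLocalRing_uRing ((r ^ i * E η).coeff g).2)
  have hΦz : Φ (aeval r Q * E η) = 0 := by
    have h1 : aeval r Q * E η = ∑ g, MonoidAlgebra.single g ((aeval r Q * E η).coeff g) := (single_sum_eq' _)
    rw [h1, hΦ]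
    exact Finset.sum_eq_zero fun g _ => by rw [hzero, zero_smul]
  rw [map_mul, hΦE, mul_one] at hΦz
  have hΦpoly : ∀ f : (uRing hM)[X], Φ (aeval r f) = aeval β (f.map π) := by
    intro f
    induction f using Polynomial.induction_on' with
    | add P Q hP hQ => simp [hP, hQ, Polynomial.map_add]
    | monomial m a =>
      rw [Polynomial.map_monomial, aeval_monomial, aeval_monomial, map_mul, map_pow, hΦr]
      congr 1
      simp only [Φ, RingHom.comp_apply, MonoidAlgebra.coe_algebraMap, Function.comp_apply, Algebra.algebraMap_self,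
        RingHom.id_apply, MonoidAlgebra.mapRingHom_single]
      rw [RingHom.coe_coe, Representation.asAlgebraHom_single, map_one]
      exact (Algebra.algebraMap_eq_smul_one _).symm
  rw [hΦpoly] at hΦz
  have hroot : ∀ i, (Q.map π).IsRoot (e i) := by
    intro i
    have h1 := congrArg (fun F : Module.End (Res hM) W => b'.repr (F (b' i)) i) hΦz
    have hev : β (b' i) = e i • b' i := b'.constr_basis ℕ _ i
    have h2 : ∀ f : (Res hM)[X], aeval β f (b' i) = f.eval (e i) • b' i := by
      intro f
      induction f using Polynomial.induction_on' with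
      | add P Q hP hQ => simp [hP, hQ, add_smul]
      | monomial m a =>
        have hpow : ∀ m : ℕ, (β ^ m) (b' i) = e i ^ m • b' i := fun m => by
          induction m with
          | zero => simp
          | succ m ih => rw [pow_succ', Module.End.mul_apply, ih, map_smul, hev, smul_smul, pow_succ]
        simp [aeval_monomial, hpow, smul_smul, mul_comm]
    simpa [h2] using h1
  have hne' : Q.map π ≠ 0 := (hQm.map _).ne_zero
  calc Module.finrank (Res hM) W = (Finset.univ.map e).card := by simp
    _ ≤ (Q.map π).roots.toFinset.card := Finset.card_le_card (by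
        intro y hy
        obtain ⟨i, -, rfl⟩ := Finset.mem_map.1 hy
        rw [Multiset.mem_toFinset, mem_roots hne']
        exact hroot i)
    _ ≤ (Q.map π).roots.card := Multiset.toFinset_card_le _
    _ ≤ (Q.map π).natDegree := card_roots' _
    _ = d := by rw [hQm.natDegree_map, hQn]

end CfsgLib.DefectOne
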