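import Cfsg.Agent.DefectOne.Coeff
import Cfsg.Agent.DefectOne.GroupLattice
import Cfsg.Agent.DefectOne.CyclicQuot
import Cfsg.Agent.DefectOne.SimpleBound
import Cfsg.Agent.CharBasics.Extra

/-!
# The bound on the integer vectors

For a family of characters whose summed vectors are constant in `j`, the absolute values of the sums, one for each
orbit of `H` on `Irr V`, add up to at most one.
-/

set_option autoImplicit false
set_option linter.style.haveILetI false
set_option linter.unusedSectionVars false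

namespace CfsgLib.DefectOne

open Cfsg CfsgLib.CharBasics Polynomial
open scoped ComplexConjugate

universe u

namespace Data

variable {G : Type u} [Group G] [Fintype G] {p : ℕ} [Fact p.Prime] (D : Data G p)

theorem isClassFunction_irr (χ : IrrCharacter G) : IsClassFunction G (χ : G → ℂ) :=
  isClassFunction (isCharacter_of_irr χ.2)

include D in
/-- Two class functions agreeing on regular elements and on singular points are equal. -/
theorem ext_of_pt {α β : G → ℂ} (hα : IsClassFunction G α) (hβ : IsClassFunction G β)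
    (hreg : ∀ g, ¬ p ∣ orderOf g → α g = β g)
    (hpt : ∀ (i : ZMod p) (v : D.V), i ≠ 0 → α (D.pt (i, v)) = β (D.pt (i, v))) : α = β := by
  funext g
  by_cases hg : p ∣ orderOf g
  · obtain ⟨y, i, v, hi, hy⟩ := D.exists_conj_pt hg
    have h1 := hpt i v hi
    rwa [← hy, hα g y, hβ g y] at h1
  · exact hreg g hg

theorem apply_pt' (χ : IrrCharacter G) {i : ZMod p} (hi : i ≠ 0) (v : D.V) :
    (χ : G → ℂ) (D.pt (i, v)) =
      ∑ φ : IrrCharacter D.V, (∑ j, (D.d χ j φ : ℂ) * ee (i * j)) * (φ : D.V → ℂ) v := by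
  rw [D.apply_pt (isClassFunction_irr χ) hi v]
  simp only [d_eq]

/-- Characters with the same regular values and the same vectors are equal. -/
theorem ext_of_d {χ χ' : IrrCharacter G} (hreg : ∀ g, ¬ p ∣ orderOf g → (χ : G → ℂ) g = (χ' : G → ℂ) g)
    (hd : ∀ j φ, D.d χ j φ = D.d χ' j φ) : χ = χ' :=
  Subtype.ext (D.ext_of_pt (isClassFunction_irr χ) (isClassFunction_irr χ') hreg fun i v hi => by
    rw [D.apply_pt' χ hi, D.apply_pt' χ' hi]
    simp only [hd])

theorem not_dvd_orderOf_V (v : D.V) : ¬ p ∣ orderOf v := fun h =>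
  D.hHp (h.trans ((orderOf_dvd_natCard v).trans (Subgroup.card_subgroup_dvd_card D.V)))

theorem not_dvd_card_V : ¬ p ∣ Nat.card D.V := fun h => D.hHp (h.trans (Subgroup.card_subgroup_dvd_card D.V))

theorem apply_V_mem_uRing {M : Ideal AlgInt} (hM : IsPModular p M) (φ : IrrCharacter D.V) (v : D.V) :
    (φ : D.V → ℂ) v ∈ uRing hM := apply_mem_uRing hM D.not_dvd_card_V (isCharacter_of_irr φ.2) v

include D in
theorem regular_mem_uField {M : Ideal AlgInt} (hM : IsPModular p M) {χ : G → ℂ} (hχ : IsCharacter G χ) {g : G}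
    (hg : ¬ p ∣ orderOf g) : χ g ∈ uField p := by
  obtain ⟨lam, hl, hv⟩ := exists_eigen hχ g
  rw [show χ g = ∑ i, lam i by simpa using hv 1]
  exact sum_mem fun i _ => uRing_le_uField (root_mem_uRing hM hg (hl i))

/-- The orbit of a character of `V`. -/
noncomputable def orb (φ : IrrCharacter D.V) : Finset (IrrCharacter D.V) :=
  open scoped Classical in Finset.univ.filter fun ψ => ∃ h, D.cj h φ = ψ

theorem mem_orb {φ ψ : IrrCharacter D.V} : ψ ∈ D.orb φ ↔ ∃ h, D.cj h φ = ψ := by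
  simp [orb]

theorem self_mem_orb (φ : IrrCharacter D.V) : φ ∈ D.orb φ := D.mem_orb.2 ⟨1, D.cj_one φ⟩

theorem orb_cj (h : D.H) (φ : IrrCharacter D.V) : D.orb (D.cj h φ) = D.orb φ := by
  ext ψ
  simp only [mem_orb]
  constructor
  · rintro ⟨a, rfl⟩; exact ⟨h * a, (D.cj_cj a h φ).symm⟩
  · rintro ⟨a, rfl⟩; exact ⟨h⁻¹ * a, by rw [D.cj_cj, mul_inv_cancel_left]⟩

theorem orb_eq_of_mem {φ ψ : IrrCharacter D.V} (h : ψ ∈ D.orb φ) : D.orb ψ = D.orb φ := by
  obtain ⟨a, rfl⟩ := D.mem_orb.1 h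
  exact D.orb_cj a φ

theorem apply_one_orb {φ ψ : IrrCharacter D.V} (h : ψ ∈ D.orb φ) : (ψ : D.V → ℂ) 1 = (φ : D.V → ℂ) 1 := by
  obtain ⟨a, rfl⟩ := D.mem_orb.1 h
  rw [cj_apply]
  exact congrArg _ (Subtype.ext (by simp))

theorem card_orb (φ : IrrCharacter D.V) :
    (D.orb φ).card = (Clifford.inertia (G := D.H) (φ : D.V → ℂ)).index := by
  classical
  rw [← Clifford.card_orbit]
  rw [← Finset.card_image_of_injective (D.orb φ) Subtype.val_injective]
  congr 1
  ext f
  simp only [Finset.mem_image, Finset.mem_univ, true_and, mem_orb]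
  constructor
  · rintro ⟨_, ⟨h, rfl⟩, rfl⟩; exact ⟨h, rfl⟩
  · rintro ⟨h, rfl⟩; exact ⟨_, ⟨h, rfl⟩, rfl⟩

/-- The sum of the central idempotents of a set of characters of `V`. -/
noncomputable def cI (A : Finset (IrrCharacter D.V)) (v : D.V) : ℂ :=
  ∑ ψ ∈ A, (ψ : D.V → ℂ) 1 / (Nat.card D.V : ℂ) * (ψ : D.V → ℂ) v⁻¹

theorem cI_mem_uRing {M : Ideal AlgInt} (hM : IsPModular p M) (A : Finset (IrrCharacter D.V)) (v : D.V) :
    D.cI A v ∈ uRing hM :=
  sum_mem fun ψ _ => mul_mem (by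
    rw [div_eq_mul_inv]
    exact mul_mem (D.apply_V_mem_uRing hM ψ 1) (natCast_inv_mem_uRing hM D.not_dvd_card_V))
    (D.apply_V_mem_uRing hM ψ _)

theorem conv_cI [DecidableEq (IrrCharacter D.V)] (A B : Finset (IrrCharacter D.V)) (b : D.V) :
    ∑ a, D.cI A a * D.cI B (a⁻¹ * b) = D.cI (A ∩ B) b := by
  classical
  simp only [cI, Finset.sum_mul, Finset.mul_sum]
  rw [Finset.sum_comm]
  have key : ∀ ψ ψ' : IrrCharacter D.V,
      ∑ a, (ψ : D.V → ℂ) 1 / (Nat.card D.V : ℂ) * (ψ : D.V → ℂ) a⁻¹ *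
        ((ψ' : D.V → ℂ) 1 / (Nat.card D.V : ℂ) * (ψ' : D.V → ℂ) (a⁻¹ * b)⁻¹) =
      if ψ = ψ' then (ψ : D.V → ℂ) 1 / (Nat.card D.V : ℂ) * (ψ : D.V → ℂ) b⁻¹ else 0 := by
    intro ψ ψ'
    have h := conv_irr ψ ψ' b⁻¹
    have e : ∀ a : D.V, (ψ' : D.V → ℂ) (a⁻¹ * b)⁻¹ = (ψ' : D.V → ℂ) (a * b⁻¹) := fun a => by
      rw [mul_inv_rev, inv_inv, apply_mul_comm (isCharacter_of_irr ψ'.2)]
    calc _ = (ψ : D.V → ℂ) 1 / (Nat.card D.V : ℂ) / (Nat.card D.V : ℂ) *
          ((ψ' : D.V → ℂ) 1 * ∑ a, (ψ : D.V → ℂ) a * (ψ' : D.V → ℂ) (a⁻¹ * b⁻¹)) := by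
          simp only [Finset.mul_sum, e]
          refine Fintype.sum_equiv (Equiv.inv D.V) _ _ fun a => ?_
          simp only [Equiv.inv_apply, inv_inv]
          ring
      _ = _ := by
          rw [h]
          split_ifs with hψ
          · subst hψ
            have := D.natCast_V_ne_zero
            field_simp
          · simp
  rw [Finset.sum_congr rfl fun ψ' _ => Finset.sum_comm, Finset.sum_comm]
  simp only [key]
  simp [Finset.sum_ite_eq, ← Finset.sum_filter, Finset.filter_mem_eq_inter]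

theorem cI_empty (v : D.V) : D.cI ∅ v = 0 := Finset.sum_empty

theorem cI_orb_conj (φ : IrrCharacter D.V) (h : D.H) (v : D.V) :
    D.cI (D.orb φ) ⟨h * v * h⁻¹, D.normal_V.conj_mem _ v.2 h⟩ = D.cI (D.orb φ) v := by
  simp only [cI]
  refine Finset.sum_bij' (fun ψ _ => D.cj h ψ) (fun ψ _ => D.cj h⁻¹ ψ) (fun ψ hψ => ?_) (fun ψ hψ => ?_)
    (fun ψ _ => ?_) (fun ψ _ => ?_) (fun ψ hψ => ?_)
  · obtain ⟨a, rfl⟩ := D.mem_orb.1 hψ; exact D.mem_orb.2 ⟨a * h, (D.cj_cj h a φ).symm⟩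
  · obtain ⟨a, rfl⟩ := D.mem_orb.1 hψ; exact D.mem_orb.2 ⟨a * h⁻¹, (D.cj_cj h⁻¹ a φ).symm⟩
  · rw [D.cj_cj, mul_inv_cancel, D.cj_one]
  · rw [D.cj_cj, inv_mul_cancel, D.cj_one]
  · simp only [cj_apply]
    congr 1
    · congr 1; exact congrArg _ (Subtype.ext (by simp))
    · exact congrArg _ (Subtype.ext (by simp [mul_assoc]))

theorem degree_le_of_cI_ne (φ : IrrCharacter D.V) (η : IrrCharacter D.H)
    (hne : ∑ v : D.V, D.cI (D.orb φ) v * (η : D.H → ℂ) v ≠ 0) :
    ∃ d ≤ (D.orb φ).card * charDegree (φ : D.V → ℂ), (η : D.H → ℂ) 1 = (d : ℂ) := by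
  refine ⟨(D.orb φ).card * charDegree (φ : D.V → ℂ), le_rfl, ?_⟩
  simp only [cI, Finset.sum_mul] at hne
  rw [Finset.sum_comm] at hne
  obtain ⟨ψ, hψ, hne⟩ := Finset.exists_ne_zero_of_sum_ne_zero hne
  have hci : classInner (fun v : D.V => (η : D.H → ℂ) v) (ψ : D.V → ℂ) ≠ 0 := by
    intro h0
    refine hne ?_
    calc _ = (ψ : D.V → ℂ) 1 * classInner (fun v : D.V => (η : D.H → ℂ) v) (ψ : D.V → ℂ) := by
          rw [classInner_eq, Finset.mul_sum, Finset.mul_sum]
          refine Finset.sum_congr rfl fun v _ => ?_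
          rw [apply_inv (isCharacter_of_irr ψ.2)]
          ring
      _ = 0 := by rw [h0, mul_zero]
  have h1 := Clifford.restrict_one_eq η.2 ψ.2 hci
  rw [mult_eq_one_of_cyclic D.isCyclic_quotient_V η.2 ψ.2 hci, one_mul, ← D.card_orb, D.orb_eq_of_mem hψ,
    D.apply_one_orb hψ, apply_one (isCharacter_of_irr φ.2)] at h1
  rw [h1, Nat.cast_mul]

theorem tw_pt (u : (ZMod p)ˣ) (χ : IrrCharacter G) (i : ZMod p) (v : D.V) :
    (D.tw u χ : G → ℂ) (D.pt (i, v)) = (χ : G → ℂ) (D.pt ((u : ZMod p) * i, v)) := by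
  rw [tw_apply, D.pt_pow_tk]

theorem tw_one (χ : IrrCharacter G) : D.tw 1 χ = χ :=
  Subtype.ext (D.ext_of_pt (isClassFunction_irr _) (isClassFunction_irr χ) (fun g hg => D.tw_regular 1 χ hg)
    fun i v _ => by rw [tw_pt, Units.val_one, one_mul])

theorem isPrimitiveRoot_ee (u : (ZMod p)ˣ) : IsPrimitiveRoot (ee (u : ZMod p)) p := by
  have hp : p.Prime := Fact.out
  have hpow : ee (u : ZMod p) ^ p = 1 := by
    show ZMod.stdAddChar (u : ZMod p) ^ p = 1
    rw [← AddChar.map_nsmul_eq_pow, ZModModule.char_nsmul_eq_zero, AddChar.map_zero_eq_one]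
  refine IsPrimitiveRoot.of_map_of_injective (f := MonoidHom.id ℂ) ?_ Function.injective_id
  rw [MonoidHom.id_apply]
  rcases hp.eq_one_or_self_of_dvd _ (orderOf_dvd_of_pow_eq_one hpow) with h | h
  · exfalso
    refine u.ne_zero (ZMod.injective_stdAddChar (N := p) ?_)
    rw [AddChar.map_zero_eq_one]
    exact orderOf_eq_one_iff.1 h
  · have h2 := IsPrimitiveRoot.orderOf (ee (u : ZMod p))
    rwa [h] at h2

/-- The bound. -/
theorem sum_abs_le_one {M : Ideal AlgInt} (hM : IsPModular p M) {ι : Type*} [Fintype ι] [Nonempty ι]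
    (θ : ι → IrrCharacter G) (hinj : Function.Injective θ) (θ₀ : IrrCharacter G) (u₀ : ι → (ZMod p)ˣ)
    (hθ : ∀ q, θ q = D.tw (u₀ q) θ₀) (S : IrrCharacter D.V → ℤ)
    (hS : ∀ φ j, j ≠ 0 → ∑ q, D.d (θ q) j φ = S φ) (R : Finset (IrrCharacter D.V))
    (hR : ∀ φ ∈ R, ∀ φ' ∈ R, φ' ∈ D.orb φ → φ' = φ) : ∑ φ ∈ R, |S φ| ≤ 1 := by
  classical
  have hp : p.Prime := Fact.out
  have hScj : ∀ φ h, S (D.cj h φ) = S φ := fun φ h => by
    rw [← hS (D.cj h φ) (D.r h) (D.r_ne_zero h), ← hS φ 1 one_ne_zero]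
    refine Finset.sum_congr rfl fun q _ => ?_
    rw [← D.d_conj (θ q) h 1 φ, mul_one]
  set n := charDegree (θ₀ : G → ℂ) with hn
  have hreg : ∀ q g, ¬ p ∣ orderOf g → (θ q : G → ℂ) g = (θ₀ : G → ℂ) g := fun q g hg => by
    rw [hθ, D.tw_regular _ _ hg]
  have hsum : ∀ {i : ZMod p}, i ≠ 0 → ∀ v, ∑ q, (θ q : G → ℂ) (D.pt (i, v)) =
      -∑ φ : IrrCharacter D.V, (S φ : ℂ) * (φ : D.V → ℂ) v := by
    intro i hi v
    rw [Finset.sum_congr rfl fun q _ => D.apply_pt' (θ q) hi v, Finset.sum_comm, ← Finset.sum_neg_distrib]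
    refine Finset.sum_congr rfl fun φ _ => ?_
    rw [← Finset.sum_mul, Finset.sum_comm, ← neg_mul]
    congr 1
    have e1 : ∀ j : ZMod p, ∑ q, (D.d (θ q) j φ : ℂ) * ee (i * j) =
        (S φ : ℂ) * (ee (j * i) - if j = 0 then 1 else 0) := by
      intro j
      by_cases hj : j = 0
      · subst hj; simp [D.d_zero, ee_zero]
      · rw [← Finset.sum_mul, ← Int.cast_sum, hS φ j hj, if_neg hj, sub_zero, mul_comm i]
    rw [Finset.sum_congr rfl fun j _ => e1 j, ← Finset.mul_sum, Finset.sum_sub_distrib, sum_ee_mul, if_neg hi]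
    simp
  have hbd := family_bound (ι := ι) (O := {φ // φ ∈ R}) hM D.hx D.H D.hHp
    (fun h hh => by
      obtain ⟨k, hk⟩ := mem_powers_iff_mem_zpowers.2 (D.hHN h⁻¹ (inv_mem hh))
      exact ⟨k, by simp only [inv_inv] at hk; rw [hk]; group⟩)
    D.hN θ hinj n
    (fun q => by rw [hreg q 1 (by simp [hp.ne_one]), apply_one (isCharacter_of_irr θ₀.2)])
    (fun q => ee (u₀ q : ZMod p)) (fun q => isPrimitiveRoot_ee _) ?_ ?_
    (fun o h => ⟨extendByZero D.V (D.cI (D.orb o.1)) h, by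
      by_cases hh : h ∈ D.V
      · rw [show h = ((⟨h, hh⟩ : D.V) : D.H) from rfl, extendByZero_coe]; exact D.cI_mem_uRing hM _ _
      · rw [extendByZero_of_not_mem _ _ hh]; exact zero_mem _⟩)
    ?_ ?_ ?_ ?_ (fun o => (D.orb o.1).card * charDegree (o.1 : D.V → ℂ)) ?_ ?_
    (fun o => -((n : ℤ) * S o.1)) ?_
  · have hn0 : (0 : ℤ) < n := by exact_mod_cast charDegree_pos θ₀.2
    have h2 : (n : ℤ) * ∑ φ ∈ R, |S φ| ≤ (n : ℤ) * 1 := by
      rw [mul_one, Finset.mul_sum, ← Finset.sum_coe_sort]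
      refine le_trans (le_of_eq (Finset.sum_congr rfl fun o _ => ?_)) hbd
      rw [abs_neg, abs_mul, Nat.abs_cast]
    exact le_of_mul_le_mul_left h2 hn0
  · -- values
    intro g
    by_cases hg : p ∣ orderOf g
    · obtain ⟨y, i, v, hi, hy⟩ := D.exists_conj_pt hg
      refine ⟨∑ φ : IrrCharacter D.V, ∑ j : ZMod p, Polynomial.C ((D.d θ₀ j φ : uField p) *
        ⟨_, uRing_le_uField (D.apply_V_mem_uRing hM φ v)⟩) * Polynomial.X ^ (i * j).val, fun q => ?_⟩
      show (θ q : G → ℂ) g = _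
      rw [← isClassFunction_irr (θ q) g y, hy, hθ, tw_pt, D.apply_pt' θ₀ (mul_ne_zero (u₀ q).ne_zero hi)]
      simp only [Polynomial.eval₂_finsetSum, Polynomial.eval₂_mul, Polynomial.eval₂_C, Polynomial.eval₂_pow,
        Polynomial.eval₂_X, map_mul, Finset.sum_mul]
      refine Finset.sum_congr rfl fun φ _ => Finset.sum_congr rfl fun j _ => ?_
      have he : ee (u₀ q : ZMod p) ^ (i * j).val = ee ((u₀ q : ZMod p) * i * j) := by
        show ZMod.stdAddChar (u₀ q : ZMod p) ^ (i * j).val = _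
        rw [← AddChar.map_nsmul_eq_pow, nsmul_eq_mul, ZMod.natCast_zmod_val]
        congr 1; ring
      rw [he]
      simp only [Subfield.subtype_apply, map_intCast]
      ring
    · exact ⟨Polynomial.C ⟨_, regular_mem_uField D hM (isCharacter_of_irr θ₀.2) hg⟩, fun q => by
        show (θ q : G → ℂ) g = _
        rw [hreg q g hg, Polynomial.eval₂_C]; rfl⟩
  · -- the sum
    intro g
    by_cases hg : p ∣ orderOf g
    · obtain ⟨y, i, v, hi, hy⟩ := D.exists_conj_pt hg
      rw [Finset.sum_congr rfl fun q _ => by rw [← isClassFunction_irr (θ q) g y, hy], hsum hi]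
      exact neg_mem (sum_mem fun φ _ => mul_mem (intCast_mem _ _) (uRing_le_uField (D.apply_V_mem_uRing hM φ v)))
    · exact sum_mem fun q _ => by rw [hreg q g hg]; exact regular_mem_uField D hM (isCharacter_of_irr θ₀.2) hg
  · -- class functions
    intro o h y
    show extendByZero D.V (D.cI (D.orb o.1)) (y * h * y⁻¹) = extendByZero D.V (D.cI (D.orb o.1)) h
    by_cases hh : h ∈ D.V
    · have hm := D.normal_V.conj_mem h hh y
      exact ((extendByZero_coe D.V _ ⟨_, hm⟩).trans (D.cI_orb_conj o.1 y ⟨h, hh⟩)).trans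
        (extendByZero_coe D.V _ ⟨h, hh⟩).symm
    · rw [extendByZero_of_not_mem _ _ hh, extendByZero_of_not_mem]
      exact fun h' => hh (by simpa [mul_assoc] using D.normal_V.conj_mem _ h' y⁻¹)
  · -- support
    intro o h hne
    by_contra hc
    refine hne (Subtype.ext ?_)
    show extendByZero D.V (D.cI (D.orb o.1)) h = 0
    exact extendByZero_of_not_mem _ _ fun hh => hc (D.mem_V.1 hh)
  all_goals try
    have hconv : ∀ (o o' : {φ // φ ∈ R}) (b : D.H), ∑ a : D.H, extendByZero D.V (D.cI (D.orb o.1)) a *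
        extendByZero D.V (D.cI (D.orb o'.1)) (a⁻¹ * b) = extendByZero D.V (D.cI (D.orb o.1 ∩ D.orb o'.1)) b := by
      intro o o' b
      rw [sum_extendByZero_mul]
      by_cases hb : b ∈ D.V
      · rw [show b = ((⟨b, hb⟩ : D.V) : D.H) from rfl, extendByZero_coe, ← D.conv_cI]
        exact Finset.sum_congr rfl fun a _ => by
          rw [← Subgroup.coe_inv, ← Subgroup.coe_mul, extendByZero_coe]
      · rw [extendByZero_of_not_mem _ _ hb]
        refine Finset.sum_eq_zero fun a _ => ?_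
        rw [extendByZero_of_not_mem _ _ (fun h' => hb ?_), mul_zero]
        simpa using mul_mem a.2 h'
  · intro o b
    apply Subtype.ext
    push_cast
    rw [hconv o o b, Finset.inter_self]
  · intro o o' hoo b
    apply Subtype.ext
    push_cast
    rw [hconv o o' b]
    have hd : D.orb o.1 ∩ D.orb o'.1 = ∅ := by
      ext ψ
      simp only [Finset.mem_inter, Finset.notMem_empty, iff_false]
      rintro ⟨h1, h2⟩
      refine hoo (Subtype.ext (hR _ o.2 _ o'.2 ?_).symm)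
      rw [← D.orb_eq_of_mem h1, D.orb_eq_of_mem h2]
      exact D.self_mem_orb _
    rw [hd]
    by_cases hb : b ∈ D.V
    · rw [show b = ((⟨b, hb⟩ : D.V) : D.H) from rfl, extendByZero_coe, D.cI_empty]
    · exact extendByZero_of_not_mem _ _ hb
  · exact fun o => Nat.mul_pos (Finset.card_pos.2 ⟨_, D.self_mem_orb _⟩) (charDegree_pos o.1.2)
  · -- simple modules
    intro o W _ _ _ τ hτ hne
    refine simple_dim_le hM D.hHp _ ?_ _ (fun η hη => ?_) τ hτ hne
    · intro h y
      show extendByZero D.V (D.cI (D.orb o.1)) (y * h * y⁻¹) = extendByZero D.V (D.cI (D.orb o.1)) h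
      by_cases hh : h ∈ D.V
      · have hm := D.normal_V.conj_mem h hh y
        exact ((extendByZero_coe D.V _ ⟨_, hm⟩).trans (D.cI_orb_conj o.1 y ⟨h, hh⟩)).trans
          (extendByZero_coe D.V _ ⟨h, hh⟩).symm
      · rw [extendByZero_of_not_mem _ _ hh, extendByZero_of_not_mem]
        exact fun h' => hh (by simpa [mul_assoc] using D.normal_V.conj_mem _ h' y⁻¹)
    · refine D.degree_le_of_cI_ne o.1 η ?_
      rw [← sum_extendByZero_mul D.V (D.cI (D.orb o.1)) (η : D.H → ℂ)]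
      exact hη
  · -- the traces
    intro o i hi0 hip
    have hi : (i : ZMod p) ≠ 0 := by
      rw [Ne, ZMod.natCast_eq_zero_iff]; exact Nat.not_dvd_of_pos_of_lt hi0 hip
    show (n : ℂ) * ∑ h : D.H, extendByZero D.V (D.cI (D.orb o.1)) h * ∑ q, (θ q : G → ℂ) ((h : G) * D.x ^ i) = _
    rw [sum_extendByZero_mul D.V (D.cI (D.orb o.1)) (fun h : D.H => ∑ q, (θ q : G → ℂ) ((h : G) * D.x ^ i))]
    have hpt : ∀ v : D.V, ((v : D.H) : G) * D.x ^ i = D.pt ((i : ZMod p), v) := fun v => by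
      rw [← (D.commute_xV i v).eq, pt]
      congr 1
      rw [D.pow_eq_iff, ZMod.natCast_zmod_val]
    simp only [hpt, hsum hi]
    push_cast
    have key : ∑ v : D.V, D.cI (D.orb o.1) v * -∑ φ : IrrCharacter D.V, (S φ : ℂ) * (φ : D.V → ℂ) v =
        -((S o.1 : ℂ) * ((D.orb o.1).card * (o.1 : D.V → ℂ) 1)) := by
      simp only [mul_neg, Finset.sum_neg_distrib, cI, Finset.sum_mul]
      congr 1
      rw [Finset.sum_comm]
      have e : ∀ ψ ∈ D.orb o.1, ∑ v : D.V, (ψ : D.V → ℂ) 1 / (Nat.card D.V : ℂ) * (ψ : D.V → ℂ) v⁻¹ *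
          ∑ φ : IrrCharacter D.V, (S φ : ℂ) * (φ : D.V → ℂ) v = (S o.1 : ℂ) * (o.1 : D.V → ℂ) 1 := by
        intro ψ hψ
        calc _ = (ψ : D.V → ℂ) 1 * ∑ φ : IrrCharacter D.V, (S φ : ℂ) *
              classInner (φ : D.V → ℂ) (ψ : D.V → ℂ) := by
              simp only [classInner_eq, Finset.mul_sum]
              rw [Finset.sum_comm]
              refine Finset.sum_congr rfl fun φ _ => Finset.sum_congr rfl fun v _ => ?_
              rw [apply_inv (isCharacter_of_irr ψ.2)]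
              ring
          _ = _ := by
              rw [D.apply_one_orb hψ, mul_comm]
              congr 1
              simp only [classInner_irr, mul_ite, mul_one, mul_zero, Finset.sum_ite_eq', Finset.mem_univ, if_true]
              obtain ⟨a, rfl⟩ := D.mem_orb.1 hψ
              rw [hScj]
      rw [Finset.sum_congr rfl e, Finset.sum_const, nsmul_eq_mul]
      ring
    rw [key, apply_one (isCharacter_of_irr o.1.2)]
    ring

end Data

end CfsgLib.DefectOne
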