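import Cfsg.Agent.DefectOne.FTGram
import Cfsg.Agent.CharBasics.Central

/-!
# Small characters

An irreducible character of degree less than `(p-1)/2` which is non-trivial on `x` forces `x` to be centralised by
`H`, when `G` has no non-trivial character trivial on `x` and the centralisers of the non-central elements of `V`
normalise `⟨x⟩`.
-/

set_option autoImplicit false
set_option linter.style.haveILetI false
set_option linter.unusedSectionVars false

namespace CfsgLib.DefectOne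

open Cfsg CfsgLib.CharBasics
open scoped ComplexConjugate

universe u

theorem ft_numeric {t f m K r N C : ℕ} (ht : 3 ≤ t) (hf : 2 ≤ f) (hm0 : 0 < m) (hm : 2 * m < t)
    (hK : m ^ 2 ≤ K)
    (hr : K * (t - 2) ≤ (t - 1) * r ^ 2) (hC : (t - 2) * (f - 1) ≤ (t - 1) * C) (hN : t * N ≤ f - 1)
    (hdim : C * r ≤ m ^ 2 * N) : False := by
  obtain ⟨u, rfl⟩ := Nat.exists_eq_add_of_le' ht
  obtain ⟨g, rfl⟩ := Nat.exists_eq_add_of_le' hf
  simp only [show u + 3 - 2 = u + 1 by omega, show u + 3 - 1 = u + 2 by omega, show g + 2 - 1 = g + 1 by omega]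
    at hr hC hN
  have h1 : (C * r) ^ 2 ≤ (m ^ 2 * N) ^ 2 := Nat.pow_le_pow_left hdim 2
  have h2 : m ^ 2 * (u + 1) * C ^ 2 ≤ (u + 2) * (m ^ 2 * N) ^ 2 :=
    calc m ^ 2 * (u + 1) * C ^ 2 ≤ K * (u + 1) * C ^ 2 := by gcongr
      _ ≤ (u + 2) * r ^ 2 * C ^ 2 := by gcongr
      _ = (u + 2) * (C * r) ^ 2 := by ring
      _ ≤ _ := by gcongr
  have h3 : (u + 1) * C ^ 2 ≤ (u + 2) * m ^ 2 * N ^ 2 := by
    refine Nat.le_of_mul_le_mul_left ?_ (pow_pos hm0 2)
    calc m ^ 2 * ((u + 1) * C ^ 2) = m ^ 2 * (u + 1) * C ^ 2 := by ring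
      _ ≤ _ := h2
      _ = m ^ 2 * ((u + 2) * m ^ 2 * N ^ 2) := by ring
  have h4 : (u + 1) ^ 3 * (u + 3) ^ 2 * (g + 1) ^ 2 ≤ (u + 2) ^ 3 * m ^ 2 * (g + 1) ^ 2 :=
    calc (u + 1) ^ 3 * (u + 3) ^ 2 * (g + 1) ^ 2 = (u + 1) * (u + 3) ^ 2 * ((u + 1) * (g + 1)) ^ 2 := by ring
      _ ≤ (u + 1) * (u + 3) ^ 2 * ((u + 2) * C) ^ 2 := by gcongr
      _ = (u + 2) ^ 2 * (u + 3) ^ 2 * ((u + 1) * C ^ 2) := by ring
      _ ≤ (u + 2) ^ 2 * (u + 3) ^ 2 * ((u + 2) * m ^ 2 * N ^ 2) := by gcongr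
      _ = (u + 2) ^ 3 * m ^ 2 * ((u + 3) * N) ^ 2 := by ring
      _ ≤ _ := by gcongr
  have h5 := Nat.le_of_mul_le_mul_right h4 (by positivity)
  have h6 : (2 * m) ^ 2 ≤ (u + 2) ^ 2 := Nat.pow_le_pow_left (by omega) 2
  nlinarith [Nat.mul_le_mul_left ((u + 2) ^ 3) h6, Nat.zero_le (u ^ 5), Nat.zero_le (u ^ 4), Nat.zero_le (u ^ 3),
    Nat.zero_le (u ^ 2)]

namespace Data

variable {G : Type u} [Group G] [Fintype G] {p : ℕ} [Fact p.Prime] (D : Data G p)

theorem charDegree_eq_sum (χ : IrrCharacter G) :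
    charDegree (χ : G → ℂ) = ∑ ψ : IrrCharacter D.V, (∑ j, D.mn χ j ψ) * charDegree (ψ : D.V → ℂ) := by
  apply Nat.cast_injective (R := ℂ)
  have h := D.apply_pt_all (isClassFunction_irr χ) 0 1
  rw [show D.pt (0, 1) = 1 by simp [pt], apply_one (isCharacter_of_irr χ.2)] at h
  rw [h]
  push_cast
  refine Finset.sum_congr rfl fun ψ _ => ?_
  rw [Finset.sum_mul]
  refine Finset.sum_congr rfl fun j _ => ?_
  rw [zero_mul, ee_zero, mul_one, ← mn_eq, apply_one (isCharacter_of_irr ψ.2)]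

theorem apply_x_eq_of_zero (χ : IrrCharacter G) (h : ∀ (a : (ZMod p)ˣ) ψ, D.mn χ (a : ZMod p) ψ = 0) :
    (χ : G → ℂ) D.x = (χ : G → ℂ) 1 := by
  have hx : D.x = D.pt (1, 1) := by simp [pt, ZMod.val_one]
  have h1 : (1 : G) = D.pt (0, 1) := by simp [pt]
  rw [hx, h1, D.apply_pt_all (isClassFunction_irr χ), D.apply_pt_all (isClassFunction_irr χ)]
  refine Finset.sum_congr rfl fun ψ _ => Finset.sum_congr rfl fun j _ => ?_
  by_cases hj : j = 0
  · subst hj; simp
  · rw [← mn_eq, show D.mn χ j ψ = 0 from h (Units.mk0 j hj) ψ]; simp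

/-- The restriction of a small character. -/
theorem exists_shape {M : Ideal AlgInt} (hM : IsPModular p M) (χ : IrrCharacter G)
    (hnc : (χ : G → ℂ) D.x ≠ (χ : G → ℂ) 1) (hsmall : 2 * charDegree (χ : G → ℂ) + 1 < p) :
    ∃ (φ : IrrCharacter D.V) (a₀ : (ZMod p)ˣ),
      (∀ j ψ [Decidable (∃ h, D.cj h φ = ψ ∧ D.r h * (a₀ : ZMod p) = j)],
        D.mn χ j ψ = if ∃ h, D.cj h φ = ψ ∧ D.r h * (a₀ : ZMod p) = j then 1 else 0) ∧
      charDegree (χ : G → ℂ) = D.V.index * charDegree (φ : D.V → ℂ) := by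
  classical
  have hp : p.Prime := Fact.out
  have hterm : ∀ ψ : IrrCharacter D.V, (∑ j, D.mn χ j ψ) * charDegree (ψ : D.V → ℂ) ≤ charDegree (χ : G → ℂ) := by
    intro ψ
    rw [D.charDegree_eq_sum χ]
    exact Finset.single_le_sum (f := fun ψ : IrrCharacter D.V => (∑ j, D.mn χ j ψ) * charDegree (ψ : D.V → ℂ))
      (fun _ _ => Nat.zero_le _) (Finset.mem_univ ψ)
  have hsum : ∀ ψ : IrrCharacter D.V, ((∑ j, D.mn χ j ψ : ℕ) : ℤ) = (p : ℤ) * D.mn χ 0 ψ + D.S χ ψ := by
    intro ψ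
    push_cast
    rw [Finset.sum_congr rfl fun j _ => D.mn_eq_add χ j ψ, Finset.sum_add_distrib, Finset.sum_const,
      Finset.card_univ, ZMod.card, nsmul_eq_mul]
    rfl
  have hsmallS : ∀ ψ : IrrCharacter D.V, (p : ℤ) * D.mn χ 0 ψ + D.S χ ψ ≤ (charDegree (χ : G → ℂ) : ℤ) := by
    intro ψ
    rw [← hsum]
    exact_mod_cast le_trans (Nat.le_mul_of_pos_right _ (charDegree_pos ψ.2)) (hterm ψ)
  obtain ⟨φ, hφ⟩ : ∃ φ, ¬ D.Const χ φ := by
    by_contra hall
    push Not at hall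
    refine hnc (D.apply_x_eq_of_zero χ fun a ψ => ?_)
    have h1 := hsmallS ψ
    rw [D.S_const (hall ψ)] at h1
    have h2 := D.mn_eq_add χ (a : ZMod p) ψ
    rw [show D.d χ (a : ZMod p) ψ = D.d χ 1 ψ from hall ψ a 1] at h2
    have h3 : (0 : ℤ) ≤ D.mn χ 0 ψ := Int.natCast_nonneg _
    have h4 : (2 * (charDegree (χ : G → ℂ) : ℤ)) + 1 < p := by exact_mod_cast hsmall
    by_contra h0
    have h5 : (1 : ℤ) ≤ D.mn χ (a : ZMod p) ψ := by exact_mod_cast Nat.one_le_iff_ne_zero.2 h0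
    nlinarith
  obtain ⟨F⟩ := D.exists_family hM φ
  obtain ⟨q₀, rfl⟩ := not_not.1 fun hm => hφ (F.const χ hm)
  obtain ⟨a₀, rfl⟩ := D.cls_surj φ q₀
  have hS : ∀ ψ, ψ ∈ D.orb φ → D.S (F.θ (D.cls φ a₀)) ψ = F.ε * Nat.card (D.U φ) := fun ψ hψ => by
    rw [D.S_orb _ hψ, D.S_theta]
  have he : 2 * Nat.card (D.U φ) ≤ p - 1 := by
    rw [← D.card_U_mul_index φ, mul_comm 2]
    refine Nat.mul_le_mul_left _ ?_
    by_contra hi
    have : (D.U φ).index ≠ 0 := Subgroup.index_ne_zero_of_finite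
    have h1 : D.U φ = ⊤ := Subgroup.index_eq_one.1 (by omega)
    refine hφ (D.subsingleton_const _ φ fun q q' => ?_)
    obtain ⟨a, rfl⟩ := D.cls_surj φ q
    obtain ⟨b, rfl⟩ := D.cls_surj φ q'
    exact QuotientGroup.eq.2 (by rw [h1]; exact Subgroup.mem_top _)
  have h4 : (2 * (charDegree (F.θ (D.cls φ a₀) : G → ℂ) : ℤ)) + 1 < p := by exact_mod_cast hsmall
  have he' : 2 * (Nat.card (D.U φ) : ℤ) ≤ (p : ℤ) - 1 := by
    have := hp.one_le
    omega
  have hε : F.ε = 1 := by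
    rcases F.sign with h | h
    · exact h
    exfalso
    have h1 := D.mn_eq_add (F.θ (D.cls φ a₀)) (a₀ : ZMod p) φ
    rw [F.d_eq', if_pos rfl, h] at h1
    have h2 := hsmallS φ
    rw [hS φ (D.self_mem_orb φ), h] at h2
    have h3 : (0 : ℤ) ≤ D.mn (F.θ (D.cls φ a₀)) (a₀ : ZMod p) φ := Int.natCast_nonneg _
    nlinarith
  have hm0 : ∀ ψ, D.mn (F.θ (D.cls φ a₀)) 0 ψ = 0 := by
    intro ψ
    have h2 := hsmallS ψ
    have h3 : (0 : ℤ) ≤ D.S (F.θ (D.cls φ a₀)) ψ := by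
      by_cases hψ : ψ ∈ D.orb φ
      · rw [hS ψ hψ, hε, one_mul]; exact Int.natCast_nonneg _
      · rw [D.S_eq_zero_of_blk hM (D.theta_mem_blk F _) hψ]
    by_contra h0
    have h5 : (1 : ℤ) ≤ D.mn (F.θ (D.cls φ a₀)) 0 ψ := by exact_mod_cast Nat.one_le_iff_ne_zero.2 h0
    nlinarith
  refine ⟨φ, a₀, fun j ψ _ => ?_, ?_⟩
  · apply Nat.cast_injective (R := ℤ)
    rw [D.mn_eq_add, hm0, Nat.cast_zero, zero_add]
    by_cases hex : ∃ h, D.cj h φ = ψ ∧ D.r h * (a₀ : ZMod p) = j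
    · obtain ⟨h, rfl, rfl⟩ := hex
      rw [if_pos ⟨h, rfl, rfl⟩, D.d_conj, F.d_eq', if_pos rfl, hε, Nat.cast_one]
    · rw [if_neg hex, Nat.cast_zero]
      by_cases hj : j = 0
      · rw [hj, D.d_zero]
      by_cases hψ : ψ ∈ D.orb φ
      · obtain ⟨h, rfl⟩ := D.mem_orb.1 hψ
        rw [show j = D.r h * (((D.rHom h)⁻¹ * Units.mk0 j hj : (ZMod p)ˣ) : ZMod p) by
          rw [← D.rHom_apply, ← Units.val_mul, mul_inv_cancel_left, Units.val_mk0], D.d_conj, F.d_eq']
        refine if_neg fun hq => hex ?_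
        obtain ⟨h₂, h₂φ, h₂u⟩ := D.mem_U.1 (QuotientGroup.eq.1 hq)
        refine ⟨h₂ * h, by rw [← D.cj_cj, h₂φ], ?_⟩
        rw [D.r_mul, ← D.rHom_apply, ← D.rHom_apply, h₂u, ← Units.val_mul, ← Units.val_mul]
        have e : a₀⁻¹ * ((D.rHom h)⁻¹ * Units.mk0 j hj) * D.rHom h * a₀ = Units.mk0 j hj := by
          rw [mul_right_comm _ (D.rHom h) a₀, mul_comm _ (a₀ : (ZMod p)ˣ), ← mul_assoc, mul_inv_cancel, one_mul,
            mul_comm (D.rHom h)⁻¹, mul_assoc, inv_mul_cancel, mul_one]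
        rw [e, Units.val_mk0]
      · exact D.d_eq_zero_of_blk hM (D.theta_mem_blk F _) hψ j
  · rw [D.charDegree_eq_sum, D.index_V_eq φ,
      ← Finset.sum_subset (Finset.subset_univ (D.orb φ)) (fun ψ _ hψ => ?_)]
    · rw [Finset.sum_congr rfl (g := fun _ => Nat.card (D.U φ) * charDegree (φ : D.V → ℂ)) (fun ψ hψ => ?_),
        Finset.sum_const, smul_eq_mul]
      · ring
      · have h1 := hsum ψ
        rw [hm0, hS ψ hψ, hε, Nat.cast_zero, mul_zero, zero_add, one_mul, Nat.cast_inj] at h1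
        have h2 := D.apply_one_orb hψ
        rw [apply_one (isCharacter_of_irr ψ.2), apply_one (isCharacter_of_irr φ.2), Nat.cast_inj] at h2
        rw [h1, h2]
    · have h1 := hsum ψ
      rw [hm0, D.S_eq_zero_of_blk hM (D.theta_mem_blk F _) hψ, Nat.cast_zero, mul_zero, zero_add,
        Nat.cast_eq_zero] at h1
      rw [h1, zero_mul]

theorem sum_mm_mul_deg {χ : G → ℂ} (hχ : IsClassFunction G χ) (c : ZMod p) :
    ∑ φ : IrrCharacter D.V, D.mm χ c φ * (φ : D.V → ℂ) 1 =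
      (p : ℂ)⁻¹ * ∑ i, χ (D.pt (i, 1)) * conj (ee (i * c)) := by
  simp only [mm, Finset.mul_sum, Finset.sum_mul]
  rw [Finset.sum_comm]
  refine Finset.sum_congr rfl fun i _ => ?_
  have h := congrFun (classFun_expand (D.isClassFunction_pt hχ i)) 1
  rw [h, Finset.sum_apply, Finset.sum_mul, Finset.mul_sum]
  refine Finset.sum_congr rfl fun φ _ => ?_
  rw [Pi.smul_apply, smul_eq_mul]
  show _ = (p : ℂ)⁻¹ * (D.cc χ i φ * (φ : D.V → ℂ) 1 * conj (ee (i * c)))
  ring

theorem mn_eq_zero_of_not_supp (χ : IrrCharacter G)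
    (hZ : ∀ z ∈ Subgroup.center G, ∀ g, (χ : G → ℂ) (z * g) = (χ : G → ℂ) g) (j : ZMod p) {φ : IrrCharacter D.V}
    (hφ : φ ∉ D.supp) : D.mn χ j φ = 0 := by
  classical
  have hcc : ∀ i, D.cc (χ : G → ℂ) i φ = 0 := by
    intro i
    rcases sum_normal_irr D.Zc φ with ⟨ha, -⟩ | ⟨-, hb⟩
    · exact absurd (D.mem_supp.2 ha) hφ
    have h1 : (Nat.card D.Zc : ℂ) * ∑ v : D.V, (χ : G → ℂ) (D.pt (i, v)) * conj ((φ : D.V → ℂ) v) = 0 := by
      rw [Nat.card_eq_fintype_card, ← nsmul_eq_mul, ← Finset.card_univ, ← Finset.sum_const,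
        Finset.sum_congr rfl (g := fun z : D.Zc =>
          ∑ v : D.V, (χ : G → ℂ) (D.pt (i, v)) * conj ((φ : D.V → ℂ) (v * z))) (fun z _ => ?_), Finset.sum_comm]
      · refine Finset.sum_eq_zero fun v _ => ?_
        rw [← Finset.mul_sum, ← map_sum, hb, map_zero, mul_zero]
      · refine (Fintype.sum_equiv (Equiv.mulRight (z : D.V)) _ _ fun v => ?_).symm
        show _ = (χ : G → ℂ) (D.pt (i, v * (z : D.V))) * conj ((φ : D.V → ℂ) (v * (z : D.V)))
        have e : D.pt (i, v * (z : D.V)) = (((z : D.V) : D.H) : G) * D.pt (i, v) := by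
          rw [show D.pt (i, v * (z : D.V)) = D.pt (i, v) * (((z : D.V) : D.H) : G) by simp [pt, mul_assoc]]
          exact Subgroup.mem_center_iff.1 (D.mem_Zc.1 z.2) _
        rw [e, hZ _ (D.mem_Zc.1 z.2)]
    rw [cc, classInner_eq, (mul_eq_zero.1 h1).resolve_left (Nat.cast_ne_zero.2 Nat.card_pos.ne'), mul_zero]
  apply Nat.cast_injective (R := ℂ)
  simp [mn_eq, mm, hcc]

theorem d_oneChar {j : ZMod p} (hj : j ≠ 0) : D.d (oneChar : IrrCharacter G) j D.one = -1 := by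
  apply Int.cast_injective (α := ℂ)
  rw [d_eq, dd_eq]
  have hcc : ∀ i : ZMod p, D.cc (oneChar : IrrCharacter G).1 i (D.one : D.V → ℂ) = 1 := fun i => by
    show classInner (fun _ : D.V => (1 : ℂ)) (D.one : D.V → ℂ) = 1
    exact classInner_self (D.one).2
  simp only [hcc, one_mul, Finset.sum_sub_distrib, conj_ee, Finset.sum_const, Finset.card_univ, ZMod.card,
    nsmul_eq_mul, mul_one]
  rw [Finset.sum_congr rfl (fun (i : ZMod p) _ => show ee (-(i * j)) = ee (i * (-j)) by rw [mul_neg]), sum_ee_mul,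
    if_neg (neg_ne_zero.2 hj), zero_sub, mul_neg, inv_mul_cancel₀ natCast_p_ne_zero]
  simp

set_option maxHeartbeats 1000000 in
/-- A small character forces `V = H`. -/
theorem index_eq_one_of_small {M : Ideal AlgInt} (hM : IsPModular p M) (hTI : D.TIHyp)
    (hgen : ∀ ψ : IrrCharacter G, (ψ : G → ℂ) D.x = (ψ : G → ℂ) 1 → (ψ : G → ℂ) = fun _ => 1)
    (χ : IrrCharacter G) (hnc : (χ : G → ℂ) D.x ≠ (χ : G → ℂ) 1) (hsmall : 2 * charDegree (χ : G → ℂ) + 1 < p) :
    D.V.index = 1 := by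
  classical
  haveI : Fintype (IrrCharacter G) := Fintype.ofFinite _
  have hp : p.Prime := Fact.out
  obtain ⟨φ, a₀, hshape, hdeg⟩ := D.exists_shape hM χ hnc hsmall
  by_contra hf1
  set f := D.V.index with hfdef
  set m := charDegree (φ : D.V → ℂ) with hmdef
  have hf0 : f ≠ 0 := Subgroup.index_ne_zero_of_finite
  have hf : 2 ≤ f := by omega
  -- the exponents
  set Ws : Finset (ZMod p)ˣ := Finset.univ.image fun h => D.rHom h * a₀ with hWs
  have hmem : ∀ w ∈ Ws, ∃ h, D.rHom h * a₀ = w := fun w hw => by simpa [hWs] using hw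
  choose! sh hsh using hmem
  let sel : (ZMod p)ˣ → IrrCharacter D.V := fun w => D.cj (sh w) φ
  have hsel : ∀ h, sel (D.rHom h * a₀) = D.cj h φ := by
    intro h
    have h1 := hsh _ (Finset.mem_image.2 ⟨h, Finset.mem_univ _, rfl⟩ : D.rHom h * a₀ ∈ Ws)
    have hv : (sh (D.rHom h * a₀)) * h⁻¹ ∈ D.V := by
      rw [← D.ker_rHom, MonoidHom.mem_ker, map_mul, map_inv, mul_right_cancel h1, mul_inv_cancel]
    have h2 := D.mem_inertia_iff.1 (D.V_le_inertia φ hv)
    show D.cj (sh _) φ = D.cj h φ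
    conv_rhs => rw [← h2, D.cj_cj, inv_mul_cancel_right]
  have hcardWs : Ws.card = f := by
    rw [hWs, ← Finset.card_image_of_injective _ (mul_left_injective a₀⁻¹), Finset.image_image, hfdef, ← D.ker_rHom,
      Subgroup.index_ker, ← Set.ncard_coe_finset, ← Nat.card_coe_set_eq]
    congr 2
    ext w
    simp
  have hmn : ∀ (j : ZMod p) (ψ : IrrCharacter D.V),
      D.mm (χ : G → ℂ) j ψ = ∑ w ∈ Ws, if (w : ZMod p) = j ∧ sel w = ψ then (1 : ℂ) else 0 := by
    intro j ψ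
    rw [← mn_eq, hshape j ψ]
    by_cases hex : ∃ h, D.cj h φ = ψ ∧ D.r h * (a₀ : ZMod p) = j
    · rw [if_pos hex]
      obtain ⟨h, rfl, rfl⟩ := hex
      rw [Finset.sum_eq_single (D.rHom h * a₀)]
      · rw [if_pos ⟨by rw [Units.val_mul, D.rHom_apply], hsel h⟩, Nat.cast_one]
      · intro w _ hw
        refine if_neg fun hh => hw (Units.ext ?_)
        rw [hh.1, Units.val_mul, D.rHom_apply]
      · intro hn; exact absurd (Finset.mem_image.2 ⟨h, Finset.mem_univ _, rfl⟩) hn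
    · rw [if_neg hex, Nat.cast_zero, eq_comm]
      refine Finset.sum_eq_zero fun w hw => if_neg fun hh => hex ⟨sh w, hh.2, ?_⟩
      rw [← D.rHom_apply, ← Units.val_mul, hsh w hw, hh.1]
  have hval : ∀ (i : ZMod p) (v : D.V),
      (χ : G → ℂ) (D.pt (i, v)) = ∑ w ∈ Ws, ee (i * (w : ZMod p)) * (sel w : D.V → ℂ) v := by
    intro i v
    rw [D.apply_pt_all (isClassFunction_irr χ)]
    simp only [hmn, Finset.sum_mul]
    rw [Finset.sum_congr rfl fun ψ _ => Finset.sum_comm, Finset.sum_comm]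
    refine Finset.sum_congr rfl fun w _ => ?_
    rw [Finset.sum_eq_single (sel w) (fun ψ _ hψ => Finset.sum_eq_zero fun j _ => by simp [Ne.symm hψ]) (by simp),
      Finset.sum_eq_single (w : ZMod p) (fun j _ hj => by simp [Ne.symm hj]) (by simp), if_pos ⟨rfl, rfl⟩, one_mul]
  have hsel1 : ∀ w, (sel w : D.V → ℂ) 1 = (m : ℂ) := fun w => by
    rw [D.apply_one_orb (φ := φ) (D.mem_orb.2 ⟨_, rfl⟩), apply_one (isCharacter_of_irr φ.2)]
  -- the square
  set Φ : G → ℂ := fun g => (χ : G → ℂ) g * conj ((χ : G → ℂ) g) with hΦ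
  have hΦc : IsCharacter G Φ :=
    CharBasics.isCharacter_mul (isCharacter_of_irr χ.2) (isCharacter_star (isCharacter_of_irr χ.2))
  have hΦcl := isClassFunction hΦc
  choose a ha using fun ψ : IrrCharacter G => classInner_characters_nat hΦc (isCharacter_of_irr ψ.2)
  have hexp : Φ = ∑ ψ : IrrCharacter G, (a ψ : ℂ) • (ψ : G → ℂ) := by
    conv_lhs => rw [classFun_expand hΦcl]
    exact Finset.sum_congr rfl fun ψ _ => by rw [ha]
  have hmmΦ : ∀ (c : ZMod p) (ψ' : IrrCharacter D.V),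
      D.mm Φ c ψ' = ((∑ ψ : IrrCharacter G, a ψ * D.mn ψ c ψ' : ℕ) : ℂ) := by
    intro c ψ'
    push_cast
    simp only [mn_eq, mm, cc, classInner_eq]
    rw [hexp]
    simp only [Finset.sum_apply, Pi.smul_apply, smul_eq_mul, Finset.mul_sum, Finset.sum_mul]
    rw [Finset.sum_comm (s := (Finset.univ : Finset (IrrCharacter G)))]
    refine Finset.sum_congr rfl fun i _ => ?_
    rw [Finset.sum_comm]
    exact Finset.sum_congr rfl fun ψ _ => Finset.sum_congr rfl fun v _ => by ring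
  let N : ZMod p → ℕ := fun c => ((Ws ×ˢ Ws).filter fun q => (q.1 : ZMod p) - (q.2 : ZMod p) = c).card
  let N' : ZMod p → ℕ := fun c =>
    ((Ws ×ˢ Ws).filter fun q => (q.1 : ZMod p) - (q.2 : ZMod p) = c ∧ sel q.1 = sel q.2).card
  have hN'N : ∀ c, N' c ≤ N c := fun c =>
    Finset.card_le_card fun q hq => by
      simp only [Finset.mem_filter] at hq ⊢
      exact ⟨hq.1, hq.2.1⟩
  have hN' : ∀ c, D.mm Φ c D.one = (N' c : ℂ) := by
    intro c
    have hccΦ : ∀ i, D.cc Φ i D.one = ∑ q ∈ Ws ×ˢ Ws,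
        if sel q.1 = sel q.2 then ee (i * ((q.1 : ZMod p) - (q.2 : ZMod p))) else 0 := by
      intro i
      have e : ∀ q : (ZMod p)ˣ × (ZMod p)ˣ, (if sel q.1 = sel q.2 then ee (i * ((q.1 : ZMod p) - (q.2 : ZMod p))) else 0) =
          ee (i * ((q.1 : ZMod p) - (q.2 : ZMod p))) * classInner (sel q.1 : D.V → ℂ) (sel q.2 : D.V → ℂ) := fun q => by
        rw [classInner_irr]; split_ifs <;> simp
      rw [Finset.sum_congr rfl fun q _ => e q, cc, classInner_eq]
      simp only [classInner_eq, one_apply, map_one, mul_one, Finset.mul_sum]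
      rw [Finset.sum_comm]
      refine Finset.sum_congr rfl fun v _ => ?_
      simp only [hΦ, hval, map_sum, map_mul, conj_ee]
      rw [Finset.sum_mul_sum, ← Finset.sum_product', Finset.mul_sum]
      refine Finset.sum_congr rfl fun q _ => ?_
      rw [mul_sub, sub_eq_add_neg, ee_add]
      ring
    rw [mm]
    simp only [hccΦ, Finset.sum_mul]
    rw [Finset.sum_comm, Finset.mul_sum]
    simp only [N', ← Finset.sum_boole]
    refine Finset.sum_congr rfl fun q _ => ?_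
    by_cases hq : sel q.1 = sel q.2
    · simp only [if_pos hq, and_iff_left hq, conj_ee, ← ee_add]
      rw [Finset.sum_congr rfl fun i _ => show ee (i * ((q.1 : ZMod p) - (q.2 : ZMod p)) + -(i * c)) =
        ee (i * ((q.1 : ZMod p) - (q.2 : ZMod p) - c)) by congr 1; ring, sum_ee_mul]
      simp only [sub_eq_zero]
      split_ifs
      · exact inv_mul_cancel₀ natCast_p_ne_zero
      · exact mul_zero _
    · simp [if_neg hq, hq]
  have htot : ∀ c : ZMod p, ∑ ψ' : IrrCharacter D.V, (∑ ψ : IrrCharacter G, a ψ * D.mn ψ c ψ') *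
      charDegree (ψ' : D.V → ℂ) = m ^ 2 * N c := by
    intro c
    apply Nat.cast_injective (R := ℂ)
    push_cast
    calc _ = ∑ ψ' : IrrCharacter D.V, D.mm Φ c ψ' * (ψ' : D.V → ℂ) 1 :=
          Finset.sum_congr rfl fun ψ' _ => by
            rw [apply_one (isCharacter_of_irr ψ'.2), hmmΦ]; push_cast; rfl
      _ = (p : ℂ)⁻¹ * ∑ i, Φ (D.pt (i, 1)) * conj (ee (i * c)) := D.sum_mm_mul_deg hΦcl c
      _ = _ := by
        simp only [hΦ, hval, hsel1, map_sum, map_mul, conj_ee, Complex.conj_natCast, N]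
        rw [← Finset.sum_boole, Finset.mul_sum, Finset.mul_sum]
        simp only [Finset.sum_mul_sum, Finset.sum_mul, Finset.mul_sum]
        rw [Finset.sum_product_right, Finset.sum_comm]
        refine Finset.sum_congr rfl fun q₂ _ => ?_
        rw [Finset.sum_comm]
        refine Finset.sum_congr rfl fun q₁ _ => ?_
        rw [Finset.sum_congr rfl fun i _ => show (p : ℂ)⁻¹ * (ee (i * (q₁ : ZMod p)) * (m : ℂ) *
            (ee (-(i * (q₂ : ZMod p))) * (m : ℂ)) * ee (-(i * c))) =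
          (p : ℂ)⁻¹ * (m : ℂ) ^ 2 * ee (i * ((q₁ : ZMod p) - (q₂ : ZMod p) - c)) by
            rw [show i * ((q₁ : ZMod p) - (q₂ : ZMod p) - c) = i * (q₁ : ZMod p) + -(i * (q₂ : ZMod p)) + -(i * c) by ring,
              ee_add, ee_add]
            ring, ← Finset.mul_sum, sum_ee_mul]
        simp only [sub_eq_zero]
        have := natCast_p_ne_zero (p := p)
        split_ifs <;> field_simp
        simp
  have hN'0 : N' 0 = f := by
    rw [← hcardWs]
    refine Finset.card_nbij' (fun q => q.1) (fun w => (w, w)) ?_ ?_ ?_ ?_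
    · intro q hq
      simp only [Finset.coe_filter, Set.mem_setOf_eq, Finset.mem_product] at hq
      exact hq.1.1
    · intro w hw
      simp only [Finset.coe_filter, Set.mem_setOf_eq, Finset.mem_product]
      exact ⟨⟨hw, hw⟩, sub_self _, by trivial⟩
    · intro q hq
      simp only [Finset.coe_filter, Set.mem_setOf_eq, Finset.mem_product] at hq
      exact Prod.ext rfl (Units.ext (sub_eq_zero.1 hq.2.1))
    · intro w _; rfl
  -- constituents are trivial on the centre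
  have hcentral : ∀ ψ : IrrCharacter G, a ψ ≠ 0 →
      ∀ z ∈ Subgroup.center G, ∀ g, (ψ : G → ℂ) (z * g) = (ψ : G → ℂ) g := by
    intro ψ hψ z hz g
    have h1 := apply_one_ne_zero χ.2
    have hzz : (χ : G → ℂ) z * conj ((χ : G → ℂ) z) = (χ : G → ℂ) 1 * (χ : G → ℂ) 1 := by
      have h := center_mul χ.2 hz z⁻¹
      rw [mul_inv_cancel, apply_inv (isCharacter_of_irr χ.2)] at h
      exact h.symm
    have hΦz : ∀ y, Φ (z * y) = Φ y := by
      intro y
      have h := center_mul χ.2 hz y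
      have h' : conj ((χ : G → ℂ) 1) * conj ((χ : G → ℂ) (z * y)) = conj ((χ : G → ℂ) z) * conj ((χ : G → ℂ) y) := by
        rw [← map_mul, ← map_mul, h]
      have hc1 : conj ((χ : G → ℂ) 1) = (χ : G → ℂ) 1 := by
        rw [apply_one (isCharacter_of_irr χ.2), Complex.conj_natCast]
      rw [hc1] at h'
      apply mul_left_cancel₀ (mul_ne_zero h1 h1)
      simp only [hΦ]
      calc _ = ((χ : G → ℂ) 1 * (χ : G → ℂ) (z * y)) * ((χ : G → ℂ) 1 * conj ((χ : G → ℂ) (z * y))) := by ring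
        _ = ((χ : G → ℂ) z * conj ((χ : G → ℂ) z)) * ((χ : G → ℂ) y * conj ((χ : G → ℂ) y)) := by rw [h, h']; ring
        _ = _ := by rw [hzz]
    have h2 : (ψ : G → ℂ) 1 * (a ψ : ℂ) = conj ((ψ : G → ℂ) z) * (a ψ : ℂ) := by
      simp only [← ha, classInner_eq, Finset.mul_sum]
      refine (Fintype.sum_equiv (Equiv.mulLeft z) _ _ fun y => ?_).symm
      simp only [Equiv.coe_mulLeft, hΦz]
      have h := congrArg (fun t => conj t) (center_mul ψ.2 hz y)
      simp only [map_mul] at h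
      rw [show conj ((ψ : G → ℂ) 1) = (ψ : G → ℂ) 1 by
        rw [apply_one (isCharacter_of_irr ψ.2), Complex.conj_natCast]] at h
      linear_combination -((Nat.card G : ℂ)⁻¹ * Φ y) * h
    have h3 : (ψ : G → ℂ) z = (ψ : G → ℂ) 1 := by
      have := congrArg (fun t => conj t) (mul_right_cancel₀ (Nat.cast_ne_zero.2 hψ) h2)
      simp only [Complex.conj_conj] at this
      rw [← this, apply_one (isCharacter_of_irr ψ.2), Complex.conj_natCast]
    exact apply_mul_of_apply_eq (isCharacter_of_irr ψ.2) h3 g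
  -- the principal family
  obtain ⟨F⟩ := D.exists_family hM D.one
  set t := (D.U D.one).index with htdef
  have hft : f * t = p - 1 := by rw [hfdef, ← D.card_U_one]; exact D.card_U_mul_index _
  have hmpos : 0 < m := charDegree_pos φ.2
  have hmt : 2 * m < t := by
    rw [hdeg] at hsmall
    have : f * (2 * m) < f * t := by
      rw [hft, show f * (2 * m) = 2 * (f * m) by ring]; omega
    exact Nat.lt_of_mul_lt_mul_left this
  have ht : 3 ≤ t := by omega
  have hcardIdx : Fintype.card (D.Idx D.one) = t := D.card_Idx _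
  have horb1 : ∀ ψ' : IrrCharacter D.V, ψ' ≠ D.one → ψ' ∉ D.orb D.one := fun ψ' h => by
    rw [D.orb_one, Finset.mem_singleton]; exact h
  have hfix : ∀ h : D.H, D.rHom h ∈ D.U D.one := fun h => D.mem_U.2 ⟨h, D.cj_oneV h, rfl⟩
  have hone_rest : (oneChar : IrrCharacter G) ∈ D.rest F := by
    refine ⟨D.oneChar_mem_blk, ?_⟩
    rintro ⟨q, hq⟩
    haveI : Nontrivial (D.Idx D.one) := Fintype.one_lt_card_iff_nontrivial.1 (by omega)
    obtain ⟨q', hq'⟩ := exists_ne q
    obtain ⟨b, rfl⟩ := D.cls_surj D.one q'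
    have := F.d_eq' q b
    rw [hq, D.d_oneChar b.ne_zero, if_neg (Ne.symm hq')] at this
    omega
  have hone : a (oneChar : IrrCharacter G) = 1 := by
    apply Nat.cast_injective (R := ℂ)
    rw [← ha, Nat.cast_one, ← classInner_self χ.2, classInner_eq, classInner_eq]
    simp [hΦ, oneChar_apply]
  -- the equation at the principal character of `V`
  set A : ℤ := ∑ ψ : IrrCharacter G, if ψ ∈ D.rest F then -(a ψ : ℤ) * D.d ψ 1 D.one else 0 with hA
  have heq : ∀ c : (ZMod p)ˣ, (f : ℤ) - (N' (c : ZMod p) : ℤ) = A - F.ε * a (F.θ (D.cls D.one c)) := by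
    intro c
    have hN : ∀ j, ((N' j : ℕ) : ℤ) = ∑ ψ : IrrCharacter G, (a ψ : ℤ) * D.mn ψ j D.one := by
      intro j
      have := (hN' j).symm.trans (hmmΦ j D.one)
      rw [Nat.cast_inj] at this
      rw [this]; push_cast; rfl
    rw [← hN'0, hN, hN, ← Finset.sum_sub_distrib,
      show A - F.ε * a (F.θ (D.cls D.one c)) = A - ∑ ψ : IrrCharacter G,
        (if ψ = F.θ (D.cls D.one c) then F.ε * (a ψ : ℤ) else 0) by
        rw [Finset.sum_ite_eq' Finset.univ (F.θ (D.cls D.one c)) (fun ψ => F.ε * (a ψ : ℤ)), if_pos (Finset.mem_univ _)],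
      hA, ← Finset.sum_sub_distrib]
    refine Finset.sum_congr rfl fun ψ _ => ?_
    rw [D.mn_eq_add ψ (c : ZMod p) D.one]
    by_cases hF : ψ ∈ Set.range F.θ
    · obtain ⟨q, rfl⟩ := hF
      rw [if_neg (show F.θ q ∉ D.rest F from fun h => h.2 ⟨q, rfl⟩), F.d_eq']
      simp only [F.inj.eq_iff]
      split_ifs <;> ring
    · rw [if_neg (show ψ ≠ F.θ (D.cls D.one c) from fun h => hF ⟨_, h.symm⟩),
        show D.d ψ (c : ZMod p) D.one = D.d ψ 1 D.one from F.const ψ hF c 1]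
      split_ifs with hr
      · ring
      · have : ¬ ψ ∈ D.blk D.one := fun h => hr ⟨h, hF⟩
        rw [D.mem_blk_iff_const (F.const ψ hF), not_not] at this
        rw [this]; ring
  set Pp : Finset (IrrCharacter G) :=
    Finset.univ.filter fun ψ => ψ ∈ D.rest F ∧ D.d ψ 1 D.one = -1 ∧ ψ ≠ oneChar with hPp
  have hA_le : A ≤ (∑ ψ ∈ Pp, a ψ : ℕ) + 1 := by
    rw [hA, ← Finset.sum_erase_add _ _ (Finset.mem_univ (oneChar : IrrCharacter G)), if_pos hone_rest, hone,
      D.d_oneChar one_ne_zero]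
    push_cast
    rw [hPp, Finset.sum_filter]
    refine add_le_add (le_trans (Finset.sum_le_sum fun ψ hψ => ?_)
      (Finset.sum_le_sum_of_subset_of_nonneg (Finset.subset_univ _) fun ψ _ _ => by split_ifs <;> simp)) le_rfl
    have hψ' := (Finset.mem_erase.1 hψ).1
    by_cases hr : ψ ∈ D.rest F
    · rw [if_pos hr]
      rcases D.rest_d hM F hr with h | h
      · rw [h, if_neg (fun hh => by omega)]; simp
      · rw [h, if_pos ⟨hr, rfl, hψ'⟩]; simp
    · rw [if_neg hr, if_neg (fun hh => hr hh.1)]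
  -- a unit with few differences
  obtain ⟨c, -, hc⟩ := Finset.exists_min_image (Finset.univ : Finset (ZMod p)ˣ) (fun c => N (c : ZMod p)) Finset.univ_nonempty
  have hsumN : ∑ c : (ZMod p)ˣ, N (c : ZMod p) ≤ f * (f - 1) := by
    rw [Nat.mul_sub_one, ← hcardWs, ← Finset.offDiag_card]
    simp only [N, Finset.card_filter]
    rw [Finset.sum_comm]
    refine le_trans (Finset.sum_le_sum (g := fun q => if q.1 ≠ q.2 then 1 else 0) fun q _ => ?_) (le_of_eq ?_)
    · by_cases hq : q.1 = q.2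
      · rw [if_neg (by simpa using hq), Nat.le_zero, Finset.sum_eq_zero]
        intro c _
        rw [if_neg]
        rw [hq, sub_self]
        exact c.ne_zero.symm
      · rw [if_pos hq, ← Finset.card_filter, Finset.card_le_one]
        intro x hx y hy
        simp only [Finset.mem_filter, Finset.mem_univ, true_and] at hx hy
        exact Units.ext (hx.symm.trans hy)
    · rw [← Finset.card_filter]
      congr 1
      ext q
      simp [and_assoc]
  have hcN : t * N (c : ZMod p) ≤ f - 1 := by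
    have h1 := Finset.card_nsmul_le_sum (Finset.univ : Finset (ZMod p)ˣ) (fun c => N (c : ZMod p)) (N (c : ZMod p))
      (fun x hx => hc x hx)
    rw [Finset.card_univ, ← Nat.card_eq_fintype_card, Nat.card_units, Nat.card_zmod, smul_eq_mul, ← hft] at h1
    refine Nat.le_of_mul_le_mul_left ?_ (Nat.pos_of_ne_zero hf0)
    rw [← mul_assoc]
    exact h1.trans hsumN
  -- the dimensions
  set K := D.Zc.index with hK
  have hex : ∃ d, K * (t - 2) ≤ (t - 1) * d ^ 2 := by
    refine ⟨K * (t - 2), le_trans (Nat.le_self_pow two_ne_zero _) (Nat.le_mul_of_pos_left _ (by omega))⟩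
  set r := Nat.find hex
  have hbound : ∀ ψ : IrrCharacter G,
      (∃ q : D.Idx D.one, ∀ b : (ZMod p)ˣ, D.cls D.one b ≠ q → ∀ ψ' ∈ D.supp,
        D.mn ψ (b : ZMod p) ψ' = D.mn ψ (c : ZMod p) ψ') →
      (∃ ψ' ∈ D.supp, D.mn ψ (c : ZMod p) ψ' ≠ 0) →
      r ≤ ∑ ψ' : IrrCharacter D.V, D.mn ψ (c : ZMod p) ψ' * charDegree (ψ' : D.V → ℂ) := by
    rintro ψ ⟨q, hq⟩ hne
    have h1 := D.dim_bound hTI ψ (κ := {k : D.Idx D.one // k ≠ q}) (fun k => Quotient.out k.1)
      (fun k l hkl h heq => hkl (Subtype.ext ?_)) (c : ZMod p)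
      (fun k ψ' hψ' => hq _ (by
        rw [show D.cls D.one (Quotient.out k.1) = k.1 from QuotientGroup.out_eq' _]; exact k.2) ψ' hψ') hne
    · rw [Fintype.card_subtype_compl, Fintype.card_subtype_eq, hcardIdx, show t - 1 - 1 = t - 2 by omega] at h1
      refine (Nat.find_le (h := hex) h1).trans ?_
      exact Finset.sum_le_sum_of_subset (Finset.subset_univ _)
    · have e : D.cls D.one (D.rHom h * Quotient.out l.1) = D.cls D.one (Quotient.out k.1) :=
        congrArg _ (Units.ext (by rw [Units.val_mul, D.rHom_apply]; exact heq))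
      rw [D.cls_mul, show D.cls D.one (Quotient.out l.1) = l.1 from QuotientGroup.out_eq' _,
        show D.cls D.one (Quotient.out k.1) = k.1 from QuotientGroup.out_eq' _,
        show D.cls D.one (D.rHom h) = 1 from (QuotientGroup.eq_one_iff _).2 (hfix h), one_mul] at e
      exact e.symm
  have hdim : ∀ Cs : Finset (IrrCharacter G), (∀ ψ ∈ Cs, a ψ ≠ 0 →
      r ≤ ∑ ψ' : IrrCharacter D.V, D.mn ψ (c : ZMod p) ψ' * charDegree (ψ' : D.V → ℂ)) →
      (∑ ψ ∈ Cs, a ψ) * r ≤ m ^ 2 * N (c : ZMod p) := by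
    intro Cs hCs
    rw [← htot, Finset.sum_mul]
    simp only [Finset.sum_mul]
    rw [Finset.sum_comm (s := (Finset.univ : Finset (IrrCharacter D.V)))]
    refine le_trans (Finset.sum_le_sum fun ψ hψ => ?_) (Finset.sum_le_sum_of_subset (Finset.subset_univ Cs))
    by_cases h0 : a ψ = 0
    · simp [h0]
    · refine le_trans (Nat.mul_le_mul_left _ (hCs ψ hψ h0)) (le_of_eq ?_)
      rw [Finset.mul_sum]
      exact Finset.sum_congr rfl fun ψ' _ => by ring
  have hPbound : ∀ ψ ∈ Pp, a ψ ≠ 0 →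
      r ≤ ∑ ψ' : IrrCharacter D.V, D.mn ψ (c : ZMod p) ψ' * charDegree (ψ' : D.V → ℂ) := by
    intro ψ hψ ha0
    obtain ⟨hr, hd, hne1⟩ := (Finset.mem_filter.1 hψ).2
    have hconst : ∀ (b : (ZMod p)ˣ) (ψ' : IrrCharacter D.V),
        D.mn ψ (b : ZMod p) ψ' = D.mn ψ (c : ZMod p) ψ' := by
      intro b ψ'
      have h1 := D.mn_eq_add ψ (b : ZMod p) ψ'
      have h2 := D.mn_eq_add ψ (c : ZMod p) ψ'
      have : D.d ψ (b : ZMod p) ψ' = D.d ψ (c : ZMod p) ψ' := by
        by_cases h : ψ' = D.one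
        · subst h; exact F.const ψ hr.2 b c
        · rw [D.d_eq_zero_of_blk hM hr.1 (horb1 _ h), D.d_eq_zero_of_blk hM hr.1 (horb1 _ h)]
      omega
    refine hbound ψ ⟨1, fun b _ ψ' _ => hconst b ψ'⟩ ?_
    by_contra hall
    push Not at hall
    refine hne1 (Subtype.ext (hgen ψ (D.apply_x_eq_of_zero ψ fun b ψ' => ?_)))
    by_cases hs : ψ' ∈ D.supp
    · rw [hconst]; exact hall _ hs
    · exact D.mn_eq_zero_of_not_supp ψ (hcentral ψ ha0) _ hs
  have hKm : m ^ 2 ≤ K := D.deg_sq_le φ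
  have hr : K * (t - 2) ≤ (t - 1) * r ^ 2 := Nat.find_spec hex
  have hc' := heq c
  have hN'c : (N' (c : ZMod p) : ℤ) ≤ N (c : ZMod p) := by exact_mod_cast hN'N _
  have hcN' : (t : ℤ) * N (c : ZMod p) ≤ (f : ℤ) - 1 := by
    have : ((t * N (c : ZMod p) : ℕ) : ℤ) ≤ ((f - 1 : ℕ) : ℤ) := by exact_mod_cast hcN
    push_cast [Nat.one_le_iff_ne_zero.2 hf0] at this
    exact this
  have htI : (3 : ℤ) ≤ t := by exact_mod_cast ht
  rcases F.sign with hε | hε
  · -- positive sign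
    rw [hε, one_mul] at hc'
    refine ft_numeric ht hf hmpos hmt hKm hr ?_ hcN (hdim Pp hPbound)
    have hb : (0 : ℤ) ≤ a (F.θ (D.cls D.one c)) := Int.natCast_nonneg _
    zify [show 2 ≤ t by omega, show 1 ≤ t by omega, show 1 ≤ f by omega]
    have h1 : (t : ℤ) * (f - 1) - (f - 1) ≤ (t : ℤ) * (∑ ψ ∈ Pp, a ψ : ℕ) := by nlinarith
    push_cast at h1 ⊢
    nlinarith
  · -- negative sign
    rw [hε] at hc'
    set B := ∑ q : D.Idx D.one, a (F.θ q) with hB
    let Cs : Finset (IrrCharacter G) :=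
      Pp ∪ ((Finset.univ.erase (D.cls D.one c)).image F.θ)
    have hCs : ∀ ψ ∈ Cs, a ψ ≠ 0 →
        r ≤ ∑ ψ' : IrrCharacter D.V, D.mn ψ (c : ZMod p) ψ' * charDegree (ψ' : D.V → ℂ) := by
      intro ψ hψ ha0
      rcases Finset.mem_union.1 hψ with hψ | hψ
      · exact hPbound ψ hψ ha0
      obtain ⟨q, hq, rfl⟩ := Finset.mem_image.1 hψ
      have hqc : q ≠ D.cls D.one c := (Finset.mem_erase.1 hq).1
      refine hbound _ ⟨q, fun b hb ψ' _ => ?_⟩ ⟨D.one, D.one_mem_supp, ?_⟩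
      · have h1 := D.mn_eq_add (F.θ q) (b : ZMod p) ψ'
        have h2 := D.mn_eq_add (F.θ q) (c : ZMod p) ψ'
        have : D.d (F.θ q) (b : ZMod p) ψ' = D.d (F.θ q) (c : ZMod p) ψ' := by
          by_cases h : ψ' = D.one
          · subst h; rw [F.d_eq', F.d_eq', if_neg (Ne.symm hb), if_neg hqc]
          · rw [F.d_other q ψ' (horb1 _ h), F.d_other q ψ' (horb1 _ h)]
        omega
      · obtain ⟨b, rfl⟩ := D.cls_surj D.one q
        have h1 := D.mn_eq_add (F.θ (D.cls D.one b)) (b : ZMod p) D.one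
        have h2 := D.mn_eq_add (F.θ (D.cls D.one b)) (c : ZMod p) D.one
        rw [F.d_eq', if_pos rfl, hε] at h1
        rw [F.d_eq', if_neg hqc, add_zero] at h2
        omega
    refine ft_numeric ht hf hmpos hmt hKm hr ?_ hcN (hdim Cs hCs)
    have hdisj : Disjoint Pp ((Finset.univ.erase (D.cls D.one c)).image F.θ) := by
      rw [Finset.disjoint_left]
      intro ψ h1 h2
      obtain ⟨q, -, rfl⟩ := Finset.mem_image.1 h2
      exact (Finset.mem_filter.1 h1).2.1.2 ⟨q, rfl⟩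
    have hCsum : (∑ ψ ∈ Cs, a ψ) + a (F.θ (D.cls D.one c)) = (∑ ψ ∈ Pp, a ψ) + B := by
      rw [Finset.sum_union hdisj, Finset.sum_image F.inj.injOn, add_assoc,
        Finset.sum_erase_add Finset.univ (fun q => a (F.θ q)) (Finset.mem_univ _)]
    have hBsum : ∑ b : (ZMod p)ˣ, a (F.θ (D.cls D.one b)) = f * B := by
      rw [Fintype.sum_equiv Subgroup.groupEquivQuotientProdSubgroup (fun b => a (F.θ (D.cls D.one b)))
        (fun q : ((ZMod p)ˣ ⧸ D.U D.one) × ↥(D.U D.one) => a (F.θ q.1)) (fun b => rfl), Fintype.sum_prod_type]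
      simp only [Finset.sum_const, Finset.card_univ, smul_eq_mul, ← Finset.mul_sum]
      rw [← Nat.card_eq_fintype_card, D.card_U_one, hB]
    have hsum : ((p - 1 : ℕ) : ℤ) * ((f : ℤ) - A) - (f * (f - 1) : ℕ) ≤ (f * B : ℕ) := by
      rw [← hBsum]
      have h1 : ∑ b : (ZMod p)ˣ, ((f : ℤ) - A) =
          ∑ b : (ZMod p)ˣ, ((N' (b : ZMod p) : ℤ) + (a (F.θ (D.cls D.one b)) : ℤ)) :=
        Finset.sum_congr rfl fun b _ => by have := heq b; rw [hε] at this; omega
      rw [Finset.sum_const, Finset.card_univ, ← Nat.card_eq_fintype_card, Nat.card_units, Nat.card_zmod,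
        nsmul_eq_mul, Finset.sum_add_distrib] at h1
      have h2 : ∑ b : (ZMod p)ˣ, (N' (b : ZMod p) : ℤ) ≤ ((f * (f - 1) : ℕ) : ℤ) := by
        rw [← Nat.cast_sum, Nat.cast_le]
        exact (Finset.sum_le_sum fun b _ => hN'N _).trans hsumN
      push_cast at h1 h2 ⊢
      linarith
    rw [← hft] at hsum
    have hB' : (t : ℤ) * ((f : ℤ) - A) - ((f : ℤ) - 1) ≤ B := by
      have hfI : (0 : ℤ) < f := by exact_mod_cast Nat.pos_of_ne_zero hf0
      refine le_of_mul_le_mul_left ?_ hfI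
      push_cast [Nat.one_le_iff_ne_zero.2 hf0] at hsum
      linarith
    have hbc : (a (F.θ (D.cls D.one c)) : ℤ) ≤ (f : ℤ) - A := by
      have := Int.natCast_nonneg (N' (c : ZMod p))
      linarith
    have hbB : (a (F.θ (D.cls D.one c)) : ℤ) ≤ B := by
      exact_mod_cast Finset.single_le_sum (f := fun q => a (F.θ q)) (fun _ _ => Nat.zero_le _) (Finset.mem_univ _)
    have hCs' : ((∑ ψ ∈ Cs, a ψ : ℕ) : ℤ) + a (F.θ (D.cls D.one c)) = ((∑ ψ ∈ Pp, a ψ : ℕ) : ℤ) + B := by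
      exact_mod_cast hCsum
    zify [show 2 ≤ t by omega, show 1 ≤ t by omega, show 1 ≤ f by omega]
    push_cast at hA_le hCs' ⊢
    nlinarith

end Data

end CfsgLib.DefectOne
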