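import Cfsg.Agent.DefectOne.CountPrime
import Cfsg.Agent.CharBasics.Extra

/-!
# A Gram matrix away from the centre

When the centraliser of every non-central element of `V` normalises `⟨x⟩`, the multiplicities of a combination of
characters of `V` vanishing on the centre have an orthogonal Gram matrix.  Bessel's inequality then bounds below the
dimension of each non-zero eigenspace of `x` in a character trivial on the centre.
-/

set_option autoImplicit false
set_option linter.style.haveILetI false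
set_option linter.unusedSectionVars false

namespace CfsgLib.DefectOne

open Cfsg CfsgLib.CharBasics
open scoped ComplexConjugate

universe u

namespace Data

variable {G : Type u} [Group G] [Fintype G] {p : ℕ} [Fact p.Prime] (D : Data G p)

/-- The elements of `V` central in `G`. -/
def Zc : Subgroup D.V := (Subgroup.center G).comap (D.H.subtype.comp D.V.subtype)

theorem mem_Zc {v : D.V} : v ∈ D.Zc ↔ ((v : D.H) : G) ∈ Subgroup.center G := Iff.rfl

instance normal_Zc : D.Zc.Normal := ⟨fun z hz g => by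
  have h : g * z * g⁻¹ = z := by
    apply Subtype.ext; apply Subtype.ext
    push_cast
    rw [Subgroup.mem_center_iff.1 (D.mem_Zc.1 hz), mul_inv_cancel_right]
  rwa [h]⟩

noncomputable instance fintypeZc : Fintype D.Zc := Fintype.ofFinite _

/-- The centralisers of the non-central elements of `V` normalise `⟨x⟩`. -/
def TIHyp : Prop := ∀ v : D.V, v ∉ D.Zc → ∀ y : G, Commute y ((v : D.H) : G) → y ∈ D.Nx

theorem mem_zpowers_of_pow_eq_one {g : G} (hg : g ∈ D.Nx) (hp1 : g ^ p = 1) : g ∈ Subgroup.zpowers D.x := by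
  obtain ⟨k, h, rfl⟩ := D.mem_normalizer_iff_exists.1 hg
  have hpow : ∀ n : ℕ, ∃ l : ZMod p, (D.x ^ k.val * (h : G)) ^ n = D.x ^ l.val * ((h ^ n : D.H) : G) := by
    intro n
    induction n with
    | zero => exact ⟨0, by simp⟩
    | succ n ih =>
      obtain ⟨l, hl⟩ := ih
      refine ⟨l + D.r (h ^ n) * k, ?_⟩
      rw [pow_succ, hl, pow_succ (h) n, Subgroup.coe_mul]
      have h1 := D.conj_pow (h ^ n) k
      rw [show D.x ^ (l + D.r (h ^ n) * k).val = D.x ^ l.val * D.x ^ (D.r (h ^ n) * k).val by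
        rw [← pow_add, D.pow_eq_iff]; simp, ← h1]
      group
  obtain ⟨l, hl⟩ := hpow p
  rw [hp1] at hl
  obtain ⟨-, h2⟩ := D.pow_mul_H_inj (k := (0 : ZMod p)) (h := 1) (k' := l) (h' := h ^ p)
    (by simpa using hl)
  have h3 : h = 1 := by
    rw [← orderOf_eq_one_iff]
    have hd : orderOf h ∣ p := orderOf_dvd_of_pow_eq_one h2.symm
    rcases D.hp.eq_one_or_self_of_dvd _ hd with h4 | h4
    · exact h4
    · have h5 := orderOf_dvd_natCard h
      rw [h4] at h5
      exact absurd h5 D.hHp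
  rw [h3, OneMemClass.coe_one, mul_one]
  exact pow_mem (Subgroup.mem_zpowers _) _

theorem mem_Nx_of_conj (hTI : D.TIHyp) {v : D.V} (hv : v ∉ D.Zc) {i i' : ZMod p} {v' : D.V} {y : G}
    (h : y * D.pt (i, v) * y⁻¹ = D.pt (i', v')) : y * D.x * y⁻¹ ∈ Subgroup.zpowers D.x := by
  by_cases hi : i = 0
  · subst hi
    have hpt : D.pt (0, v) = ((v : D.H) : G) := by simp [pt]
    rw [hpt] at h
    have hi' : i' = 0 := by
      by_contra hne
      have h1 := D.dvd_orderOf_pt hne v'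
      rw [← h, show y * ((v : D.H) : G) * y⁻¹ = MulAut.conj y ((v : D.H) : G) from rfl,
        MulEquiv.orderOf_eq] at h1
      exact D.orderOf_V_not_dvd v h1
    subst hi'
    have hpt' : D.pt (0, v') = ((v' : D.H) : G) := by simp [pt]
    rw [hpt'] at h
    have hv' : v' ∉ D.Zc := fun hz => hv (by
      rw [mem_Zc] at hz ⊢
      rw [← h] at hz
      have := (inferInstance : (Subgroup.center G).Normal).conj_mem _ hz y⁻¹
      simpa [mul_assoc] using this)
    have hc : Commute (y * D.x * y⁻¹) ((v' : D.H) : G) := by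
      rw [← h]
      exact Commute.conj (D.mem_V.1 v.2).symm y
    refine D.mem_zpowers_of_pow_eq_one (hTI v' hv' _ hc) ?_
    rw [_root_.conj_pow, show D.x ^ p = 1 from orderOf_dvd_iff_pow_eq_one.1 (dvd_of_eq D.hx), mul_one, mul_inv_cancel]
  · obtain ⟨h₁, hy, -⟩ := D.exists_H_of_conj hi h
    rw [hy]
    exact pow_mem (Subgroup.mem_zpowers _) _

theorem count_pt_noncentral (hTI : D.TIHyp) {v : D.V} (hv : v ∉ D.Zc) (i i' : ZMod p) (v' : D.V) :
    Nat.card {y : G // y * D.pt (i, v) * y⁻¹ = D.pt (i', v')} =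
      p * Nat.card {h : D.H // (h : G) * D.pt (i, v) * (h : G)⁻¹ = D.pt (i', v')} := by
  have key : ∀ (k : ℕ) (h : G), D.x ^ k * h * D.pt (i, v) * (D.x ^ k * h)⁻¹ = D.pt (i', v') ↔
      h * D.pt (i, v) * h⁻¹ = D.pt (i', v') := by
    intro k h
    have hc : Commute (D.x ^ k) (D.pt (i', v')) := ((D.commute_pt _).pow_right k).symm
    rw [mul_inv_rev, show D.x ^ k * h * D.pt (i, v) * (h⁻¹ * (D.x ^ k)⁻¹) =
      D.x ^ k * (h * D.pt (i, v) * h⁻¹) * (D.x ^ k)⁻¹ by group]
    constructor <;> intro hh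
    · have h2 := congrArg (fun z => (D.x ^ k)⁻¹ * z * D.x ^ k) hh
      simp only [mul_assoc, inv_mul_cancel_left, inv_mul_cancel, mul_one] at h2
      rw [← hc.eq, inv_mul_cancel_left, ← mul_assoc] at h2
      exact h2
    · rw [hh, hc.eq, mul_inv_cancel_right]
  refine Eq.trans ?_ ((Nat.card_prod (ZMod p)
    {h : D.H // (h : G) * D.pt (i, v) * (h : G)⁻¹ = D.pt (i', v')}).trans (by rw [Nat.card_zmod]))
  refine (Nat.card_congr (Equiv.ofBijective (fun q => (⟨D.x ^ q.1.val * ((q.2.1 : D.H) : G),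
    (key _ _).2 q.2.2⟩ : {y : G // y * D.pt (i, v) * y⁻¹ = D.pt (i', v')})) ⟨?_, ?_⟩)).symm
  · rintro ⟨k, h, hh⟩ ⟨k', h', hh'⟩ heq
    obtain ⟨rfl, rfl⟩ := D.pow_mul_H_inj (congrArg Subtype.val heq)
    rfl
  · rintro ⟨y, hy⟩
    obtain ⟨k, h, rfl⟩ := D.mem_normalizer_iff_exists.1
      ((normalizer_iff_zpowers D.x y).2 (D.mem_Nx_of_conj hTI hv hy))
    exact ⟨(k, ⟨h, (key k.val h).1 hy⟩), rfl⟩

/-- The multiplicity of `λ_j ⊗ φ` as a natural number. -/
noncomputable def mn (χ : IrrCharacter G) (j : ZMod p) (φ : IrrCharacter D.V) : ℕ :=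
  Classical.choose (D.exists_nat_mm (isCharacter_of_irr χ.2) j (isCharacter_of_irr φ.2))

theorem mn_eq (χ : IrrCharacter G) (j : ZMod p) (φ : IrrCharacter D.V) :
    (D.mn χ j φ : ℂ) = D.mm (χ : G → ℂ) j (φ : D.V → ℂ) :=
  (Classical.choose_spec (D.exists_nat_mm (isCharacter_of_irr χ.2) j (isCharacter_of_irr φ.2))).symm

theorem mn_eq_add (χ : IrrCharacter G) (j : ZMod p) (φ : IrrCharacter D.V) :
    (D.mn χ j φ : ℤ) = (D.mn χ 0 φ : ℤ) + D.d χ j φ := by
  apply Int.cast_injective (α := ℂ)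
  push_cast
  rw [mn_eq, mn_eq, d_eq, dd]
  ring

theorem apply_pt_all {χ : G → ℂ} (hχ : IsClassFunction G χ) (i : ZMod p) (v : D.V) :
    χ (D.pt (i, v)) = ∑ φ : IrrCharacter D.V, ∑ j, D.mm χ j φ * ee (i * j) * (φ : D.V → ℂ) v := by
  have h := congrFun (classFun_expand (D.isClassFunction_pt hχ i)) v
  rw [h, Finset.sum_apply]
  refine Finset.sum_congr rfl fun φ _ => ?_
  rw [Pi.smul_apply, smul_eq_mul, ← Finset.sum_mul, D.sum_mm_ee]
  rfl

/-- The combination of characters. -/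
noncomputable def fz (z : IrrCharacter D.V → ℤ) (v : D.V) : ℂ :=
  ∑ φ : IrrCharacter D.V, (z φ : ℂ) * (φ : D.V → ℂ) v

/-- The combination of multiplicities. -/
noncomputable def Y (z : IrrCharacter D.V → ℤ) (χ : IrrCharacter G) (a : ZMod p) : ℤ :=
  ∑ φ : IrrCharacter D.V, z φ * (D.mn χ a φ : ℤ)

/-- Its coefficient on the singular sections. -/
noncomputable def cz (z : IrrCharacter D.V → ℤ) (χ : G → ℂ) (i : ZMod p) : ℂ :=
  classInner (fun v : D.V => χ (D.pt (i, v))) (D.fz z)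

theorem Y_eq (z : IrrCharacter D.V → ℤ) (χ : IrrCharacter G) (a : ZMod p) :
    (D.Y z χ a : ℂ) = (p : ℂ)⁻¹ * ∑ i, D.cz z (χ : G → ℂ) i * conj (ee (i * a)) := by
  simp only [Y, Int.cast_sum, Int.cast_mul, Int.cast_natCast, mn_eq, mm, cz, fz, classInner_eq, cc, map_sum,
    map_mul, map_intCast, Finset.mul_sum, Finset.sum_mul]
  rw [Finset.sum_comm]
  refine Finset.sum_congr rfl fun i _ => ?_
  rw [Finset.sum_comm]
  exact Finset.sum_congr rfl fun v _ => Finset.sum_congr rfl fun φ _ => by ring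

theorem classInner_fz (z : IrrCharacter D.V → ℤ) :
    classInner (D.fz z) (D.fz z) = ((∑ φ : IrrCharacter D.V, z φ ^ 2 : ℤ) : ℂ) := by
  classical
  have h : D.fz z = ∑ φ : IrrCharacter D.V, (z φ : ℂ) • (φ : D.V → ℂ) := by
    funext v; simp [fz, Finset.sum_apply]
  rw [h, classInner_sum_left]
  push_cast
  refine Finset.sum_congr rfl fun φ _ => ?_
  rw [classInner_smul_left, classInner_sum_right, Finset.sum_eq_single φ]
  · rw [show classInner (φ : D.V → ℂ) ((z φ : ℂ) • (φ : D.V → ℂ)) = (z φ : ℂ) by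
      rw [classInner_comm, classInner_smul_left, classInner_self φ.2, mul_one, map_intCast]]
    ring
  · intro ψ _ hψ
    rw [classInner_comm, classInner_smul_left, classInner_irr, if_neg hψ, mul_zero, map_zero]
  · simp

theorem isClassFunction_fz (z : IrrCharacter D.V → ℤ) : IsClassFunction D.V (D.fz z) := fun v g =>
  Finset.sum_congr rfl fun φ _ => by rw [isClassFunction (isCharacter_of_irr φ.2) v g]

theorem gram_Y (hTI : D.TIHyp) [Fintype (IrrCharacter G)] (z : IrrCharacter D.V → ℤ)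
    (hz : ∀ v ∈ D.Zc, D.fz z v = 0) {a b : (ZMod p)ˣ}
    (hab : a = b ∨ ∀ h : D.H, D.r h * (b : ZMod p) ≠ a) :
    ∑ χ : IrrCharacter G, D.Y z χ a * D.Y z χ b = if a = b then ∑ φ : IrrCharacter D.V, z φ ^ 2 else 0 := by
  classical
  apply Int.cast_injective (α := ℂ)
  push_cast
  have hconj : ∀ χ : IrrCharacter G, (D.Y z χ b : ℂ) =
      conj ((p : ℂ)⁻¹ * ∑ i, D.cz z (χ : G → ℂ) i * conj (ee (i * (b : ZMod p)))) := fun χ => by
    rw [← Y_eq, map_intCast]
  let conjV : D.H → D.V → D.V := fun h v => ⟨h * v * h⁻¹, D.normal_V.conj_mem _ v.2 h⟩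
  have hsum : ∀ i i', ∑ χ : IrrCharacter G, D.cz z (χ : G → ℂ) i * conj (D.cz z (χ : G → ℂ) i') =
      (p : ℂ) * (Nat.card D.V : ℂ)⁻¹ * ∑ h : D.H, (if D.r h * i = i' then (1 : ℂ) else 0) *
        classInner (fun v => D.fz z (conjV h v)) (D.fz z) := by
    intro i i'
    have hcount : ∀ v v' : D.V, conj (D.fz z v) *
        ∑ χ : IrrCharacter G, (χ : G → ℂ) (D.pt (i, v)) * conj ((χ : G → ℂ) (D.pt (i', v'))) =
        conj (D.fz z v) * ((p : ℂ) * ∑ h : D.H, (if D.r h * i = i' then (1 : ℂ) else 0) *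
          (if conjV h v = v' then 1 else 0)) := by
      intro v v'
      by_cases hv : v ∈ D.Zc
      · rw [hz v hv, map_zero, zero_mul, zero_mul]
      congr 1
      rw [sum_col_count, D.count_pt_noncentral hTI hv, Nat.cast_mul]
      congr 1
      rw [Nat.card_eq_fintype_card, Fintype.card_subtype, ← Finset.sum_boole]
      refine Finset.sum_congr rfl fun h _ => ?_
      rw [D.pt_conj]
      by_cases h1 : D.r h * i = i' ∧ conjV h v = v'
      · rw [if_pos (show D.pt (D.r h * i, conjV h v) = D.pt (i', v') by rw [h1.1, h1.2]), if_pos h1.1,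
          if_pos h1.2, one_mul]
      · rw [if_neg (fun he => h1 (D.pt_inj he))]
        rcases not_and_or.1 h1 with h2 | h2 <;> simp [h2]
    simp only [cz, classInner_eq, map_mul, map_inv₀, Complex.conj_natCast, map_sum, Complex.conj_conj]
    calc _ = (Nat.card D.V : ℂ)⁻¹ * (Nat.card D.V : ℂ)⁻¹ * ∑ v : D.V, ∑ v' : D.V,
          D.fz z v' * (conj (D.fz z v) *
            ∑ χ : IrrCharacter G, (χ : G → ℂ) (D.pt (i, v)) * conj ((χ : G → ℂ) (D.pt (i', v')))) := by
          simp only [Finset.mul_sum, Finset.sum_mul]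
          rw [Finset.sum_comm]
          rw [Finset.sum_congr rfl fun v' _ => Finset.sum_comm]
          rw [Finset.sum_comm]
          refine Finset.sum_congr rfl fun v _ => Finset.sum_congr rfl fun v' _ => Finset.sum_congr rfl fun χ _ => ?_
          ring
      _ = _ := by
          simp only [hcount, Finset.mul_sum]
          rw [Finset.sum_congr rfl fun v _ => Finset.sum_comm, Finset.sum_comm]
          refine Finset.sum_congr rfl fun h _ => Finset.sum_congr rfl fun v _ => ?_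
          rw [Finset.sum_eq_single (conjV h v) (fun b _ hb => by simp [Ne.symm hb])
            (fun hb => absurd (Finset.mem_univ _) hb), if_pos rfl]
          ring
  calc _ = (p : ℂ)⁻¹ * (p : ℂ)⁻¹ * ∑ i : ZMod p, ∑ i' : ZMod p, conj (ee (i * (a : ZMod p))) * ee (i' * (b : ZMod p)) *
        ∑ χ : IrrCharacter G, D.cz z (χ : G → ℂ) i * conj (D.cz z (χ : G → ℂ) i') := by
        rw [Finset.sum_congr rfl fun χ _ => by rw [D.Y_eq z χ a, hconj χ]]
        simp only [map_mul, map_inv₀, Complex.conj_natCast, map_sum, Complex.conj_conj, Finset.mul_sum,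
          Finset.sum_mul]
        rw [Finset.sum_comm, Finset.sum_comm (f := fun (i : ZMod p) (i' : ZMod p) => ∑ χ : IrrCharacter G, _)]
        refine Finset.sum_congr rfl fun i' _ => ?_
        rw [Finset.sum_comm]
        exact Finset.sum_congr rfl fun i _ => Finset.sum_congr rfl fun χ _ => by ring
    _ = (Nat.card D.V : ℂ)⁻¹ * ∑ h : D.H, (if D.r h * (b : ZMod p) = a then (1 : ℂ) else 0) *
        classInner (fun v => D.fz z (conjV h v)) (D.fz z) := by
        simp only [hsum, Finset.mul_sum]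
        rw [Finset.sum_congr rfl fun i _ => Finset.sum_comm, Finset.sum_comm]
        refine Finset.sum_congr rfl fun h _ => ?_
        rw [Finset.sum_congr rfl fun i _ => Finset.sum_eq_single (D.r h * i)
          (fun c _ hc => by simp [Ne.symm hc]) (fun hc => absurd (Finset.mem_univ _) hc)]
        have e1 : ∀ i : ZMod p, conj (ee (i * (a : ZMod p))) * ee (D.r h * i * (b : ZMod p)) =
            ee (i * (D.r h * (b : ZMod p) - (a : ZMod p))) := fun i => by
          rw [conj_ee, ← ee_add]; congr 1; ring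
        calc _ = (p : ℂ)⁻¹ * (Nat.card D.V : ℂ)⁻¹ * classInner (fun v => D.fz z (conjV h v)) (D.fz z) *
              ∑ i : ZMod p, ee (i * (D.r h * (b : ZMod p) - (a : ZMod p))) := by
              rw [Finset.mul_sum]
              refine Finset.sum_congr rfl fun i _ => ?_
              rw [if_pos rfl, ← e1]
              have := natCast_p_ne_zero (p := p)
              field_simp
          _ = _ := by
              rw [sum_ee_mul]
              simp only [sub_eq_zero]
              have := natCast_p_ne_zero (p := p)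
              split_ifs <;> field_simp
              simp
    _ = _ := by
        rcases hab with rfl | hab
        · have hr : ∀ h : D.H, D.r h * (a : ZMod p) = a ↔ h ∈ D.V := fun h => by
            rw [D.mem_V_iff_r, mul_eq_right₀ a.ne_zero]
          simp only [if_pos, hr]
          rw [Finset.sum_congr rfl (g := fun h : D.H => if h ∈ D.V then classInner (D.fz z) (D.fz z) else 0)
            (fun h _ => ?_), ← Finset.sum_filter, Finset.sum_const, nsmul_eq_mul, ← Fintype.card_subtype,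
            ← Nat.card_eq_fintype_card, inv_mul_cancel_left₀ D.natCast_V_ne_zero, D.classInner_fz]
          · push_cast; rfl
          · split_ifs with hh
            · rw [one_mul]
              congr 1
              funext v
              exact (congrArg (D.fz z) (Subtype.ext rfl)).trans (D.isClassFunction_fz z v ⟨h, hh⟩)
            · rw [zero_mul]
        · have hne : a ≠ b := fun he => hab 1 (by rw [D.r_one, one_mul, he])
          rw [if_neg hne, Finset.sum_eq_zero (fun h _ => by rw [if_neg (hab h), zero_mul]), mul_zero]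

/-- Bessel's inequality for the combination. -/
theorem bessel (hTI : D.TIHyp) (z : IrrCharacter D.V → ℤ) (hz : ∀ v ∈ D.Zc, D.fz z v = 0) {κ : Type*} [Fintype κ]
    (rep : κ → (ZMod p)ˣ) (hrep : ∀ k l, k ≠ l → ∀ h : D.H, D.r h * (rep l : ZMod p) ≠ rep k)
    (χ : IrrCharacter G) (y : ℤ) (hy : ∀ k, D.Y z χ (rep k) = y) :
    (Fintype.card κ : ℤ) * y ^ 2 ≤ ∑ φ : IrrCharacter D.V, z φ ^ 2 := by
  classical
  haveI : Fintype (IrrCharacter G) := Fintype.ofFinite _
  rcases Nat.eq_zero_or_pos (Fintype.card κ) with h0 | hpos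
  · rw [h0, Nat.cast_zero, zero_mul]; exact Finset.sum_nonneg fun φ _ => sq_nonneg _
  have hg : ∀ k l, ∑ ψ : IrrCharacter G, D.Y z ψ (rep k) * D.Y z ψ (rep l) =
      if k = l then ∑ φ : IrrCharacter D.V, z φ ^ 2 else 0 := by
    intro k l
    by_cases hkl : k = l
    · subst hkl; rw [D.gram_Y hTI z hz (Or.inl rfl), if_pos rfl, if_pos rfl]
    · have hne : rep k ≠ rep l := fun h => hrep k l hkl 1 (by rw [D.r_one, one_mul, h])
      rw [D.gram_Y hTI z hz (Or.inr (hrep k l hkl)), if_neg hkl, if_neg hne]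
  have h1 : ∑ ψ : IrrCharacter G, (∑ k, D.Y z ψ (rep k)) ^ 2 =
      (Fintype.card κ : ℤ) * ∑ φ : IrrCharacter D.V, z φ ^ 2 := by
    simp only [sq, Finset.sum_mul, Finset.mul_sum]
    rw [Finset.sum_comm]
    rw [Finset.sum_congr rfl fun k _ => Finset.sum_comm]
    simp only [hg, Finset.sum_ite_eq, Finset.mem_univ, if_true, Finset.sum_const, Finset.card_univ, nsmul_eq_mul]
    simp [sq, Finset.mul_sum]
  have h2 := Finset.single_le_sum (f := fun ψ : IrrCharacter G => (∑ k, D.Y z ψ (rep k)) ^ 2)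
    (fun ψ _ => sq_nonneg _) (Finset.mem_univ χ)
  rw [h1] at h2
  simp only [hy, Finset.sum_const, Finset.card_univ, nsmul_eq_mul] at h2
  have hc : (0 : ℤ) < Fintype.card κ := by exact_mod_cast hpos
  refine le_of_mul_le_mul_left ?_ hc
  calc _ = ((Fintype.card κ : ℤ) * y) ^ 2 := by ring
    _ ≤ _ := h2

/-- The characters of `V` trivial on the central part. -/
noncomputable def supp : Finset (IrrCharacter D.V) :=
  open scoped Classical in Finset.univ.filter fun φ => ∀ z ∈ D.Zc, (φ : D.V → ℂ) z = (φ : D.V → ℂ) 1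

theorem mem_supp {φ : IrrCharacter D.V} : φ ∈ D.supp ↔ ∀ z ∈ D.Zc, (φ : D.V → ℂ) z = (φ : D.V → ℂ) 1 := by
  simp [supp]

theorem one_mem_supp : D.one ∈ D.supp := D.mem_supp.2 fun _ _ => rfl

theorem sum_supp_sq : ∑ φ ∈ D.supp, charDegree (φ : D.V → ℂ) ^ 2 = D.Zc.index := by
  classical
  have h1 : ∀ φ : IrrCharacter D.V, ∑ z : D.Zc, (charDegree (φ : D.V → ℂ) : ℂ) * (φ : D.V → ℂ) z =
      if φ ∈ D.supp then (Nat.card D.Zc : ℂ) * (charDegree (φ : D.V → ℂ) : ℂ) ^ 2 else 0 := by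
    intro φ
    rcases sum_normal_irr D.Zc φ with ⟨ha, hb⟩ | ⟨ha, hb⟩
    · rw [if_pos (D.mem_supp.2 ha), ← Finset.mul_sum]
      have := hb 1
      simp only [one_mul] at this
      rw [this, apply_one (isCharacter_of_irr φ.2)]
      ring
    · rw [if_neg (fun h => ha (D.mem_supp.1 h)), ← Finset.mul_sum]
      have := hb 1
      simp only [one_mul] at this
      rw [this, mul_zero]
  have h2 : ∑ φ : IrrCharacter D.V, ∑ z : D.Zc, (charDegree (φ : D.V → ℂ) : ℂ) * (φ : D.V → ℂ) z =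
      (Nat.card D.V : ℂ) := by
    rw [Finset.sum_comm, Finset.sum_eq_single (1 : D.Zc)]
    · simp only [OneMemClass.coe_one, apply_one (isCharacter_of_irr (Subtype.prop _))]
      rw [← sum_sq_degree (G := D.V)]
      push_cast
      exact Finset.sum_congr rfl fun φ _ => by rw [sq]
    · intro z _ hz
      exact sum_mul_degree (fun h => hz (Subtype.ext h))
    · simp
  simp only [h1, Finset.sum_ite_mem, Finset.univ_inter] at h2
  rw [← Finset.mul_sum, ← Subgroup.card_mul_index D.Zc, Nat.cast_mul] at h2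
  exact_mod_cast mul_left_cancel₀ (Nat.cast_ne_zero.2 Nat.card_pos.ne') h2

theorem deg_sq_le (φ : IrrCharacter D.V) : charDegree (φ : D.V → ℂ) ^ 2 ≤ D.Zc.index := by
  classical
  have hz : ∀ z : D.Zc, ‖(φ : D.V → ℂ) z‖ = (charDegree (φ : D.V → ℂ) : ℝ) := by
    intro z
    have hc : (z : D.V) ∈ Subgroup.center D.V := Subgroup.mem_center_iff.2 fun g => by
      apply Subtype.ext; apply Subtype.ext
      push_cast
      exact Subgroup.mem_center_iff.1 (D.mem_Zc.1 z.2) _
    have h := center_mul φ.2 hc (z : D.V)⁻¹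
    rw [mul_inv_cancel, apply_inv (isCharacter_of_irr φ.2), Complex.mul_conj', apply_one (isCharacter_of_irr φ.2)] at h
    have h' : ((charDegree (φ : D.V → ℂ) : ℝ)) ^ 2 = ‖(φ : D.V → ℂ) z‖ ^ 2 := by
      rw [sq]; exact_mod_cast h
    exact (pow_left_inj₀ (Nat.cast_nonneg _) (norm_nonneg _) two_ne_zero).1 h' |>.symm
  have h1 : ∑ v : D.V, ‖(φ : D.V → ℂ) v‖ ^ 2 = (Nat.card D.V : ℝ) := by
    have := sum_normSq_irr φ
    exact this
  have h2 : ∑ z : D.Zc, ‖(φ : D.V → ℂ) z‖ ^ 2 ≤ ∑ v : D.V, ‖(φ : D.V → ℂ) v‖ ^ 2 := by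
    refine le_trans (le_of_eq (Finset.sum_map Finset.univ (Function.Embedding.subtype _)
      (fun v : D.V => ‖(φ : D.V → ℂ) v‖ ^ 2)).symm) (Finset.sum_le_sum_of_subset_of_nonneg (Finset.subset_univ _)
      fun _ _ _ => sq_nonneg _)
  simp only [hz, Finset.sum_const, Finset.card_univ, nsmul_eq_mul, ← Nat.card_eq_fintype_card] at h2
  rw [h1, ← Subgroup.card_mul_index D.Zc, Nat.cast_mul] at h2
  have h3 := le_of_mul_le_mul_left h2 (Nat.cast_pos.2 Nat.card_pos)
  exact_mod_cast h3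

/-- The dimension of an eigenspace of `x`. -/
theorem dim_bound (hTI : D.TIHyp) (χ : IrrCharacter G) {κ : Type*} [Fintype κ] (rep : κ → (ZMod p)ˣ)
    (hrep : ∀ k l, k ≠ l → ∀ h : D.H, D.r h * (rep l : ZMod p) ≠ rep k) (c : ZMod p)
    (hconst : ∀ k, ∀ φ ∈ D.supp, D.mn χ (rep k) φ = D.mn χ c φ) (hne : ∃ φ ∈ D.supp, D.mn χ c φ ≠ 0) :
    D.Zc.index * (Fintype.card κ - 1) ≤
      Fintype.card κ * (∑ φ ∈ D.supp, D.mn χ c φ * charDegree (φ : D.V → ℂ)) ^ 2 := by
  classical
  set Dm := ∑ φ ∈ D.supp, D.mn χ c φ * charDegree (φ : D.V → ℂ) with hDm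
  set μ2 := ∑ φ ∈ D.supp, D.mn χ c φ ^ 2 with hμ2
  set K := D.Zc.index with hK
  have hμpos : 1 ≤ μ2 := by
    obtain ⟨φ, hφ, h0⟩ := hne
    exact le_trans (Nat.one_le_iff_ne_zero.2 (pow_ne_zero 2 h0))
      (Finset.single_le_sum (f := fun φ => D.mn χ c φ ^ 2) (fun _ _ => Nat.zero_le _) hφ)
  let z : IrrCharacter D.V → ℤ := fun φ =>
    if φ ∈ D.supp then (K : ℤ) * D.mn χ c φ - (Dm : ℤ) * charDegree (φ : D.V → ℂ) else 0
  have hz0 : ∀ v ∈ D.Zc, D.fz z v = 0 := by
    intro v hv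
    have : D.fz z v = ((∑ φ ∈ D.supp, ((K : ℤ) * D.mn χ c φ - (Dm : ℤ) * charDegree (φ : D.V → ℂ)) *
        (charDegree (φ : D.V → ℂ) : ℤ) : ℤ) : ℂ) := by
      simp only [fz, z]
      rw [← Finset.sum_subset (Finset.subset_univ D.supp) (fun φ _ hφ => by simp [hφ])]
      push_cast
      refine Finset.sum_congr rfl fun φ hφ => ?_
      rw [if_pos hφ, D.mem_supp.1 hφ v hv, apply_one (isCharacter_of_irr φ.2)]
    rw [this]
    have hsum : ∑ φ ∈ D.supp, ((K : ℤ) * D.mn χ c φ - (Dm : ℤ) * charDegree (φ : D.V → ℂ)) *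
        (charDegree (φ : D.V → ℂ) : ℤ) = 0 := by
      have hK' : (K : ℤ) = ∑ φ ∈ D.supp, (charDegree (φ : D.V → ℂ) : ℤ) ^ 2 := by
        rw [hK, ← D.sum_supp_sq]; push_cast; rfl
      simp only [sub_mul, Finset.sum_sub_distrib, mul_assoc, ← Finset.mul_sum, ← sq, ← hK']
      rw [show ∑ φ ∈ D.supp, (D.mn χ c φ : ℤ) * (charDegree (φ : D.V → ℂ) : ℤ) = (Dm : ℤ) by
        rw [hDm]; push_cast; rfl]
      try ring
    rw [hsum, Int.cast_zero]
  set y : ℤ := (K : ℤ) * μ2 - (Dm : ℤ) ^ 2 with hy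
  have hY : ∀ k, D.Y z χ (rep k) = y := by
    intro k
    simp only [Y, z, ite_mul, zero_mul]
    rw [Finset.sum_ite_mem, Finset.univ_inter, Finset.sum_congr rfl fun φ hφ => by rw [hconst k φ hφ]]
    have e : ∀ φ : IrrCharacter D.V,
        ((K : ℤ) * D.mn χ c φ - (Dm : ℤ) * charDegree (φ : D.V → ℂ)) * (D.mn χ c φ : ℤ) =
          (K : ℤ) * (D.mn χ c φ : ℤ) ^ 2 - (Dm : ℤ) * ((D.mn χ c φ : ℤ) * charDegree (φ : D.V → ℂ)) :=
      fun φ => by ring
    simp only [e, Finset.sum_sub_distrib, ← Finset.mul_sum]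
    rw [hy, show ∑ φ ∈ D.supp, (D.mn χ c φ : ℤ) * (charDegree (φ : D.V → ℂ) : ℤ) = (Dm : ℤ) by
        rw [hDm]; push_cast; rfl,
      show ∑ φ ∈ D.supp, (D.mn χ c φ : ℤ) ^ 2 = (μ2 : ℤ) by rw [hμ2]; push_cast; rfl, sq]
  have hz2 : ∑ φ : IrrCharacter D.V, z φ ^ 2 = (K : ℤ) * y := by
    simp only [z, ite_pow, zero_pow two_ne_zero]
    rw [Finset.sum_ite_mem, Finset.univ_inter]
    have e : ∀ φ : IrrCharacter D.V, ((K : ℤ) * D.mn χ c φ - (Dm : ℤ) * charDegree (φ : D.V → ℂ)) ^ 2 =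
        (K : ℤ) ^ 2 * (D.mn χ c φ : ℤ) ^ 2 - 2 * (K : ℤ) * Dm * ((D.mn χ c φ : ℤ) * charDegree (φ : D.V → ℂ)) +
          (Dm : ℤ) ^ 2 * (charDegree (φ : D.V → ℂ) : ℤ) ^ 2 := fun φ => by ring
    simp only [e, Finset.sum_add_distrib, Finset.sum_sub_distrib, ← Finset.mul_sum]
    rw [show ∑ φ ∈ D.supp, (D.mn χ c φ : ℤ) * (charDegree (φ : D.V → ℂ) : ℤ) = (Dm : ℤ) by
        rw [hDm]; push_cast; rfl,
      show ∑ φ ∈ D.supp, (charDegree (φ : D.V → ℂ) : ℤ) ^ 2 = (K : ℤ) by
        rw [hK, ← D.sum_supp_sq]; push_cast; rfl,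
      show ∑ φ ∈ D.supp, (D.mn χ c φ : ℤ) ^ 2 = (μ2 : ℤ) by rw [hμ2]; push_cast; rfl, hy]
    ring
  have hb := D.bessel hTI z hz0 rep hrep χ y hY
  rw [hz2] at hb
  have hμ' : (1 : ℤ) ≤ μ2 := by exact_mod_cast hμpos
  rcases Nat.eq_zero_or_pos (Fintype.card κ) with hs | hs
  · rw [hs]; simp
  zify [hs]
  rcases le_or_gt y 0 with hy0 | hy0
  · have hK0 : (0 : ℤ) ≤ K := Int.natCast_nonneg _
    have : (K : ℤ) ≤ (Dm : ℤ) ^ 2 := by
      rw [hy] at hy0; nlinarith
    nlinarith
  · have h5 : (Fintype.card κ : ℤ) * y ≤ K := by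
      refine le_of_mul_le_mul_right ?_ hy0
      rw [mul_assoc, ← sq]; exact hb
    rw [hy] at h5
    have hs' : (1 : ℤ) ≤ Fintype.card κ := by exact_mod_cast hs
    nlinarith [mul_nonneg (mul_nonneg (Int.natCast_nonneg (Fintype.card κ)) (Int.natCast_nonneg K)) (sub_nonneg.2 hμ')]

end Data

end CfsgLib.DefectOne
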