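import Cfsg.Agent.DefectOne.DBound
import Cfsg.Agent.Exceptional.Gram

/-!
# The characters attached to an orbit on `Irr V`

For each `φ` there is a family indexed by the cosets of the exponent group `U φ`, whose vectors at `φ` are unit
vectors up to one sign; every other character has a constant vector with entries `0, ±1`, and a character has a
non-zero vector on at most one orbit.
-/

set_option autoImplicit false
set_option linter.style.haveILetI false
set_option linter.unusedSectionVars false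

namespace CfsgLib.DefectOne

open Cfsg CfsgLib.CharBasics
open scoped ComplexConjugate

universe u

namespace Data

variable {G : Type u} [Group G] [Fintype G] {p : ℕ} [Fact p.Prime] (D : Data G p)

/-- The exponents of the inertia group. -/
noncomputable def U (φ : IrrCharacter D.V) : Subgroup (ZMod p)ˣ :=
  (Clifford.inertia (G := D.H) (φ : D.V → ℂ)).map D.rHom

/-- The index set of the family. -/
abbrev Idx (φ : IrrCharacter D.V) := (ZMod p)ˣ ⧸ D.U φ

noncomputable instance fintypeIdx (φ : IrrCharacter D.V) : Fintype (D.Idx φ) := Fintype.ofFinite _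

/-- The class of an exponent. -/
noncomputable def cls (φ : IrrCharacter D.V) (a : (ZMod p)ˣ) : D.Idx φ := QuotientGroup.mk a

theorem cls_mul (φ : IrrCharacter D.V) (a b : (ZMod p)ˣ) : D.cls φ (a * b) = D.cls φ a * D.cls φ b := rfl

theorem cls_surj (φ : IrrCharacter D.V) (q : D.Idx φ) : ∃ a, D.cls φ a = q := Quotient.exists_rep q

theorem mem_inertia_iff {φ : IrrCharacter D.V} {h : D.H} :
    h ∈ Clifford.inertia (G := D.H) (φ : D.V → ℂ) ↔ D.cj h φ = φ := by
  rw [Clifford.mem_inertia, Subtype.ext_iff]; rfl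

theorem V_le_inertia (φ : IrrCharacter D.V) : D.V ≤ Clifford.inertia (G := D.H) (φ : D.V → ℂ) :=
  Clifford.le_inertia (isClassFunction (isCharacter_of_irr φ.2))

theorem mem_U {φ : IrrCharacter D.V} {u : (ZMod p)ˣ} : u ∈ D.U φ ↔ ∃ h, D.cj h φ = φ ∧ D.rHom h = u := by
  simp only [U, Subgroup.mem_map, mem_inertia_iff]

theorem card_U_mul_index (φ : IrrCharacter D.V) : Nat.card (D.U φ) * (D.U φ).index = p - 1 := by
  rw [Subgroup.card_mul_index, Nat.card_units, Nat.card_zmod]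

theorem card_Idx (φ : IrrCharacter D.V) : Fintype.card (D.Idx φ) = (D.U φ).index := by
  rw [Subgroup.index, Nat.card_eq_fintype_card]

theorem sum_inertia [DecidableEq (IrrCharacter D.V)] (φ : IrrCharacter D.V) [Fintype (D.U φ)]
    (f : (ZMod p)ˣ → ℤ) :
    ∑ h : D.H, (if D.cj h φ = φ then f (D.rHom h) else 0) = (Nat.card D.V : ℤ) * ∑ u : D.U φ, f u := by
  classical
  rw [← Finset.sum_filter,
    ← Finset.sum_fiberwise_of_maps_to (g := D.rHom) (t := Finset.univ.map (Function.Embedding.subtype _))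
      (fun h hh => Finset.mem_map.2 ⟨⟨D.rHom h, D.mem_U.2 ⟨h, (Finset.mem_filter.1 hh).2, rfl⟩⟩, Finset.mem_univ _, rfl⟩),
    Finset.sum_map, Finset.mul_sum]
  refine Finset.sum_congr rfl fun u _ => ?_
  obtain ⟨h₀, h₀φ, h₀u⟩ := D.mem_U.1 u.2
  rw [Finset.sum_congr rfl (g := fun _ => f u) (fun h hh => by rw [(Finset.mem_filter.1 hh).2]; rfl),
    Finset.sum_const, nsmul_eq_mul]
  congr 1
  norm_cast
  rw [Nat.card_eq_fintype_card, ← Finset.card_univ]
  refine (Finset.card_bij (fun (v : D.V) _ => h₀ * (v : D.H)) (fun v _ => ?_) (fun v _ w _ hvw => ?_)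
    (fun h hh => ?_)).symm
  · simp only [Finset.mem_filter, Finset.mem_univ, true_and]
    have hv : D.cj (v : D.H) φ = φ := D.mem_inertia_iff.1 (D.V_le_inertia φ v.2)
    refine ⟨by rw [← D.cj_cj, h₀φ, hv], ?_⟩
    rw [map_mul, h₀u, show D.rHom (v : D.H) = 1 by
      rw [← MonoidHom.mem_ker, D.ker_rHom]; exact v.2, mul_one]
    rfl
  · exact Subtype.ext (mul_left_cancel hvw)
  · simp only [Finset.mem_filter, Finset.mem_univ, true_and] at hh
    refine ⟨⟨h₀⁻¹ * h, ?_⟩, Finset.mem_univ _, by simp⟩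
    rw [← D.ker_rHom, MonoidHom.mem_ker, map_mul, map_inv, h₀u, hh.2]
    exact inv_mul_cancel _

theorem gram_ne [Fintype (IrrCharacter G)] {φ φ' : IrrCharacter D.V} (h : φ' ∉ D.orb φ) (a b : (ZMod p)ˣ) :
    ∑ χ : IrrCharacter G, D.d χ (a : ZMod p) φ * D.d χ (b : ZMod p) φ' = 0 := by
  classical
  have h1 := D.gram a.ne_zero b.ne_zero φ φ'
  rw [Finset.sum_eq_zero (fun x _ => if_neg fun hx => h (by
    rw [← hx, D.orb_cj]; exact D.self_mem_orb φ'))] at h1
  rcases mul_eq_zero.1 h1 with h2 | h2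
  · exact absurd h2 (by exact_mod_cast Nat.card_pos.ne')
  · exact h2

theorem gram_self [Fintype (IrrCharacter G)] (φ : IrrCharacter D.V) [DecidableEq (D.Idx φ)] (a b : (ZMod p)ˣ) :
    ∑ χ : IrrCharacter G, D.d χ (a : ZMod p) φ * D.d χ (b : ZMod p) φ =
      (if D.cls φ a = D.cls φ b then 1 else 0) + (Nat.card (D.U φ) : ℤ) := by
  classical
  have h1 := D.gram a.ne_zero b.ne_zero φ φ
  have e : ∀ h : D.H, ((if D.r h * (b : ZMod p) = a then (1 : ℤ) else 0) + 1) =
      (fun u : (ZMod p)ˣ => (if u * b = a then (1 : ℤ) else 0) + 1) (D.rHom h) := fun h => by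
    simp only [Units.ext_iff, Units.val_mul, D.rHom_apply]
  simp only [e] at h1
  rw [D.sum_inertia φ (fun u : (ZMod p)ˣ => (if u * b = a then (1 : ℤ) else 0) + 1)] at h1
  rw [mul_left_cancel₀ (by exact_mod_cast Nat.card_pos.ne') h1, Finset.sum_add_distrib]
  congr 1
  · have hiff : D.cls φ a = D.cls φ b ↔ a * b⁻¹ ∈ D.U φ := by
      rw [cls, cls, eq_comm, QuotientGroup.eq, mul_comm]
    by_cases hm : a * b⁻¹ ∈ D.U φ
    · rw [if_pos (hiff.2 hm), Finset.sum_eq_single ⟨_, hm⟩]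
      · simp
      · intro u _ hu
        rw [if_neg]
        intro hub
        exact hu (Subtype.ext (eq_mul_inv_of_mul_eq hub))
      · simp
    · rw [if_neg (fun hh => hm (hiff.1 hh))]
      refine Finset.sum_eq_zero fun u _ => if_neg fun hub => hm ?_
      rw [← hub]; simp
  · simp [Nat.card_eq_fintype_card]

theorem d_U (χ : IrrCharacter G) {φ : IrrCharacter D.V} {u : (ZMod p)ˣ} (hu : u ∈ D.U φ) (j : ZMod p) :
    D.d χ ((u : ZMod p) * j) φ = D.d χ j φ := by
  obtain ⟨h, hφ, rfl⟩ := D.mem_U.1 hu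
  have := D.d_conj χ h j φ
  rwa [hφ] at this

/-- The vector as a function on the index set. -/
noncomputable def dq (χ : IrrCharacter G) (φ : IrrCharacter D.V) (q : D.Idx φ) : ℤ :=
  D.d χ ((Quotient.out q : (ZMod p)ˣ) : ZMod p) φ

theorem dq_cls (χ : IrrCharacter G) (φ : IrrCharacter D.V) (a : (ZMod p)ˣ) :
    D.dq χ φ (D.cls φ a) = D.d χ (a : ZMod p) φ := by
  obtain ⟨u, hu⟩ := QuotientGroup.mk_out_eq_mul (D.U φ) a
  rw [dq, show (Quotient.out (D.cls φ a) : (ZMod p)ˣ) = a * u from hu, Units.val_mul, mul_comm, D.d_U χ u.2]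

/-- A constant vector. -/
def Const (χ : IrrCharacter G) (φ : IrrCharacter D.V) : Prop :=
  ∀ a b : (ZMod p)ˣ, D.d χ (a : ZMod p) φ = D.d χ (b : ZMod p) φ

theorem const_cj {χ : IrrCharacter G} {φ : IrrCharacter D.V} (h : D.Const χ φ) (g : D.H) :
    D.Const χ (D.cj g φ) := by
  intro a b
  have e : ∀ a : (ZMod p)ˣ, D.d χ (a : ZMod p) (D.cj g φ) =
      D.d χ (((D.rHom g)⁻¹ * a : (ZMod p)ˣ) : ZMod p) φ := fun a => by
    rw [← D.d_conj χ g _ φ, ← D.rHom_apply, ← Units.val_mul, mul_inv_cancel_left]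
  rw [e, e]; exact h _ _

theorem const_orb {χ : IrrCharacter G} {φ φ' : IrrCharacter D.V} (h : D.Const χ φ) (h' : φ' ∈ D.orb φ) :
    D.Const χ φ' := by
  obtain ⟨g, rfl⟩ := D.mem_orb.1 h'
  exact D.const_cj h g

theorem orb_symm {φ φ' : IrrCharacter D.V} (h : φ' ∈ D.orb φ) : φ ∈ D.orb φ' := by
  rw [D.orb_eq_of_mem h]; exact D.self_mem_orb φ

theorem subsingleton_const (χ : IrrCharacter G) (φ : IrrCharacter D.V) (h : ∀ q q' : D.Idx φ, q = q') :
    D.Const χ φ := fun a b => by rw [← D.dq_cls, ← D.dq_cls, h (D.cls φ a) (D.cls φ b)]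

/-- The exceptional characters before normalisation. -/
theorem exists_pre (φ : IrrCharacter D.V) (htwo : ∃ q q' : D.Idx φ, q ≠ q') :
    ∃ (ε c : ℤ) (θ : D.Idx φ → IrrCharacter G), (ε = 1 ∨ ε = -1) ∧ Function.Injective θ ∧
      (∀ q q' [Decidable (q = q')], D.dq (θ q) φ q' = c + if q = q' then ε else 0) ∧
      (∀ u q, D.tw u (θ q) = θ (D.cls φ u * q)) ∧ ∀ χ, χ ∉ Set.range θ → D.Const χ φ := by
  classical
  haveI : Fintype (IrrCharacter G) := Fintype.ofFinite _
  set F : D.Idx φ → D.Idx φ → G → ℂ := fun a b =>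
    ∑ χ : IrrCharacter G, ((D.dq χ φ a - D.dq χ φ b : ℤ) : ℂ) • (χ : G → ℂ) with hF
  have hcoef : ∀ a b, ∀ χ : IrrCharacter G, classInner (F a b) (χ : G → ℂ) = ((D.dq χ φ a - D.dq χ φ b : ℤ) : ℂ) := by
    intro a b χ
    simp [hF, classInner_sum_left, classInner_smul_left, classInner_irr]
  have hgram : ∀ a b : D.Idx φ, ∑ χ : IrrCharacter G, D.dq χ φ a * D.dq χ φ b =
      (if a = b then 1 else 0) + (Nat.card (D.U φ) : ℤ) := by
    intro a b
    obtain ⟨a, rfl⟩ := D.cls_surj φ a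
    obtain ⟨b, rfl⟩ := D.cls_surj φ b
    simp only [dq_cls]
    exact D.gram_self φ a b
  have hinner : ∀ i j k l, classInner (F i j) (F k l) =
      (if i = k then 1 else 0) - (if i = l then 1 else 0) - (if j = k then 1 else 0) + (if j = l then 1 else 0) := by
    intro i j k l
    conv_lhs => arg 2; rw [hF]
    simp only [classInner_sum_right, Exceptional.classInner_smul_right, hcoef, map_intCast]
    rw [show ∑ χ : IrrCharacter G, ((D.dq χ φ k - D.dq χ φ l : ℤ) : ℂ) * ((D.dq χ φ i - D.dq χ φ j : ℤ) : ℂ) =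
      ((∑ χ : IrrCharacter G, (D.dq χ φ i * D.dq χ φ k - D.dq χ φ i * D.dq χ φ l - D.dq χ φ j * D.dq χ φ k +
        D.dq χ φ j * D.dq χ φ l) : ℤ) : ℂ) by
      push_cast; exact Finset.sum_congr rfl fun χ _ => by ring]
    simp only [Finset.sum_add_distrib, Finset.sum_sub_distrib, hgram]
    push_cast
    ring
  obtain ⟨εc, θ, hεc, hinj, hθ⟩ := Exceptional.exceptional_family_gram htwo F
    (fun a b => Exceptional.gen_sum _ _ fun χ _ => by
      rw [Int.cast_smul_eq_zsmul]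
      exact Exceptional.gen_zsmul (Exceptional.gen_of_character (isCharacter_of_irr χ.2)) _)
    (fun a b => by
      simp only [hF, Finset.sum_apply, Pi.smul_apply, smul_eq_mul, Int.cast_sub, sub_mul, Finset.sum_sub_distrib,
        dq]
      rw [D.sum_d_apply_regular _ _ (by simp [(Fact.out : p.Prime).ne_one]),
        D.sum_d_apply_regular _ _ (by simp [(Fact.out : p.Prime).ne_one]), sub_zero])
    hinner (fun a b c => by
      simp only [hF, ← Finset.sum_add_distrib, ← add_smul]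
      exact Finset.sum_congr rfl fun χ _ => by push_cast; ring_nf)
  obtain ⟨ε, hε, rfl⟩ : ∃ ε : ℤ, (ε = 1 ∨ ε = -1) ∧ (ε : ℂ) = εc := by
    rcases hεc with h | h
    · exact ⟨1, Or.inl rfl, by simp [h]⟩
    · exact ⟨-1, Or.inr rfl, by simp [h]⟩
  have hdiff : ∀ a b χ, D.dq χ φ a - D.dq χ φ b =
      ε * ((if θ a = χ then 1 else 0) - (if θ b = χ then 1 else 0)) := by
    intro a b χ
    have h1 := hcoef a b χ
    rw [hθ, classInner_smul_left, Exceptional.classInner_sub_left, classInner_irr, classInner_irr] at h1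
    exact_mod_cast h1.symm
  have hne : ∀ χ, χ ∉ Set.range θ → D.Const χ φ := fun χ hχ a b => by
    have h1 := hdiff (D.cls φ a) (D.cls φ b) χ
    rw [if_neg (fun h => hχ ⟨_, h⟩), if_neg (fun h => hχ ⟨_, h⟩), sub_zero, mul_zero, dq_cls, dq_cls,
      sub_eq_zero] at h1
    exact h1
  set c : D.Idx φ → ℤ := fun q => D.dq (θ q) φ q - ε with hc
  have hval : ∀ q q', D.dq (θ q) φ q' = c q + if q = q' then ε else 0 := by
    intro q q'
    by_cases hq : q = q'
    · subst hq; simp [hc]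
    · have h1 := hdiff q q' (θ q)
      rw [if_pos rfl, if_neg (fun h => hq (hinj h).symm), sub_zero, mul_one] at h1
      rw [if_neg hq, hc]; simp only; omega
  have htw : ∀ u q, D.tw u (θ q) = θ (D.cls φ u * q) ∧ c (D.cls φ u * q) = c q := by
    intro u q
    have key : ∀ a : D.Idx φ, D.dq (D.tw u (θ q)) φ (D.cls φ u * a) = D.dq (θ q) φ a := by
      intro a
      obtain ⟨a, rfl⟩ := D.cls_surj φ a
      rw [← D.cls_mul, dq_cls, dq_cls, Units.val_mul, D.d_tw]
    obtain ⟨q', hq'⟩ : D.tw u (θ q) ∈ Set.range θ := by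
      by_contra hn
      obtain ⟨b, hb⟩ : ∃ b, q ≠ b := by
        obtain ⟨x, y, hxy⟩ := htwo
        by_cases hx : q = x
        · exact ⟨y, hx ▸ hxy⟩
        · exact ⟨x, hx⟩
      have h1 : D.dq (θ q) φ q = D.dq (θ q) φ b := by
        rw [← key q, ← key b]
        obtain ⟨a₁, ha₁⟩ := D.cls_surj φ (D.cls φ u * q)
        obtain ⟨a₂, ha₂⟩ := D.cls_surj φ (D.cls φ u * b)
        rw [← ha₁, ← ha₂, dq_cls, dq_cls]
        exact hne _ hn a₁ a₂
      rw [hval, hval, if_pos rfl, if_neg hb] at h1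
      rcases hε with rfl | rfl <;> omega
    have hq : q' = D.cls φ u * q := by
      by_contra hq
      have h1 := key q
      have h2 := key ((D.cls φ u)⁻¹ * q')
      rw [← hq', hval, hval, if_neg hq, if_pos rfl] at h1
      rw [mul_inv_cancel_left, ← hq', hval, hval, if_pos rfl, if_neg (fun h => hq (by
        rw [h, mul_inv_cancel_left]))] at h2
      rcases hε with rfl | rfl <;> omega
    subst hq
    refine ⟨hq'.symm, ?_⟩
    have h1 := key q
    rw [← hq', hval, hval, if_pos rfl, if_pos rfl] at h1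
    omega
  refine ⟨ε, c 1, θ, hε, hinj, fun q q' _ => ?_, fun u q => (htw u q).1, hne⟩
  obtain ⟨a, rfl⟩ := D.cls_surj φ q
  rw [hval, show c (D.cls φ a) = c 1 by rw [← (htw a 1).2, mul_one]]
  congr 2

/-- A character is non-constant on at most one orbit. -/
theorem const_of_not_const {χ : IrrCharacter G} {φ φ' : IrrCharacter D.V} (h : ¬ D.Const χ φ)
    (h' : φ' ∉ D.orb φ) : D.Const χ φ' := by
  classical
  by_contra hn
  have htwo : ∀ ψ, ¬ D.Const χ ψ → ∃ q q' : D.Idx ψ, q ≠ q' := fun ψ hψ => by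
    by_contra hc; push Not at hc; exact hψ (D.subsingleton_const χ ψ hc)
  obtain ⟨ε, c, θ, hε, hinj, hval, htw, hne⟩ := D.exists_pre φ (htwo φ h)
  obtain ⟨ε', c', θ', hε', hinj', hval', htw', hne'⟩ := D.exists_pre φ' (htwo φ' hn)
  obtain ⟨q, hq⟩ := not_not.1 fun hm => h (hne χ hm)
  obtain ⟨q', hq'⟩ := not_not.1 fun hm => hn (hne' χ hm)
  obtain ⟨u, hu⟩ : ∃ u, D.cls φ u ≠ 1 := by
    obtain ⟨x, y, hxy⟩ := htwo φ h
    by_contra hc; push Not at hc
    obtain ⟨a, rfl⟩ := D.cls_surj φ x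
    obtain ⟨b, rfl⟩ := D.cls_surj φ y
    exact hxy ((hc a).trans (hc b).symm)
  have e1 : θ (D.cls φ u * q) = θ' (D.cls φ' u * q') := by rw [← htw, ← htw', hq, hq']
  have e0 : θ q ≠ θ (D.cls φ u * q) := fun hh => hu (by
    have := (hinj hh).symm; rwa [mul_eq_right] at this)
  haveI : Fintype (IrrCharacter G) := Fintype.ofFinite _
  obtain ⟨a₁, ha₁⟩ := D.cls_surj φ q
  obtain ⟨b₁, hb₁⟩ := D.cls_surj φ' q'
  have hz : ∑ ψ : IrrCharacter G, (D.dq ψ φ q - D.dq ψ φ (D.cls φ u * q)) *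
      (D.dq ψ φ' q' - D.dq ψ φ' (D.cls φ' u * q')) = 0 := by
    subst ha₁ hb₁
    simp only [← D.cls_mul, dq_cls, sub_mul, mul_sub, Finset.sum_sub_distrib, D.gram_ne h', sub_zero]
  have hA : ∀ ψ, D.dq ψ φ q - D.dq ψ φ (D.cls φ u * q) =
      ε * ((if θ q = ψ then 1 else 0) - (if θ (D.cls φ u * q) = ψ then 1 else 0)) := by
    intro ψ
    by_cases hψ : ψ ∈ Set.range θ
    · obtain ⟨z, rfl⟩ := hψ
      rw [hval, hval]
      simp only [hinj.eq_iff, eq_comm (a := z)]
      split_ifs <;> ring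
    · obtain ⟨a₂, ha₂⟩ := D.cls_surj φ (D.cls φ u * q)
      rw [if_neg (fun hh => hψ ⟨_, hh⟩), if_neg (fun hh => hψ ⟨_, hh⟩), sub_zero, mul_zero, sub_eq_zero]
      have := hne ψ hψ a₁ a₂
      rwa [← dq_cls, ← dq_cls, ha₁, ha₂] at this
  have hB : ∀ ψ, D.dq ψ φ' q' - D.dq ψ φ' (D.cls φ' u * q') =
      ε' * ((if θ' q' = ψ then 1 else 0) - (if θ' (D.cls φ' u * q') = ψ then 1 else 0)) := by
    intro ψ
    by_cases hψ : ψ ∈ Set.range θ'
    · obtain ⟨z, rfl⟩ := hψ
      rw [hval', hval']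
      simp only [hinj'.eq_iff, eq_comm (a := z)]
      split_ifs <;> ring
    · rw [if_neg (fun hh => hψ ⟨_, hh⟩), if_neg (fun hh => hψ ⟨_, hh⟩), sub_zero, mul_zero, sub_eq_zero, ← hb₁,
        ← D.cls_mul, dq_cls, dq_cls]
      exact hne' ψ hψ b₁ _
  simp only [hA, hB, ← e1, hq', ← hq] at hz
  rw [Finset.sum_eq_add (θ q) (θ (D.cls φ u * q)) e0 (fun ψ _ hψ => by
    simp [Ne.symm hψ.1, Ne.symm hψ.2]) (by simp) (by simp)] at hz
  simp only [if_pos, e0, Ne.symm e0, if_false] at hz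
  rcases hε with rfl | rfl <;> rcases hε' with rfl | rfl <;> norm_num at hz

/-- The family of `φ`. -/
structure Family (φ : IrrCharacter D.V) where
  /-- The sign. -/
  ε : ℤ
  /-- The characters. -/
  θ : D.Idx φ → IrrCharacter G
  sign : ε = 1 ∨ ε = -1
  inj : Function.Injective θ
  d_eq' : ∀ q (a : (ZMod p)ˣ) [Decidable (q = D.cls φ a)],
    D.d (θ q) (a : ZMod p) φ = if q = D.cls φ a then ε else 0
  tw_eq : ∀ u q, D.tw u (θ q) = θ (D.cls φ u * q)
  const : ∀ χ, χ ∉ Set.range θ → D.Const χ φ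
  d_other : ∀ q φ', φ' ∉ D.orb φ → ∀ j, D.d (θ q) j φ' = 0

theorem exists_family_two {M : Ideal AlgInt} (hM : IsPModular p M) (φ : IrrCharacter D.V)
    (htwo : ∃ q q' : D.Idx φ, q ≠ q') : Nonempty (D.Family φ) := by
  classical
  obtain ⟨ε, c, θ, hε, hinj, hval, htw, hne⟩ := D.exists_pre φ htwo
  have hd : ∀ q (a : (ZMod p)ˣ), D.d (θ q) (a : ZMod p) φ = c + if q = D.cls φ a then ε else 0 := fun q a => by
    rw [← hval, dq_cls]
  set t := Fintype.card (D.Idx φ) with ht
  have ht2 : 2 ≤ t := by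
    obtain ⟨x, y, hxy⟩ := htwo
    exact Fintype.one_lt_card_iff.2 ⟨x, y, hxy⟩
  have hnc : ∀ q, ¬ D.Const (θ q) φ := by
    intro q hc
    obtain ⟨b, hb⟩ : ∃ b, q ≠ b := by
      obtain ⟨x, y, hxy⟩ := htwo
      by_cases hx : q = x
      · exact ⟨y, hx ▸ hxy⟩
      · exact ⟨x, hx⟩
    obtain ⟨a₁, rfl⟩ := D.cls_surj φ q
    obtain ⟨a₂, rfl⟩ := D.cls_surj φ b
    have h1 := hc a₁ a₂
    rw [hd, hd, if_pos rfl, if_neg hb] at h1
    rcases hε with rfl | rfl <;> omega
  set S : IrrCharacter D.V → ℤ := fun ψ => ∑ q, D.d (θ q) 1 ψ with hS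
  have hSφ : ∀ a : (ZMod p)ˣ, ∑ q, D.d (θ q) (a : ZMod p) φ = (t : ℤ) * c + ε := fun a => by
    simp [hd, Finset.sum_add_distrib, ht]
  have hSc : ∀ ψ (j : ZMod p), j ≠ 0 → ∑ q, D.d (θ q) j ψ = S ψ := by
    intro ψ j hj
    by_cases hψ : ψ ∈ D.orb φ
    · obtain ⟨g, rfl⟩ := D.mem_orb.1 hψ
      have e : ∀ (a : (ZMod p)ˣ), ∑ q, D.d (θ q) (a : ZMod p) (D.cj g φ) = (t : ℤ) * c + ε := fun a => by
        rw [← hSφ ((D.rHom g)⁻¹ * a)]
        refine Finset.sum_congr rfl fun q _ => ?_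
        rw [← D.d_conj (θ q) g _ φ, ← D.rHom_apply, ← Units.val_mul, mul_inv_cancel_left]
      rw [hS, show j = ((Units.mk0 j hj : (ZMod p)ˣ) : ZMod p) from rfl, e]
      exact (e 1).symm
    · exact Finset.sum_congr rfl fun q _ => D.const_of_not_const (hnc q) hψ (Units.mk0 j hj) 1
  have hθ₀ : ∀ q, θ q = D.tw (Quotient.out q) (θ 1) := fun q => by
    rw [htw, mul_one]; exact congrArg θ (QuotientGroup.out_eq' q).symm
  have hbd := D.sum_abs_le_one hM θ hinj (θ 1) _ hθ₀ S hSc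
  have hbφ : |(t : ℤ) * c + ε| ≤ 1 := by
    have h1 := hbd {φ} (by simp)
    simp only [Finset.sum_singleton, hS, show (1 : ZMod p) = ((1 : (ZMod p)ˣ) : ZMod p) from rfl, hSφ] at h1
    exact h1
  have hother : ∀ q φ', φ' ∉ D.orb φ → ∀ j, D.d (θ q) j φ' = 0 := by
    intro q φ' hφ' j
    by_cases hj : j = 0
    · rw [hj, D.d_zero]
    have hconst := fun q => D.const_of_not_const (hnc q) hφ'
    set b := D.d (θ 1) 1 φ' with hb
    have hall : ∀ q (a : (ZMod p)ˣ), D.d (θ q) (a : ZMod p) φ' = b := by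
      intro q a
      obtain ⟨v, rfl⟩ := D.cls_surj φ q
      rw [hconst _ a (v * 1), ← mul_one (D.cls φ v), ← htw, Units.val_mul, D.d_tw]
      rfl
    rw [show j = ((Units.mk0 j hj : (ZMod p)ˣ) : ZMod p) from rfl, hall]
    have hne' : φ ≠ φ' := fun h => hφ' (h ▸ D.self_mem_orb φ)
    have h1 := hbd {φ, φ'} (fun x hx y hy hxy => by
      simp only [Finset.mem_insert, Finset.mem_singleton] at hx hy
      rcases hx with rfl | rfl <;> rcases hy with rfl | rfl <;> first
        | rfl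
        | exact absurd hxy hφ'
        | exact absurd (D.orb_symm hxy) hφ')
    rw [Finset.sum_pair hne'] at h1
    have e2 : S φ' = (t : ℤ) * b := by
      simp only [hS, show (1 : ZMod p) = ((1 : (ZMod p)ˣ) : ZMod p) from rfl, hall, Finset.sum_const,
        Finset.card_univ, nsmul_eq_mul, ht]
    rw [e2] at h1
    have h3 : |(t : ℤ) * b| ≤ 1 := le_trans (le_add_of_nonneg_left (abs_nonneg _)) h1
    rw [abs_mul, Nat.abs_cast] at h3
    by_contra hb0
    have := abs_pos.2 hb0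
    nlinarith
  by_cases hc : c = 0
  · exact ⟨⟨ε, θ, hε, hinj, fun q a _ => by rw [hd, hc, zero_add]; congr 1, htw, hne, hother⟩⟩
  -- two characters with the wrong labels
  have hcε : t = 2 ∧ c = -ε := by
    have hab := abs_le.1 hbφ
    rcases hε with rfl | rfl <;> rcases lt_or_gt_of_ne hc with h | h <;> constructor <;> nlinarith
  obtain ⟨ht2', hc'⟩ := hcε
  obtain ⟨s, hs⟩ : ∃ s : D.Idx φ, s ≠ 1 := by
    obtain ⟨x, y, hxy⟩ := htwo
    by_cases hx : x = 1
    · exact ⟨y, fun hy => hxy (hx.trans hy.symm)⟩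
    · exact ⟨x, hx⟩
  have hflip : ∀ q z : D.Idx φ, s * q = z ↔ q ≠ z := by
    intro q z
    have hsq : s * q ≠ q := fun h => hs (mul_eq_right.1 h)
    constructor
    · rintro rfl; exact hsq.symm
    · intro hz
      by_contra hzz
      have : ({q, s * q, z} : Finset (D.Idx φ)).card ≤ t := Finset.card_le_univ _
      rw [Finset.card_insert_of_notMem (by simp [hsq.symm, hz]),
        Finset.card_insert_of_notMem (by simp [hzz]), Finset.card_singleton] at this
      omega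
  refine ⟨⟨-ε, fun q => θ (s * q), by omega, hinj.comp (mul_right_injective s), fun q a _ => ?_,
    fun u q => by rw [htw]; exact congrArg θ (mul_left_comm (D.cls φ u) s q), fun χ hχ => hne χ fun ⟨q, hq⟩ => hχ ⟨s⁻¹ * q, by
      simp only [mul_inv_cancel_left]; exact hq⟩, fun q => hother _⟩⟩
  rw [hd, hc']
  by_cases hq : q = D.cls φ a
  · rw [if_neg (fun h => (hflip _ _).1 h hq), if_pos hq, add_zero]
  · rw [if_pos ((hflip _ _).2 hq), if_neg hq, neg_add_cancel]

theorem abs_le_one_of_rational {M : Ideal AlgInt} (hM : IsPModular p M) {χ : IrrCharacter G}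
    (h : ∀ φ, D.Const χ φ) (R : Finset (IrrCharacter D.V))
    (hR : ∀ φ ∈ R, ∀ φ' ∈ R, φ' ∈ D.orb φ → φ' = φ) : ∑ φ ∈ R, |D.d χ 1 φ| ≤ 1 :=
  D.sum_abs_le_one hM (fun _ : Unit => χ) (fun _ _ _ => rfl) χ (fun _ => 1) (fun _ => (D.tw_one χ).symm)
    (fun φ => D.d χ 1 φ) (fun φ j hj => by simpa using h φ (Units.mk0 j hj) 1) R hR

theorem eq_zero_of_not_const {M : Ideal AlgInt} (hM : IsPModular p M) {χ : IrrCharacter G}
    {φ φ' : IrrCharacter D.V} (h : ¬ D.Const χ φ) (h' : φ' ∉ D.orb φ) (j : ZMod p) : D.d χ j φ' = 0 := by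
  have htwo : ∃ q q' : D.Idx φ, q ≠ q' := by
    by_contra hc; push Not at hc; exact h (D.subsingleton_const χ φ hc)
  obtain ⟨F⟩ := D.exists_family_two hM φ htwo
  obtain ⟨q, rfl⟩ := not_not.1 fun hm => h (F.const χ hm)
  exact F.d_other q φ' h' j

/-- A character has a non-zero vector on at most one orbit. -/
theorem eq_zero_or {M : Ideal AlgInt} (hM : IsPModular p M) (χ : IrrCharacter G) {φ φ' : IrrCharacter D.V}
    (h' : φ' ∉ D.orb φ) (i j : ZMod p) : D.d χ i φ = 0 ∨ D.d χ j φ' = 0 := by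
  classical
  by_cases hi : i = 0
  · exact Or.inl (hi ▸ D.d_zero χ φ)
  by_cases hj : j = 0
  · exact Or.inr (hj ▸ D.d_zero χ φ')
  by_cases hall : ∀ ψ, D.Const χ ψ
  · have h1 := D.abs_le_one_of_rational hM hall {φ, φ'} (fun x hx y hy hxy => by
      simp only [Finset.mem_insert, Finset.mem_singleton] at hx hy
      rcases hx with rfl | rfl <;> rcases hy with rfl | rfl <;> first
        | rfl
        | exact absurd hxy h'
        | exact absurd (D.orb_symm hxy) h')
    rw [Finset.sum_pair (fun hh => h' (by rw [← hh]; exact D.self_mem_orb φ))] at h1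
    rw [show D.d χ i φ = D.d χ 1 φ from hall φ (Units.mk0 i hi) 1,
      show D.d χ j φ' = D.d χ 1 φ' from hall φ' (Units.mk0 j hj) 1]
    by_contra hc
    push Not at hc
    have := abs_pos.2 hc.1
    have := abs_pos.2 hc.2
    omega
  · push Not at hall
    obtain ⟨ψ, hψ⟩ := hall
    by_cases hφ : φ ∈ D.orb ψ
    · exact Or.inr (D.eq_zero_of_not_const hM hψ (fun h => h' (by
        rwa [← D.orb_eq_of_mem hφ] at h)) j)
    · exact Or.inl (D.eq_zero_of_not_const hM hψ hφ i)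

theorem abs_d_le_one {M : Ideal AlgInt} (hM : IsPModular p M) (χ : IrrCharacter G) (j : ZMod p)
    (φ : IrrCharacter D.V) : |D.d χ j φ| ≤ 1 := by
  classical
  by_cases hj : j = 0
  · rw [hj, D.d_zero]; norm_num
  by_cases hφ : D.Const χ φ
  · by_cases hall : ∀ ψ, D.Const χ ψ
    · have h1 := D.abs_le_one_of_rational hM hall {φ} (by simp)
      rw [show D.d χ j φ = D.d χ 1 φ from hall φ (Units.mk0 j hj) 1]
      simpa using h1
    · push Not at hall
      obtain ⟨ψ, hψ⟩ := hall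
      rw [D.eq_zero_of_not_const hM hψ (fun h => hψ (D.const_orb hφ (D.orb_symm h))) j]
      norm_num
  · have htwo : ∃ q q' : D.Idx φ, q ≠ q' := by
      by_contra hc; push Not at hc; exact hφ (D.subsingleton_const χ φ hc)
    obtain ⟨F⟩ := D.exists_family_two hM φ htwo
    obtain ⟨q, rfl⟩ := not_not.1 fun hm => hφ (F.const χ hm)
    rw [show j = ((Units.mk0 j hj : (ZMod p)ˣ) : ZMod p) from rfl, F.d_eq']
    rcases F.sign with h | h <;> rw [h] <;> split_ifs <;> norm_num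

theorem exists_family {M : Ideal AlgInt} (hM : IsPModular p M) (φ : IrrCharacter D.V) :
    Nonempty (D.Family φ) := by
  classical
  by_cases htwo : ∃ q q' : D.Idx φ, q ≠ q'
  · exact D.exists_family_two hM φ htwo
  push Not at htwo
  haveI : Fintype (IrrCharacter G) := Fintype.ofFinite _
  obtain ⟨χ, hχ⟩ : ∃ χ, D.d χ 1 φ ≠ 0 := by
    by_contra hc
    push Not at hc
    have h1 := D.gram_self φ 1 1
    simp only [Units.val_one, hc, mul_zero, Finset.sum_const_zero, if_pos] at h1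
    have : (0 : ℤ) ≤ Nat.card (D.U φ) := by positivity
    omega
  have hall : ∀ ψ, D.Const χ ψ := by
    intro ψ
    by_contra hψ
    by_cases hm : φ ∈ D.orb ψ
    · exact hψ (D.const_orb (D.subsingleton_const χ φ htwo) (D.orb_symm hm))
    · exact hχ (D.eq_zero_of_not_const hM hψ hm 1)
  refine ⟨⟨D.d χ 1 φ, fun _ => χ, ?_, fun q q' _ => htwo q q', fun q a _ => ?_, fun u q => ?_,
    fun ψ _ => D.subsingleton_const ψ φ htwo, fun q φ' hφ' j => ?_⟩⟩
  · have := D.abs_d_le_one hM χ 1 φ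
    rw [abs_le] at this
    omega
  · rw [if_pos (htwo _ _)]; exact hall φ a 1
  · refine D.ext_of_d (fun g hg => D.tw_regular u χ hg) fun j ψ => ?_
    by_cases hj : j = 0
    · rw [hj, D.d_zero, D.d_zero]
    have h1 := D.d_tw u χ (((u⁻¹ : (ZMod p)ˣ) : ZMod p) * j) ψ
    rw [← mul_assoc, ← Units.val_mul, mul_inv_cancel, Units.val_one, one_mul] at h1
    rw [h1]
    exact hall ψ (u⁻¹ * Units.mk0 j hj) (Units.mk0 j hj)
  · exact (D.eq_zero_or hM χ hφ' 1 j).resolve_left hχ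

end Data

end CfsgLib.DefectOne
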