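import Mathlib
import Cfsg.Agent.CharBasics.Induced
import Cfsg.Agent.BrauerInd.Induction
import Cfsg.Agent.Clifford.Basic

/-!
# A Sylow subgroup of order `p`: coordinates on the singular sections

`x` generates the Sylow subgroup, `H` is a complement to it in its normaliser and `V = C_H(x)`.  For a character
`χ` the integers `d χ j φ` are the differences `⟨χ, λ_j ⊗ φ⟩ - ⟨χ, 1 ⊗ φ⟩` on `⟨x⟩ × V`; they determine the values
of `χ` at the singular elements and their Gram matrix over all irreducible characters is computed here.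
-/

set_option autoImplicit false
set_option linter.style.haveILetI false
set_option linter.unusedSectionVars false

namespace CfsgLib.DefectOne

open Cfsg CfsgLib.CharBasics
open scoped ComplexConjugate

universe u

/-- A Sylow subgroup of order `p` with a complement in its normaliser. -/
structure Data (G : Type u) [Group G] (p : ℕ) where
  x : G
  H : Subgroup G
  hp : p.Prime
  hx : orderOf x = p
  hHp : ¬ p ∣ Nat.card H
  hHN : ∀ h ∈ H, h * x * h⁻¹ ∈ Subgroup.zpowers x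
  hN : ∀ g : G, g * x * g⁻¹ ∈ Subgroup.zpowers x → ∃ a ∈ Subgroup.zpowers x, ∃ h ∈ H, g = a * h
  hSyl : ¬ p ^ 2 ∣ Nat.card G

variable {G : Type u} [Group G] [Fintype G] {p : ℕ}

omit [Fintype G] in
theorem normalizer_iff_zpowers [Finite G] (x g : G) :
    g ∈ Subgroup.normalizer (Subgroup.zpowers x : Set G) ↔ g * x * g⁻¹ ∈ Subgroup.zpowers x := by
  refine ⟨fun h => ((Subgroup.mem_normalizer_iff.1 h) x).1 (Subgroup.mem_zpowers x), fun h => ?_⟩
  have hle : (Subgroup.zpowers x).map (MulAut.conj g).toMonoidHom ≤ Subgroup.zpowers x := by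
    rw [MonoidHom.map_zpowers, Subgroup.zpowers_le]
    exact h
  have heq : (Subgroup.zpowers x).map (MulAut.conj g).toMonoidHom = Subgroup.zpowers x :=
    Subgroup.eq_of_le_of_card_ge hle (by rw [Subgroup.card_map_of_injective (MulAut.conj g).injective])
  refine Subgroup.mem_normalizer_iff.2 fun y => ⟨fun hy => ?_, fun hy => ?_⟩
  · rw [← heq]; exact ⟨y, hy, rfl⟩
  rw [← heq] at hy
  obtain ⟨z, hz, hzy⟩ := hy
  rwa [← (MulAut.conj g).injective (hzy : (MulAut.conj g) z = (MulAut.conj g) y)]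

/-- The data attached to a Sylow subgroup of order `p`. -/
theorem exists_data [Fact p.Prime] (P : Sylow p G) (hP : Nat.card P = p) :
    ∃ D : Data G p, Subgroup.zpowers D.x = (P : Subgroup G) := by
  have hp : p.Prime := Fact.out
  obtain ⟨⟨x, hxP⟩, hx1⟩ : ∃ x : (P : Subgroup G), x ≠ 1 := by
    haveI : Nontrivial (P : Subgroup G) := Finite.one_lt_card_iff_nontrivial.1 (by rw [hP]; exact hp.one_lt)
    exact exists_ne 1
  have hox : orderOf x = p := by
    have h1 : orderOf x ∣ p := hP ▸ (Subgroup.orderOf_mk x hxP ▸ orderOf_dvd_natCard _)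
    rcases hp.eq_one_or_self_of_dvd _ h1 with h | h
    · exact absurd (Subtype.ext (orderOf_eq_one_iff.1 h)) hx1
    · exact h
  have hzP : Subgroup.zpowers x = (P : Subgroup G) :=
    Subgroup.eq_of_le_of_card_ge (Subgroup.zpowers_le.2 hxP) (by rw [Nat.card_zpowers, hox, hP])
  set N := Subgroup.normalizer (Subgroup.zpowers x : Set G) with hN
  have hPN : Subgroup.zpowers x ≤ N := Subgroup.le_normalizer
  haveI : ((Subgroup.zpowers x).subgroupOf N).Normal := Subgroup.normal_in_normalizer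
  have hcardP : Nat.card ((Subgroup.zpowers x).subgroupOf N) = p := by
    rw [Nat.card_congr (Subgroup.subgroupOfEquivOfLe hPN).toEquiv, Nat.card_zpowers, hox]
  have hsyl : ¬ p ^ 2 ∣ Nat.card G := by
    intro h
    have h1 := P.card_eq_multiplicity
    rw [hP] at h1
    have h2 := (hp.pow_dvd_iff_le_factorization Nat.card_pos.ne').1 h
    have : (Nat.card G).factorization p = 1 := by
      have := congrArg (fun n => n.factorization p) h1
      simpa [hp.factorization_self, Nat.Prime.factorization_pow] using this.symm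
    omega
  have hidx : ¬ p ∣ ((Subgroup.zpowers x).subgroupOf N).index := by
    intro hd
    refine hsyl (dvd_trans ?_ (Subgroup.card_subgroup_dvd_card N))
    rw [← Subgroup.card_mul_index ((Subgroup.zpowers x).subgroupOf N), hcardP, sq]
    exact Nat.mul_dvd_mul_left p hd
  obtain ⟨K, hK⟩ := Subgroup.exists_right_complement'_of_coprime (N := (Subgroup.zpowers x).subgroupOf N)
    (hcardP.symm ▸ hp.coprime_iff_not_dvd.2 hidx)
  refine ⟨⟨x, K.map N.subtype, hp, hox, ?_, ?_, ?_, hsyl⟩, hzP⟩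
  · rw [Subgroup.card_map_of_injective N.subtype_injective, ← hK.symm.index_eq_card]
    exact hidx
  · rintro _ ⟨h, -, rfl⟩
    exact (normalizer_iff_zpowers x (h : G)).1 h.2
  · intro g hg
    obtain ⟨⟨⟨a, ha⟩, ⟨k, hk⟩⟩, hak, -⟩ := hK.existsUnique (⟨g, (normalizer_iff_zpowers x g).2 hg⟩ : N)
    exact ⟨a, ha, k, ⟨k, hk, rfl⟩, (congrArg Subtype.val hak).symm⟩

namespace Data

variable (D : Data G p)

/-- The centraliser of `x` in `H`. -/
def V : Subgroup D.H := (Subgroup.centralizer ({D.x} : Set G)).subgroupOf D.H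

omit [Fintype G] in
theorem mem_V {h : D.H} : h ∈ D.V ↔ Commute (h : G) D.x := by
  rw [V, Subgroup.mem_subgroupOf, Subgroup.mem_centralizer_singleton_iff]
  rfl

omit [Fintype G] in
theorem exists_conj (h : D.H) : ∃ r : ZMod p, (h : G) * D.x * (h : G)⁻¹ = D.x ^ r.val := by
  haveI := Fact.mk D.hp
  obtain ⟨k, hk⟩ := Subgroup.mem_zpowers_iff.1 (D.hHN h h.2)
  refine ⟨(k : ZMod p), ?_⟩
  rw [← hk, ← zpow_natCast, zpow_eq_zpow_iff_modEq, D.hx, ← ZMod.intCast_eq_intCast_iff]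
  simp

/-- The exponent of the conjugation action. -/
noncomputable def r (h : D.H) : ZMod p := Classical.choose (D.exists_conj h)

omit [Fintype G] in
theorem conj_x (h : D.H) : (h : G) * D.x * (h : G)⁻¹ = D.x ^ (D.r h).val := Classical.choose_spec (D.exists_conj h)

omit [Fintype G] in
theorem pow_eq_iff {a b : ℕ} : D.x ^ a = D.x ^ b ↔ (a : ZMod p) = b := by
  rw [pow_eq_pow_iff_modEq, D.hx, ZMod.natCast_eq_natCast_iff]

omit [Fintype G] in
theorem conj_pow (h : D.H) (i : ZMod p) : (h : G) * D.x ^ i.val * (h : G)⁻¹ = D.x ^ (D.r h * i).val := by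
  haveI := Fact.mk D.hp
  rw [← _root_.conj_pow, D.conj_x, ← pow_mul, D.pow_eq_iff]
  simp

omit [Fintype G] in
theorem r_eq {h : D.H} {j : ZMod p} (hj : (h : G) * D.x * (h : G)⁻¹ = D.x ^ j.val) : D.r h = j := by
  haveI := Fact.mk D.hp
  have := (D.conj_x h).symm.trans hj
  rwa [D.pow_eq_iff, ZMod.natCast_zmod_val, ZMod.natCast_zmod_val] at this

omit [Fintype G] in
theorem r_one : D.r 1 = 1 := by
  haveI := Fact.mk D.hp
  refine D.r_eq ?_
  simp [ZMod.val_one]

omit [Fintype G] in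
theorem r_mul (a b : D.H) : D.r (a * b) = D.r a * D.r b := by
  refine D.r_eq ?_
  rw [show ((a * b : D.H) : G) * D.x * ((a * b : D.H) : G)⁻¹ = (a : G) * ((b : G) * D.x * (b : G)⁻¹) * (a : G)⁻¹ by
    push_cast; group, D.conj_x, D.conj_pow]

omit [Fintype G] in
theorem r_ne_zero (h : D.H) : D.r h ≠ 0 := by
  haveI := Fact.mk D.hp
  intro h0
  have h1 := D.r_mul h h⁻¹
  rw [mul_inv_cancel, D.r_one, h0, zero_mul] at h1
  exact one_ne_zero h1

omit [Fintype G] in
theorem mem_V_iff_r {h : D.H} : h ∈ D.V ↔ D.r h = 1 := by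
  haveI := Fact.mk D.hp
  rw [mem_V]
  constructor
  · intro hc
    refine D.r_eq ?_
    rw [hc.eq, mul_inv_cancel_right, ZMod.val_one, pow_one]
  · intro hr
    have h1 := D.conj_x h
    rw [hr, ZMod.val_one, pow_one] at h1
    exact mul_inv_eq_iff_eq_mul.1 h1

instance normal_V : D.V.Normal := ⟨fun v hv g => by
  haveI := Fact.mk D.hp
  rw [mem_V_iff_r] at hv ⊢
  rw [D.r_mul, D.r_mul, hv, mul_one, ← D.r_mul, mul_inv_cancel, D.r_one]⟩

/-- The conjugation action as a homomorphism into the units. -/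
noncomputable def rHom : D.H →* (ZMod p)ˣ :=
  haveI := Fact.mk D.hp
  MonoidHom.toHomUnits { toFun := D.r, map_one' := D.r_one, map_mul' := D.r_mul }

omit [Fintype G] in
theorem rHom_apply (h : D.H) : (D.rHom h : ZMod p) = D.r h := rfl

omit [Fintype G] in
theorem ker_rHom : D.rHom.ker = D.V := by
  ext h
  rw [MonoidHom.mem_ker, mem_V_iff_r, Units.ext_iff]
  rfl

omit [Fintype G] in
theorem isCyclic_quotient_V : IsCyclic (D.H ⧸ D.V) := by
  haveI := Fact.mk D.hp
  refine isCyclic_of_injective ((QuotientGroup.kerLift D.rHom).comp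
    (QuotientGroup.quotientMulEquivOfEq D.ker_rHom).symm.toMonoidHom) ?_
  exact (QuotientGroup.kerLift_injective D.rHom).comp (MulEquiv.injective _)

omit [Fintype G] in
theorem commute_xV (i : ℕ) (v : D.V) : Commute (D.x ^ i) ((v : D.H) : G) :=
  ((D.mem_V.1 v.2).symm).pow_left i

/-- The point `x ^ i * v`. -/
noncomputable def pt (q : ZMod p × D.V) : G := D.x ^ q.1.val * ((q.2 : D.H) : G)

omit [Fintype G] in
theorem pt_mul (i j : ZMod p) (v w : D.V) : D.pt (i + j, v * w) = D.pt (i, v) * D.pt (j, w) := by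
  haveI := Fact.mk D.hp
  simp only [pt, Subgroup.coe_mul]
  rw [show D.x ^ (i + j).val = D.x ^ (i.val + j.val) by rw [D.pow_eq_iff]; simp, pow_add, mul_assoc, mul_assoc,
    ← mul_assoc (D.x ^ j.val) ((v : D.H) : G), (D.commute_xV j.val v).eq, mul_assoc ((v : D.H) : G)]

omit [Fintype G] in
theorem pt_conj (h : D.H) (i : ZMod p) (v : D.V) :
    (h : G) * D.pt (i, v) * (h : G)⁻¹ = D.pt (D.r h * i, ⟨h * v * h⁻¹, (D.normal_V).conj_mem _ v.2 h⟩) := by
  simp only [pt, Subgroup.coe_mul, Subgroup.coe_inv]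
  rw [← D.conj_pow]
  group

theorem orderOf_V_not_dvd (v : D.V) : ¬ p ∣ orderOf (((v : D.H)) : G) := fun hd =>
  D.hHp (hd.trans ((Subgroup.orderOf_coe (v : D.H)) ▸ orderOf_dvd_natCard _))

omit [Fintype G] in
theorem orderOf_x_pow {i : ZMod p} (hi : i ≠ 0) : orderOf (D.x ^ i.val) = p := by
  haveI := Fact.mk D.hp
  rw [Nat.Coprime.orderOf_pow, D.hx]
  rw [D.hx]
  exact D.hp.coprime_iff_not_dvd.2 (Nat.not_dvd_of_pos_of_lt
    (Nat.pos_of_ne_zero (by simpa using hi)) (ZMod.val_lt i))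

theorem orderOf_pt {i : ZMod p} (hi : i ≠ 0) (v : D.V) : orderOf (D.pt (i, v)) = p * orderOf (((v : D.H)) : G) := by
  rw [pt, Commute.orderOf_mul_eq_mul_orderOf_of_coprime (D.commute_xV _ v), D.orderOf_x_pow hi]
  rw [D.orderOf_x_pow hi]
  exact D.hp.coprime_iff_not_dvd.2 (D.orderOf_V_not_dvd v)

theorem dvd_orderOf_pt {i : ZMod p} (hi : i ≠ 0) (v : D.V) : p ∣ orderOf (D.pt (i, v)) := by
  rw [D.orderOf_pt hi]; exact dvd_mul_right _ _

theorem pt_inj {i i' : ZMod p} {v v' : D.V} (h : D.pt (i, v) = D.pt (i', v')) : i = i' ∧ v = v' := by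
  haveI := Fact.mk D.hp
  set m := orderOf (((v : D.H)) : G) * orderOf (((v' : D.H)) : G) with hm
  have h1 := congrArg (· ^ m) h
  have hmv : (((v : D.H)) : G) ^ m = 1 := by rw [hm, pow_mul, pow_orderOf_eq_one, one_pow]
  have hmv' : (((v' : D.H)) : G) ^ m = 1 := by rw [hm, mul_comm, pow_mul, pow_orderOf_eq_one, one_pow]
  simp only [pt] at h1
  rw [(D.commute_xV _ v).mul_pow, (D.commute_xV _ v').mul_pow, hmv, hmv', mul_one, mul_one, ← pow_mul, ← pow_mul,
    D.pow_eq_iff] at h1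
  push_cast at h1
  simp only [ZMod.natCast_zmod_val] at h1
  have hmp : ((m : ℕ) : ZMod p) ≠ 0 := by
    rw [Ne, ZMod.natCast_eq_zero_iff]
    exact fun hd => (D.hp.dvd_mul.1 hd).elim (D.orderOf_V_not_dvd v) (D.orderOf_V_not_dvd v')
  rw [hm, Nat.cast_mul] at hmp
  rw [hm, Nat.cast_mul] at h1
  have hi := mul_right_cancel₀ hmp h1
  subst hi
  simp only [pt, mul_right_inj] at h
  exact ⟨rfl, Subtype.ext (Subtype.ext h)⟩

/-- Everything centralising `x` is a point. -/
theorem exists_pt {g : G} (hg : Commute g D.x) : ∃ q, g = D.pt q := by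
  haveI := Fact.mk D.hp
  obtain ⟨a, ha, h, hh, rfl⟩ := D.hN g (by rw [hg.eq, mul_inv_cancel_right]; exact Subgroup.mem_zpowers _)
  obtain ⟨k, rfl⟩ := mem_powers_iff_mem_zpowers.2 ha
  have hc : Commute h D.x := by
    have h1 : Commute (D.x ^ k) D.x := Commute.pow_self _ _
    have := (h1.inv_left).mul_left hg
    rwa [inv_mul_cancel_left] at this
  refine ⟨((k : ZMod p), ⟨⟨h, hh⟩, D.mem_V.2 hc⟩), ?_⟩
  simp only [pt]
  congr 1
  rw [D.pow_eq_iff, ZMod.natCast_zmod_val]

/-- Conjugacy between singular points is induced by `H`. -/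
theorem exists_H_of_conj {i : ZMod p} (hi : i ≠ 0) {v : D.V} {i' : ZMod p} {v' : D.V} {y : G}
    (h : y * D.pt (i, v) * y⁻¹ = D.pt (i', v')) :
    ∃ h₁ : D.H, y * D.x * y⁻¹ = D.x ^ (D.r h₁).val ∧ (h₁ : G) * D.pt (i, v) * (h₁ : G)⁻¹ = D.pt (i', v') := by
  haveI := Fact.mk D.hp
  set m := orderOf (((v : D.H)) : G) * orderOf (((v' : D.H)) : G) with hm
  have h1 := congrArg (· ^ m) h
  have hmv : (((v : D.H)) : G) ^ m = 1 := by rw [hm, pow_mul, pow_orderOf_eq_one, one_pow]
  have hmv' : (((v' : D.H)) : G) ^ m = 1 := by rw [hm, mul_comm, pow_mul, pow_orderOf_eq_one, one_pow]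
  simp only [pt] at h1
  rw [_root_.conj_pow, (D.commute_xV _ v).mul_pow, (D.commute_xV _ v').mul_pow, hmv, hmv', mul_one, mul_one,
    ← pow_mul, ← pow_mul] at h1
  have hcop : ¬ p ∣ i.val * m := by
    intro hd
    rcases D.hp.dvd_mul.1 hd with hd | hd
    · exact hi ((ZMod.val_eq_zero i).1 (Nat.eq_zero_of_dvd_of_lt hd (ZMod.val_lt i)))
    · exact (D.hp.dvd_mul.1 hd).elim (D.orderOf_V_not_dvd v) (D.orderOf_V_not_dvd v')
  obtain ⟨l, hl⟩ := exists_pow_eq_self_of_coprime (x := D.x) (n := i.val * m)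
    (by rw [D.hx]; exact (D.hp.coprime_iff_not_dvd.2 hcop).symm)
  have hyx : y * D.x * y⁻¹ ∈ Subgroup.zpowers D.x := by
    have h3 : y * D.x * y⁻¹ = (D.x ^ (i'.val * m)) ^ l := by rw [← h1, _root_.conj_pow, hl]
    rw [h3]
    exact pow_mem (pow_mem (Subgroup.mem_zpowers _) _) _
  obtain ⟨a, ha, h₁, hh₁, rfl⟩ := D.hN y hyx
  obtain ⟨k, rfl⟩ := mem_powers_iff_mem_zpowers.2 ha
  refine ⟨⟨h₁, hh₁⟩, ?_, ?_⟩
  · rw [← D.conj_x ⟨h₁, hh₁⟩, mul_inv_rev]
    have hc : Commute (D.x ^ k) (h₁ * D.x * h₁⁻¹) := by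
      rw [show h₁ * D.x * h₁⁻¹ = D.x ^ _ from D.conj_x ⟨h₁, hh₁⟩]
      exact Commute.pow_pow_self _ _ _
    rw [show D.x ^ k * h₁ * D.x * (h₁⁻¹ * (D.x ^ k)⁻¹) = D.x ^ k * (h₁ * D.x * h₁⁻¹) * (D.x ^ k)⁻¹ by group,
      hc.eq, mul_inv_cancel_right]
  · have h2 := D.pt_conj ⟨h₁, hh₁⟩ i v
    have hc : ∀ q, Commute (D.x ^ k) (D.pt q) := fun q =>
      (Commute.pow_pow_self _ _ _).mul_right (D.commute_xV k q.2)
    rw [← h, mul_inv_rev]
    rw [show D.x ^ k * h₁ * D.pt (i, v) * (h₁⁻¹ * (D.x ^ k)⁻¹) =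
      D.x ^ k * (h₁ * D.pt (i, v) * h₁⁻¹) * (D.x ^ k)⁻¹ by group]
    simp only at h2 ⊢
    rw [h2, (hc _).eq, mul_inv_cancel_right]

/-- Every element of order divisible by `p` is conjugate to a singular point. -/
theorem exists_conj_pt {g : G} (hg : p ∣ orderOf g) :
    ∃ (y : G) (i : ZMod p) (v : D.V), i ≠ 0 ∧ y * g * y⁻¹ = D.pt (i, v) := by
  haveI := Fact.mk D.hp
  have hcP : Nat.card (Subgroup.zpowers D.x) = p ^ (Nat.card G).factorization p := by
    have h1 : (Nat.card G).factorization p = 1 := by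
      have hpd : p ∣ Nat.card G := hg.trans (orderOf_dvd_natCard g)
      have a1 := (D.hp.pow_dvd_iff_le_factorization Nat.card_pos.ne').not.1 D.hSyl
      have a2 := (D.hp.pow_dvd_iff_le_factorization Nat.card_pos.ne').1 (by simpa using hpd : p ^ 1 ∣ Nat.card G)
      omega
    rw [h1, pow_one, Nat.card_zpowers, D.hx]
  let P : Sylow p G := Sylow.ofCard (Subgroup.zpowers D.x) hcP
  set u := g ^ (orderOf g / p) with hu
  have hou : orderOf u = p := by
    rw [hu]
    exact orderOf_pow_orderOf_div (orderOf_pos g).ne' hg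
  have huP : IsPGroup p (Subgroup.zpowers u) := IsPGroup.of_card (n := 1) (by rw [Nat.card_zpowers, hou, pow_one])
  obtain ⟨Q, hQ⟩ := huP.exists_le_sylow
  obtain ⟨y, hy⟩ := MulAction.exists_smul_eq G Q P
  have hyu : y * u * y⁻¹ ∈ Subgroup.zpowers D.x := by
    have hm : y * u * y⁻¹ ∈ ((y • Q : Sylow p G) : Subgroup G) :=
      Subgroup.mem_map.2 ⟨u, hQ (Subgroup.mem_zpowers u), rfl⟩
    rw [hy] at hm
    exact hm
  obtain ⟨k, hk⟩ := mem_powers_iff_mem_zpowers.2 hyu
  simp only at hk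
  have hk0 : ¬ p ∣ k := by
    intro hd
    have : D.x ^ k = 1 := by rw [← orderOf_dvd_iff_pow_eq_one, D.hx]; exact hd
    rw [this] at hk
    have hu1 : u = 1 := by
      have h5 := congrArg (fun z => y⁻¹ * z * y) hk
      simpa [mul_assoc] using h5.symm
    rw [hu1, orderOf_one] at hou
    exact D.hp.ne_one hou.symm
  have hc : Commute (y * g * y⁻¹) D.x := by
    have h1 : Commute (y * g * y⁻¹) (D.x ^ k) := by
      rw [hk, hu, ← _root_.conj_pow]; exact Commute.self_pow _ _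
    obtain ⟨l, hl⟩ := exists_pow_eq_self_of_coprime (x := D.x) (n := k)
      (by rw [D.hx]; exact (D.hp.coprime_iff_not_dvd.2 hk0).symm)
    rw [← hl]; exact h1.pow_right l
  obtain ⟨⟨i, v⟩, hiv⟩ := D.exists_pt hc
  refine ⟨y, i, v, fun hi => D.orderOf_V_not_dvd v ?_, hiv⟩
  have : orderOf (y * g * y⁻¹) = orderOf g := MulEquiv.orderOf_eq (MulAut.conj y) g
  rw [hiv, hi] at this
  simp only [pt, ZMod.val_zero, pow_zero, one_mul] at this
  rw [this]; exact hg

end Data

end CfsgLib.DefectOne
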